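import Groth.Agent.L13.Purity.Scheme
import Groth.Agent.L27.SGA1.FEtFaithful
import Groth.Agent.L27.NormalSepClosed.FEt
import Groth.Prelude.Def_FEt

/-! Purity for finite etale covers of regular schemes. -/

set_option autoImplicit false
set_option linter.style.haveILetI false
set_option backward.isDefEq.respectTransparency.types false

universe u

open CategoryTheory CategoryTheory.Limits AlgebraicGeometry TopologicalSpace

namespace Groth.L13.Purity

variable {X : Scheme.{u}}

theorem quasiCompact_of_finite_etale [AlgebraicGeometry.IsNoetherian X] (U : X.Opens) {V : Scheme.{u}} (h : V ⟶ U)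
    [IsFinite h] : QuasiCompact (h ≫ U.ι) := inferInstance

theorem dense_of_big [AlgebraicGeometry.IsNoetherian X] (hreg : ∀ x : X, IsRegularLocalRing (X.presheaf.stalk x))
    (U : X.Opens) (hU : ∀ x : X, x ∉ U → (2 : WithBot ℕ∞) ≤ ringKrullDim (X.presheaf.stalk x)) :
    Dense (U : Set X) := by
  haveI := fun x : X => (haveI := hreg x; Groth.L01.isDomain_of_regular (X.presheaf.stalk x))
  intro x
  obtain ⟨D, hD, hxD, hdom⟩ := exists_isDomain_nhd x
  haveI := hdom
  let y : PrimeSpectrum Γ(X, D) := ⟨⊥, Ideal.isPrime_bot⟩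
  have hy : hD.fromSpec y ∈ D := hD.range_fromSpec.subset ⟨y, rfl⟩
  letI := TopCat.Presheaf.algebra_section_stalk X.presheaf ⟨hD.fromSpec y, hy⟩
  haveI : IsLocalization.AtPrime (X.presheaf.stalk (hD.fromSpec y)) (⊥ : Ideal Γ(X, D)) := hD.isLocalization_stalk' y hy
  have hyU : hD.fromSpec y ∈ U := by
    by_contra hn
    have h2 := hU _ hn
    rw [IsLocalization.AtPrime.ringKrullDim_eq_height (⊥ : Ideal Γ(X, D)) (X.presheaf.stalk (hD.fromSpec y)),
      Ideal.height_bot] at h2
    exact absurd h2 (by decide)
  have hsp : hD.fromSpec y ⤳ x := by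
    have h0 : y ⤳ hD.primeIdealOf ⟨x, hxD⟩ := (PrimeSpectrum.le_iff_specializes _ _).1 bot_le
    have h1 := h0.map hD.fromSpec.continuous
    rwa [hD.fromSpec_primeIdealOf ⟨x, hxD⟩] at h1
  exact hsp.mem_closed isClosed_closure (subset_closure hyU)

variable (U : X.Opens) {V : Scheme.{u}} (h : V ⟶ U)

/-- the comparison of a cover of `U` with the restriction of its normalisation -/
theorem isIso_lift_toNormalization [IsFinite h] [QuasiCompact (h ≫ U.ι)] :
    IsIso (pullback.lift (h ≫ U.ι).toNormalization h (Scheme.Hom.toNormalization_fromNormalization _) :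
      V ⟶ pullback (h ≫ U.ι).fromNormalization U.ι) := by
  let g := h ≫ U.ι
  let j : V ⟶ pullback g U.ι := pullback.lift (𝟙 V) h (Category.id_comp _)
  have hj : j ≫ pullback.snd g U.ι = h := pullback.lift_snd _ _ _
  have hjf : j ≫ pullback.fst g U.ι = 𝟙 V := pullback.lift_fst _ _ _
  have hsnd : pullback.fst g U.ι ≫ h = pullback.snd g U.ι := by
    rw [← cancel_mono U.ι, Category.assoc]
    exact pullback.condition
  haveI : IsIso j := ⟨pullback.fst g U.ι, hjf, by
    apply pullback.hom_ext
    · rw [Category.assoc, hjf, Category.comp_id, Category.id_comp]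
    · rw [Category.assoc, hj, hsnd, Category.id_comp]⟩
  haveI : IsIso (pullback.fst g U.ι) := by
    have : pullback.fst g U.ι = inv j := by rw [← cancel_epi j, hjf, IsIso.hom_inv_id]
    rw [this]; infer_instance
  haveI : IsFinite (pullback.snd g U.ι) := hsnd ▸ inferInstance
  haveI : IsIntegralHom (pullback.snd g U.ι) := inferInstance
  have hv : pullback.lift g.toNormalization h (Scheme.Hom.toNormalization_fromNormalization _) =
      j ≫ (pullback.snd g U.ι).toNormalization ≫ g.normalizationPullback U.ι := by
    apply pullback.hom_ext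
    · rw [pullback.lift_fst, Category.assoc, Category.assoc, Scheme.Hom.toNormalization_normalizationPullback_fst,
        ← Category.assoc, hjf, Category.id_comp]
    · rw [pullback.lift_snd, Category.assoc, Category.assoc, Scheme.Hom.normalizationPullback_snd,
        Scheme.Hom.toNormalization_fromNormalization, hj]
  rw [hv]
  infer_instance

variable [AlgebraicGeometry.IsNoetherian X] (hreg : ∀ x : X, IsRegularLocalRing (X.presheaf.stalk x))
  (hU : ∀ x : X, x ∉ U → (2 : WithBot ℕ∞) ≤ ringKrullDim (X.presheaf.stalk x))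

include hreg hU

theorem essSurj_restrict : (FEt.restrict U.ι).EssSurj := by
  refine ⟨fun Y => ?_⟩
  haveI : Etale Y.hom := Y.prop.2
  haveI : IsFinite Y.hom := Y.prop.1
  haveI := quasiCompact_of_finite_etale U Y.hom
  obtain ⟨h1, h2⟩ := finite_etale_fromNormalization hreg U hU Y.hom
  let W : FEt.Cat X := MorphismProperty.Over.mk ⊤ (Y.hom ≫ U.ι).fromNormalization ⟨h1, h2⟩
  let v : Y.left ⟶ ((FEt.restrict U.ι).obj W).left := pullback.lift (Y.hom ≫ U.ι).toNormalization Y.hom
    (Scheme.Hom.toNormalization_fromNormalization _)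
  haveI : IsIso v := isIso_lift_toNormalization U Y.hom
  refine ⟨W, ⟨(MorphismProperty.Over.isoMk (asIso v) ?_).symm⟩⟩
  exact pullback.lift_snd _ _ _

theorem full_restrict : (FEt.restrict U.ι).Full := by
  refine ⟨fun {A B} φ => ?_⟩
  haveI : Etale A.hom := A.prop.2
  haveI : IsFinite A.hom := A.prop.1
  haveI : Etale B.hom := B.prop.2
  haveI : IsFinite B.hom := B.prop.1
  let f := pullback.fst A.hom U.ι
  let h := pullback.snd A.hom U.ι
  haveI : IsFinite h := MorphismProperty.pullback_snd (P := @IsFinite) _ _ inferInstance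
  haveI : Etale h := inferInstance
  haveI := quasiCompact_of_finite_etale U h
  let g := h ≫ U.ι
  obtain ⟨h1, h2⟩ := finite_etale_fromNormalization hreg U hU h
  haveI := isIso_lift_toNormalization U h
  have hφ : φ.left ≫ pullback.snd B.hom U.ι = h := MorphismProperty.Over.w φ
  let a := g.normalizationDesc f A.hom pullback.condition.symm
  let b := g.normalizationDesc (φ.left ≫ pullback.fst B.hom U.ι) B.hom (by
    refine Eq.trans ?_ (Category.assoc _ _ _).symm
    refine Eq.trans ?_ (congrArg (φ.left ≫ ·) pullback.condition.symm)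
    exact ((congrArg (· ≫ U.ι) hφ).symm.trans (Category.assoc _ _ _)))
  have ha : a ≫ A.hom = g.fromNormalization := g.normalizationDesc_comp ..
  have hb : b ≫ B.hom = g.fromNormalization := g.normalizationDesc_comp ..
  haveI : Etale (a ≫ A.hom) := ha.symm ▸ h2
  haveI : IsFinite (a ≫ A.hom) := ha.symm ▸ h1
  haveI : Etale a := Etale.of_comp a A.hom
  haveI : IsFinite a := IsFinite.of_comp a A.hom
  haveI : IsIso (pullback.snd a f) := by
    have q : IsPullback (pullback.fst a f) (pullback.snd a f ≫ h) g.fromNormalization U.ι :=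
      ha ▸ (IsPullback.of_hasPullback a f).paste_vert (IsPullback.of_hasPullback A.hom U.ι)
    let s : pullback A.hom U.ι ⟶ pullback a f :=
      pullback.lift g.toNormalization (𝟙 _) ((g.toNormalization_normalizationDesc ..).trans (Category.id_comp _).symm)
    have hs : s ≫ pullback.snd a f = 𝟙 _ := pullback.lift_snd _ _ _
    have hsq : s ≫ q.isoPullback.hom = pullback.lift g.toNormalization h (Scheme.Hom.toNormalization_fromNormalization _) := by
      apply pullback.hom_ext
      · rw [Category.assoc, q.isoPullback_hom_fst, pullback.lift_fst, pullback.lift_fst]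
      · rw [Category.assoc, q.isoPullback_hom_snd, ← Category.assoc, hs, Category.id_comp, pullback.lift_snd]
    haveI : IsIso (s ≫ q.isoPullback.hom) := hsq ▸ inferInstance
    haveI : IsIso s := IsIso.of_isIso_comp_right s q.isoPullback.hom
    exact IsIso.of_isIso_fac_left hs
  haveI : IsIso a := Groth.L27.NormalSepClosed.isIso_of_restrict a f fun Z z _ _ C hC hne => by
    obtain ⟨x, hx, hxU⟩ := (dense_of_big hreg U hU).inter_open_nonempty _
      ((z ≫ A.hom).isOpenMap _ hC.2) (hne.image _)
    obtain ⟨c, hc, rfl⟩ := hx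
    refine ⟨c, hc, ?_⟩
    rw [Scheme.Pullback.range_fst, Scheme.Opens.range_ι]
    exact hxU
  refine ⟨MorphismProperty.Over.homMk (inv a ≫ b) (by rw [Category.assoc, hb, IsIso.inv_comp_eq, ha]), ?_⟩
  refine MorphismProperty.Over.Hom.ext (pullback.hom_ext ?_ ?_)
  · refine (Groth.L27.SGA1Conn.restrict_map_fst _ _).trans ?_
    show f ≫ inv a ≫ b = _
    have hfa : f ≫ inv a = g.toNormalization := by
      rw [IsIso.comp_inv_eq]; exact (g.toNormalization_normalizationDesc ..).symm
    rw [← Category.assoc, hfa]
    exact g.toNormalization_normalizationDesc ..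
  · exact (pullback.lift_snd _ _ _).trans hφ.symm

theorem isEquivalence_restrict : (FEt.restrict U.ι).IsEquivalence := by
  haveI := essSurj_restrict U hreg hU
  haveI := full_restrict U hreg hU
  haveI : (FEt.restrict U.ι).Faithful := Groth.L27.SGA1Conn.faithful_of_denseRange _
    (by rw [DenseRange, Scheme.Opens.range_ι]; exact dense_of_big hreg U hU)
  exact { }

end Groth.L13.Purity
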