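import Mathlib.AlgebraicGeometry.Morphisms.Flat
import Mathlib.AlgebraicGeometry.Morphisms.IsIso
import Mathlib.AlgebraicGeometry.Noetherian
import Mathlib.AlgebraicGeometry.Stalk
import Groth.Prelude.Def_FEt
import Groth.Agent.L19.Approx.Glue

/-! Gluing finite etale covers along opens of the base. -/

set_option autoImplicit false
set_option linter.style.haveILetI false
set_option backward.isDefEq.respectTransparency.types false

universe u

open CategoryTheory CategoryTheory.Limits AlgebraicGeometry TopologicalSpace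

namespace Groth.L13.Purity.Spread

variable {X : Scheme.{u}}

/-- A morphism to an open whose composite is `w`, when all of `w` lies over the open. -/
theorem isPullback_of_fac {W : Scheme.{u}} (w : W ⟶ X) (U : X.Opens) (w' : W ⟶ U) (h : w' ≫ U.ι = w) :
    IsPullback w' (𝟙 W) U.ι w := by
  refine IsOpenImmersion.isPullback w' (𝟙 W) U.ι w (by rw [Category.id_comp, h]) ?_
  rw [Scheme.Opens.opensRange_ι]
  ext p
  refine ⟨fun _ => ⟨p, rfl⟩, fun _ => ?_⟩
  show w p ∈ U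
  rw [← h, Scheme.Hom.comp_apply]
  exact (w' p).2

theorem prop_of_isPullback {A B : Scheme.{u}} {U : X.Opens} {W : Scheme.{u}} {w : W ⟶ X} {a : A ⟶ B} {i : A ⟶ W}
    {j : B ⟶ X} (h : IsPullback i a w j) (e : B ≅ U.toScheme) (he : e.hom ≫ U.ι = j) :
    FEt.prop (w ∣_ U) ↔ FEt.prop a := by
  have h1 : IsPullback i (a ≫ e.hom) w U.ι := by
    refine h.of_iso (Iso.refl _) (Iso.refl _) e (Iso.refl _) ?_ ?_ ?_ ?_ <;> simp [he]
  have h2 := (isPullback_morphismRestrict w U).flip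
  rw [← MorphismProperty.cancel_right_of_respectsIso (P := FEt.prop) a e.hom,
    ← h1.isoIsPullback_hom_snd _ _ h2, MorphismProperty.cancel_left_of_respectsIso (P := FEt.prop)]

theorem prop_restrict_iff {W : Scheme.{u}} (w : W ⟶ X) (U : X.Opens) (w' : W ⟶ U) (h : w' ≫ U.ι = w) :
    FEt.prop (w ∣_ U) ↔ FEt.prop w' :=
  prop_of_isPullback (isPullback_of_fac w U w' h).flip (Iso.refl _) (Category.id_comp _)

theorem isOpenImmersion_of_pieces {W Y : Scheme.{u}} (i : W ⟶ Y) {κ : Type*} (O : κ → Y.Opens)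
    (hsup : i ⁻¹ᵁ (⨆ k, O k) = ⊤) (h : ∀ k, IsOpenImmersion ((i ⁻¹ᵁ O k).ι ≫ i))
    (hr : ∀ k, ∀ y ∈ O k, y ∈ Set.range i) :
    IsOpenImmersion i ∧ Set.range i = (⨆ k, O k : Y.Opens) := by
  let U : Y.Opens := ⨆ k, O k
  let i' : W ⟶ U := IsOpenImmersion.lift U.ι i (by
    rintro _ ⟨p, rfl⟩
    rw [Scheme.Opens.range_ι]
    exact (show p ∈ i ⁻¹ᵁ U from hsup ▸ trivial))
  have hi : i' ≫ U.ι = i := IsOpenImmersion.lift_fac _ _ _
  haveI hiso : ∀ k, IsIso (i' ∣_ (U.ι ⁻¹ᵁ O k)) := by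
    intro k
    have hk : i' ⁻¹ᵁ (U.ι ⁻¹ᵁ O k) = i ⁻¹ᵁ O k := by rw [← Scheme.Hom.comp_preimage, hi]
    haveI : IsOpenImmersion ((i' ⁻¹ᵁ (U.ι ⁻¹ᵁ O k)).ι ≫ i) := hk ▸ h k
    haveI : IsOpenImmersion (i' ∣_ (U.ι ⁻¹ᵁ O k) ≫ (U.ι ⁻¹ᵁ O k).ι ≫ U.ι) := by
      rw [morphismRestrict_ι_assoc, hi]; infer_instance
    haveI := IsOpenImmersion.of_comp (i' ∣_ (U.ι ⁻¹ᵁ O k)) ((U.ι ⁻¹ᵁ O k).ι ≫ U.ι)
    haveI : Surjective (i' ∣_ (U.ι ⁻¹ᵁ O k)) := by
      refine ⟨fun z => ?_⟩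
      obtain ⟨p, hp⟩ := hr k z.1.1 z.2
      refine ⟨⟨p, ?_⟩, ?_⟩
      · show i' p ∈ U.ι ⁻¹ᵁ O k
        show U.ι (i' p) ∈ O k
        rw [← Scheme.Hom.comp_apply, hi, hp]
        exact z.2
      · apply Subtype.ext; apply Subtype.ext
        rw [morphismRestrict_base_coe]
        show U.ι (i' p) = _
        rw [← Scheme.Hom.comp_apply, hi, hp]
    exact (isIso_iff_isOpenImmersion_and_surjective _).2 ⟨inferInstance, inferInstance⟩
  haveI : IsIso i' := by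
    have := (IsZariskiLocalAtTarget.iff_of_iSup_eq_top (P := MorphismProperty.isomorphisms Scheme.{u})
      (f := i') (fun k => U.ι ⁻¹ᵁ O k) (by
        rw [← Scheme.Hom.preimage_iSup]; exact U.ι_preimage_self)).2 (fun k => hiso k)
    exact this
  refine ⟨hi ▸ inferInstance, ?_⟩
  rw [← hi]
  show Set.range (i' ≫ U.ι) = _
  rw [Scheme.Hom.comp_base, TopCat.coe_comp, Set.range_comp, Set.range_eq_univ.2 i'.surjective,
    Set.image_univ, Scheme.Opens.range_ι]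

variable (U : X.Opens) {V : Scheme.{u}} (vh : V ⟶ U)

/-- The cover `vh` of `U` extends to a finite etale cover of `U'`. -/
def Ext (U' : X.Opens) : Prop :=
  ∃ (W : Scheme.{u}) (w : W ⟶ X) (v : V ⟶ W), w ⁻¹ᵁ U' = ⊤ ∧ FEt.prop (w ∣_ U') ∧ IsPullback v vh w U.ι

theorem ext_self (h : FEt.prop vh) : Ext U vh U := by
  refine ⟨V, vh ≫ U.ι, 𝟙 V, ?_, (prop_restrict_iff _ _ vh rfl).2 h, (isPullback_of_fac _ U vh rfl).flip⟩
  rw [Scheme.Hom.comp_preimage, U.ι_preimage_self]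
  rfl

theorem ext_sup {U' D : X.Opens} (hle : U ≤ U') {W Y : Scheme.{u}} (w : W ⟶ X) (v : V ⟶ W)
    (hw : w ⁻¹ᵁ U' = ⊤) (hwp : FEt.prop (w ∣_ U')) (hv : IsPullback v vh w U.ι)
    (y : Y ⟶ X) (y' : Y ⟶ D) (hy : y' ≫ D.ι = y) (hyp : FEt.prop y')
    (i : (w ⁻¹ᵁ D).toScheme ⟶ Y) [IsOpenImmersion i] (hi : i ≫ y = (w ⁻¹ᵁ D).ι ≫ w)
    (hr : ∀ η, y η ∈ U' → η ∈ Set.range i) : Ext U vh (U' ⊔ D) := by
  let a := (w ⁻¹ᵁ D).ι
  let z : pushout a i ⟶ X := pushout.desc w y hi.symm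
  have hzl : pushout.inl a i ≫ z = w := pushout.inl_desc _ _ _
  have hzr : pushout.inr a i ≫ z = y := pushout.inr_desc _ _ _
  have hl : ∀ ω, z (pushout.inl a i ω) = w ω := fun ω => by rw [← Scheme.Hom.comp_apply, hzl]
  have hrr : ∀ η, z (pushout.inr a i η) = y η := fun η => by rw [← Scheme.Hom.comp_apply, hzr]
  have hwU : ∀ ω, w ω ∈ U' := fun ω => (show ω ∈ w ⁻¹ᵁ U' from hw ▸ trivial)
  have hyD : ∀ η, y η ∈ D := fun η => by rw [← hy, Scheme.Hom.comp_apply]; exact (y' η).2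
  have hU' : z ⁻¹ᵁ U' = (pushout.inl a i).opensRange := by
    ext p
    constructor
    · intro hp
      rcases Groth.L19.Approx.exists_inl_or_inr a i p with ⟨ω, rfl⟩ | ⟨η, rfl⟩
      · exact ⟨ω, rfl⟩
      · obtain ⟨q, rfl⟩ := hr η (by rw [← hrr]; exact hp)
        exact ⟨a q, congr($(pushout.condition (f := a) (g := i)) q)⟩
    · rintro ⟨ω, rfl⟩
      show z _ ∈ U'
      rw [hl]; exact hwU ω
  have hD : z ⁻¹ᵁ D = (pushout.inr a i).opensRange := by
    ext p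
    constructor
    · intro hp
      rcases Groth.L19.Approx.exists_inl_or_inr a i p with ⟨ω, rfl⟩ | ⟨η, rfl⟩
      · let q : (w ⁻¹ᵁ D).toScheme := ⟨ω, by show w ω ∈ D; rw [← hl]; exact hp⟩
        exact ⟨i q, (congr($(pushout.condition (f := a) (g := i)) q)).symm⟩
      · exact ⟨η, rfl⟩
    · rintro ⟨η, rfl⟩
      show z _ ∈ D
      rw [hrr]; exact hyD η
  let wl : W ⟶ U' := IsOpenImmersion.lift U'.ι w (by
    rintro _ ⟨p, rfl⟩; rw [Scheme.Opens.range_ι]; exact hwU p)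
  have hwl : wl ≫ U'.ι = w := IsOpenImmersion.lift_fac _ _ _
  have q1 : IsPullback (pushout.inl a i) wl z U'.ι :=
    (IsOpenImmersion.isPullback wl (pushout.inl a i) U'.ι z (by rw [hzl, hwl])
      (by rw [Scheme.Opens.opensRange_ι, hU'])).flip
  have q2 : IsPullback (pushout.inr a i) y' z D.ι :=
    (IsOpenImmersion.isPullback y' (pushout.inr a i) D.ι z (by rw [hzr, hy])
      (by rw [Scheme.Opens.opensRange_ι, hD])).flip
  have p1 : FEt.prop (z ∣_ U') :=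
    (prop_of_isPullback q1 (Iso.refl _) (Category.id_comp _)).2 ((prop_restrict_iff w U' wl hwl).1 hwp)
  have p2 : FEt.prop (z ∣_ D) := (prop_of_isPullback q2 (Iso.refl _) (Category.id_comp _)).2 hyp
  refine ⟨_, z, v ≫ pushout.inl a i, ?_, ?_, ?_⟩
  · rw [Scheme.Hom.preimage_sup, hU', hD]
    exact Groth.L19.Approx.opensRange_sup_opensRange a i
  · have hcov : ⨆ b : Bool, (U' ⊔ D).ι ⁻¹ᵁ (cond b U' D) = ⊤ := by
      rw [← Scheme.Hom.preimage_iSup, iSup_bool_eq]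
      exact (U' ⊔ D).ι_preimage_self
    have key : ∀ O : X.Opens, O ≤ U' ⊔ D → FEt.prop (z ∣_ O) → FEt.prop (z ∣_ (U' ⊔ D) ∣_ ((U' ⊔ D).ι ⁻¹ᵁ O)) := by
      intro O hO h
      rw [MorphismProperty.arrow_mk_iso_iff FEt.prop (morphismRestrictRestrict z _ _ ≪≫ morphismRestrictEq z (V := O) (by
        rw [Scheme.Hom.image_preimage_eq_opensRange_inf, Scheme.Opens.opensRange_ι]
        exact inf_eq_right.2 hO))]
      exact h
    refine ⟨(IsZariskiLocalAtTarget.iff_of_iSup_eq_top (P := @IsFinite) _ hcov).2 ?_,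
      (IsZariskiLocalAtTarget.iff_of_iSup_eq_top (P := @Etale) _ hcov).2 ?_⟩
    · intro b; cases b
      exacts [(key D le_sup_right p2).1, (key U' le_sup_left p1).1]
    · intro b; cases b
      exacts [(key D le_sup_right p2).2, (key U' le_sup_left p1).2]
  · have h0 : IsPullback v vh wl (X.homOfLE hle) :=
      IsPullback.of_right (h₁₂ := 𝟙 W) (h₂₂ := U'.ι) (v₁₃ := w) (by simpa using hv)
        (by rw [← cancel_mono U'.ι, Category.assoc, hwl, Category.assoc, Scheme.homOfLE_ι]; exact hv.w)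
        (isPullback_of_fac w U' wl hwl).flip
    have := h0.paste_horiz q1
    rwa [Scheme.homOfLE_ι] at this

end Groth.L13.Purity.Spread
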