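import Groth.Agent.L13.Purity.SpreadAlg
import Groth.Agent.L13.Purity.SpreadGlue

/-! Essential surjectivity of restriction to an open from purity at the points outside. -/

set_option autoImplicit false
set_option linter.style.haveILetI false
set_option backward.isDefEq.respectTransparency.types false

universe u

open CategoryTheory CategoryTheory.Limits AlgebraicGeometry TopologicalSpace

namespace Groth.L13.Purity.Spread

variable {X : Scheme.{u}}

theorem isLocalization_res {W : Scheme.{u}} {U O : W.Opens} (f : Γ(W, U)) (e : O = W.basicOpen f) (hle : O ≤ U)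
    (hU : IsCompact (U : Set W)) (hU' : IsQuasiSeparated (U : Set W)) :
    @IsLocalization.Away _ _ f Γ(W, O) _ (W.presheaf.map (homOfLE hle).op).hom.toAlgebra := by
  subst e
  exact isLocalization_basicOpen_of_qcqs hU hU' f

/-- The chart: an algebra model over a basic open gives a scheme containing the given cover as an open. -/
theorem exists_chart {W : Scheme.{u}} (w : W ⟶ X) [CompactSpace W] [NoetherianSpace W] [QuasiSeparatedSpace W]
    {U' D : X.Opens} (hD : IsAffineOpen D) (hw : w ⁻¹ᵁ U' = ⊤)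
    (s : Finset Γ(X, D)) (hs : ∀ q ∈ D, q ∈ U' → ∃ h ∈ s, q ∈ X.basicOpen h)
    (hsU : ∀ h ∈ s, X.basicOpen h ≤ U') [hwaff : ∀ h : s, IsAffine (w ⁻¹ᵁ X.basicOpen h.1).toScheme]
    (g : Γ(X, D)) (S : Type u) [CommRing S] [Algebra Γ(X, D) S] [Module.Finite Γ(X, D) S]
    [het : Algebra.Etale (Localization.Away g) (TensorProduct Γ(X, D) (Localization.Away g) S)]
    (φ : S →+* Γ(W, w ⁻¹ᵁ D)) (hφ : φ.comp (algebraMap Γ(X, D) S) = (w.app D).hom)
    (hsurj : ∀ h ∈ s, ∀ c : Γ(W, w ⁻¹ᵁ D), ∃ n : ℕ, ∃ x : S, φ x = (w.app D).hom ((g * h) ^ n) * c)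
    (hinj : ∀ h ∈ s, ∀ x : S, φ x = 0 → ∃ n : ℕ, (g * h) ^ n • x = 0) :
    ∃ (Y : Scheme.{u}) (y : Y ⟶ X) (y' : Y ⟶ X.basicOpen g) (i : (w ⁻¹ᵁ X.basicOpen g).toScheme ⟶ Y),
      y' ≫ (X.basicOpen g).ι = y ∧ FEt.prop y' ∧ IsOpenImmersion i ∧
      i ≫ y = (w ⁻¹ᵁ X.basicOpen g).ι ≫ w ∧ ∀ η, y η ∈ U' → η ∈ Set.range i := by
  letI : Algebra Γ(X, D) Γ(W, w ⁻¹ᵁ D) := (w.app D).hom.toAlgebra
  let φa : S →ₐ[Γ(X, D)] Γ(W, w ⁻¹ᵁ D) := { φ with commutes' := fun r => DFunLike.congr_fun hφ r }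
  have hgle : X.basicOpen g ≤ D := X.basicOpen_le g
  let RD := Γ(X, X.basicOpen g)
  letI : Algebra Γ(X, D) RD := (X.presheaf.map (homOfLE hgle).op).hom.toAlgebra
  haveI : IsLocalization.Away g RD := hD.isLocalization_basicOpen g
  letI : Algebra (Localization.Away g) RD :=
    (IsLocalization.algEquiv (.powers g) (Localization.Away g) RD).toAlgHom.toRingHom.toAlgebra
  haveI : IsScalarTower Γ(X, D) (Localization.Away g) RD := IsScalarTower.of_algebraMap_eq fun r =>
    ((IsLocalization.algEquiv (.powers g) (Localization.Away g) RD).commutes r).symm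
  let T := TensorProduct Γ(X, D) RD S
  haveI : Algebra.Etale RD T :=
    Algebra.Etale.of_equiv (Algebra.TensorProduct.cancelBaseChange Γ(X, D) (Localization.Away g) RD RD S)
  let W' := w ⁻¹ᵁ X.basicOpen g
  have hW'le : W' ≤ w ⁻¹ᵁ D := Scheme.Hom.preimage_mono w hgle
  letI : Algebra Γ(X, D) Γ(W, W') := (w.appLE D W' hW'le).hom.toAlgebra
  let l1 : RD →ₐ[Γ(X, D)] Γ(W, W') :=
    { (w.app (X.basicOpen g)).hom with
      commutes' := fun r => by
        show ((X.presheaf.map (homOfLE hgle).op) ≫ w.app (X.basicOpen g)).hom r = _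
        rw [Scheme.Hom.naturality]
        rfl }
  let l2 : S →ₐ[Γ(X, D)] Γ(W, W') :=
    { (W.presheaf.map (homOfLE hW'le).op).hom.comp φ with
      commutes' := fun r => by
        show (W.presheaf.map (homOfLE hW'le).op).hom (φa (algebraMap Γ(X, D) S r)) = _
        rw [φa.commutes]
        rfl }
  let ψa : T →ₐ[Γ(X, D)] Γ(W, W') := Algebra.TensorProduct.lift l1 l2 fun _ _ => mul_comm _ _
  let Y : Scheme.{u} := Spec (CommRingCat.of T)
  let yR : Y ⟶ Spec RD := Spec.map (CommRingCat.ofHom (algebraMap RD T))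
  let y : Y ⟶ X := yR ≫ (hD.basicOpen g).fromSpec
  let y' : Y ⟶ X.basicOpen g := yR ≫ (hD.basicOpen g).isoSpec.inv
  let i : W'.toScheme ⟶ Y := W'.toSpecΓ ≫ Spec.map (CommRingCat.ofHom ψa.toRingHom)
  have hy' : y' ≫ (X.basicOpen g).ι = y := by
    simp only [y', y, Category.assoc, IsAffineOpen.isoSpec_inv_ι]
  have hprop : FEt.prop y' := by
    rw [MorphismProperty.cancel_right_of_respectsIso (P := FEt.prop)]
    haveI : Module.Finite RD T := inferInstance
    exact ⟨(IsFinite.SpecMap_iff _).2 (RingHom.finite_algebraMap.2 inferInstance),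
      (HasRingHomProperty.Spec_iff (P := @Etale)).2 (RingHom.etale_algebraMap.2 inferInstance)⟩
  have hiy : i ≫ y = W'.ι ≫ w := by
    have h1 : CommRingCat.ofHom (algebraMap RD T) ≫ CommRingCat.ofHom ψa.toRingHom =
        w.appLE (X.basicOpen g) W' le_rfl := by
      ext r
      show ψa (r ⊗ₜ 1) = _
      rw [Algebra.TensorProduct.lift_tmul, map_one, mul_one, Scheme.Hom.appLE_eq_app]
      rfl
    simp only [i, y, yR, Category.assoc]
    rw [← Spec.map_comp_assoc, h1, Scheme.Opens.toSpecΓ_SpecMap_appLE_assoc]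
    simp [IsAffineOpen.toSpecΓ_fromSpec]
  refine ⟨Y, y, y', i, hy', hprop, ?_⟩
  let hT : s → T := fun h => algebraMap Γ(X, D) T h.1
  let O : s → Y.Opens := fun h => PrimeSpectrum.basicOpen (hT h)
  have hyO : ∀ h : s, y ⁻¹ᵁ X.basicOpen h.1 = O h := by
    intro h
    have h0 : (hD.basicOpen g).fromSpec ⁻¹ᵁ X.basicOpen h.1 =
        PrimeSpectrum.basicOpen ((X.presheaf.map (homOfLE hgle).op).hom h.1) := by
      rw [← (hD.basicOpen g).fromSpec_preimage_basicOpen, Scheme.basicOpen_res, Scheme.Hom.preimage_inf,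
        (hD.basicOpen g).fromSpec_preimage_self, top_inf_eq]
    simp only [y, Scheme.Hom.comp_preimage, h0]
    ext η
    rfl
  have hiO : ∀ h : s, i ⁻¹ᵁ O h = W'.ι ⁻¹ᵁ (w ⁻¹ᵁ X.basicOpen h.1) := by
    intro h; rw [← hyO, ← Scheme.Hom.comp_preimage, hiy, Scheme.Hom.comp_preimage]
  have hpieces : ∀ h : s, IsOpenImmersion ((i ⁻¹ᵁ O h).ι ≫ i) ∧ Set.range ((i ⁻¹ᵁ O h).ι ≫ i) = O h := by
    intro h
    -- the affine open of `W` over `D(g h)`
    let O' : W.Opens := w ⁻¹ᵁ (X.basicOpen g ⊓ X.basicOpen h.1)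
    have hO'W' : O' ≤ W' := Scheme.Hom.preimage_mono w inf_le_left
    have hO'b : O' = W.basicOpen ((w.app D).hom (g * h.1)) := by
      rw [map_mul, Scheme.basicOpen_mul, ← Scheme.preimage_basicOpen, ← Scheme.preimage_basicOpen]
      rfl
    have hO'aff : IsAffineOpen O' := by
      have hc : IsAffineOpen (w ⁻¹ᵁ X.basicOpen h.1) := hwaff h
      have : O' = W.basicOpen ((w.appLE D (w ⁻¹ᵁ X.basicOpen h.1) (Scheme.Hom.preimage_mono w (X.basicOpen_le _))).hom g) := by
        rw [Scheme.basicOpen_appLE]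
        show w ⁻¹ᵁ (X.basicOpen g ⊓ X.basicOpen h.1) = _
        rw [Scheme.Hom.preimage_inf, inf_comm]
      rw [this]; exact hc.basicOpen _
    letI : Algebra Γ(W, w ⁻¹ᵁ D) Γ(W, O') :=
      (W.presheaf.map (homOfLE (hO'W'.trans hW'le)).op).hom.toAlgebra
    haveI : IsLocalization.Away ((w.app D).hom (g * h.1)) Γ(W, O') := by
      exact isLocalization_res _ hO'b (hO'W'.trans hW'le) (NoetherianSpace.isCompact _)
        (IsQuasiSeparated.of_quasiSeparatedSpace _)
    let ρ : T →+* Γ(W, O') := (W.presheaf.map (homOfLE hO'W').op).hom.comp ψa.toRingHom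
    have hρ2 : ∀ x : S, ρ (1 ⊗ₜ x) = algebraMap Γ(W, w ⁻¹ᵁ D) Γ(W, O') (φ x) := by
      intro x
      show (W.presheaf.map (homOfLE hO'W').op).hom (ψa (1 ⊗ₜ x)) = _
      rw [Algebra.TensorProduct.lift_tmul, map_one, one_mul]
      exact congr($((W.presheaf.map_comp (homOfLE hW'le).op (homOfLE hO'W').op).symm) (φ x))
    have hρR : ∀ r : Γ(X, D), ρ (algebraMap Γ(X, D) T r) = algebraMap Γ(W, w ⁻¹ᵁ D) Γ(W, O') ((w.app D).hom r) := by
      intro r
      have : algebraMap Γ(X, D) T r = 1 ⊗ₜ algebraMap Γ(X, D) S r := by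
        rw [Algebra.algebraMap_eq_smul_one, Algebra.algebraMap_eq_smul_one, TensorProduct.tmul_smul]; rfl
      rw [this, hρ2]
      exact congrArg _ (φa.commutes r)
    letI : Algebra S T := Algebra.TensorProduct.rightAlgebra
    haveI : IsScalarTower Γ(X, D) S T := Algebra.TensorProduct.right_isScalarTower
    haveI hTloc : IsLocalization (Algebra.algebraMapSubmonoid S (Submonoid.powers g)) T := inferInstance
    have hgu : IsUnit (algebraMap Γ(X, D) T g) := by
      rw [IsScalarTower.algebraMap_apply Γ(X, D) RD T]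
      exact (IsLocalization.Away.algebraMap_isUnit g).map _
    have hone : ∀ x : S, algebraMap S T x = 1 ⊗ₜ x := fun _ => rfl
    letI : Algebra T Γ(W, O') := ρ.toAlgebra
    haveI : IsLocalization.Away (hT h) Γ(W, O') := by
      refine { map_units := ?_, surj := ?_, exists_of_eq := ?_ }
      · rintro ⟨_, n, rfl⟩
        show IsUnit (ρ (hT h ^ n))
        rw [map_pow, hρR]
        refine IsUnit.pow _ ?_
        have := IsLocalization.Away.algebraMap_isUnit (S := Γ(W, O')) ((w.app D).hom (g * h.1))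
        rw [map_mul, map_mul] at this
        exact (IsUnit.mul_iff.1 this).2
      · intro z
        obtain ⟨⟨c, _, n, rfl⟩, hz⟩ := IsLocalization.surj (Submonoid.powers ((w.app D).hom (g * h.1))) z
        obtain ⟨m, x, hx⟩ := hsurj h.1 h.2 c
        obtain ⟨ug, hug⟩ := hgu
        refine ⟨((↑ug⁻¹ : T) ^ (n + m) * (1 ⊗ₜ x), ⟨_, n + m, rfl⟩), ?_⟩
        show z * ρ (hT h ^ (n + m)) = ρ ((↑ug⁻¹ : T) ^ (n + m) * (1 ⊗ₜ x))
        have h1 : ρ (algebraMap Γ(X, D) T ((g * h.1) ^ (n + m))) * z = ρ (1 ⊗ₜ x) := by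
          rw [hρR, hρ2, hx, map_mul, ← hz]
          simp only [map_pow, map_mul]
          ring
        have h2 : hT h ^ (n + m) = (↑ug⁻¹ : T) ^ (n + m) * algebraMap Γ(X, D) T ((g * h.1) ^ (n + m)) := by
          rw [map_pow, map_mul, ← hug, ← mul_pow, ← mul_assoc, Units.inv_mul, one_mul]
        rw [h2, map_mul, map_mul, ← h1]
        ring
      · intro a b hab
        obtain ⟨⟨x, _, _, ⟨n, rfl⟩, rfl⟩, hx⟩ := IsLocalization.surj (Algebra.algebraMapSubmonoid S (Submonoid.powers g)) (a - b)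
        have h0 : ρ (1 ⊗ₜ x) = 0 := by
          rw [← hone, ← hx, map_mul, map_sub, show ρ a = ρ b from hab, sub_self, zero_mul]
        rw [hρ2] at h0
        obtain ⟨⟨_, m, rfl⟩, hm⟩ := (IsLocalization.map_eq_zero_iff (Submonoid.powers ((w.app D).hom (g * h.1))) Γ(W, O') _).1 h0
        obtain ⟨k, hk⟩ := hinj h.1 h.2 ((g * h.1) ^ m • x) (by
          show φa _ = 0
          rw [map_smul, Algebra.smul_def, map_pow]; exact hm)
        refine ⟨⟨_, k + m, rfl⟩, ?_⟩
        have h3 : algebraMap Γ(X, D) T ((g * h.1) ^ (k + m)) * ((a - b) * algebraMap Γ(X, D) T (g ^ n)) = 0 := by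
          rw [IsScalarTower.algebraMap_apply Γ(X, D) S T (g ^ n)]
          rw [hx, IsScalarTower.algebraMap_apply Γ(X, D) S T, ← map_mul, ← Algebra.smul_def, pow_add, mul_smul, hk, map_zero]
        rw [← sub_eq_zero, ← mul_sub]
        show hT h ^ (k + m) * (a - b) = 0
        rw [map_pow, map_mul, mul_pow, map_pow, mul_assoc, ← mul_assoc (hT h ^ (k + m))] at h3
        exact (hgu.pow n).mul_left_eq_zero.1 ((hgu.pow (k + m)).mul_right_eq_zero.1 h3)
    have h5 : W.homOfLE hO'W' ≫ i = hO'aff.isoSpec.hom ≫ Spec.map (CommRingCat.ofHom (algebraMap T Γ(W, O'))) := by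
      simp only [i, ← Scheme.Opens.toSpecΓ_SpecMap_presheaf_map_assoc, IsAffineOpen.isoSpec_hom, ← Spec.map_comp]
      rfl
    haveI : IsOpenImmersion (Spec.map (CommRingCat.ofHom (algebraMap T Γ(W, O')))) :=
      IsOpenImmersion.of_isLocalization (hT h)
    have hpre : (i ⁻¹ᵁ O h) = W'.ι ⁻¹ᵁ O' := by
      rw [hiO, show O' = w ⁻¹ᵁ X.basicOpen g ⊓ w ⁻¹ᵁ X.basicOpen h.1 from rfl]
      ext p
      simp only [Opens.map_coe, Set.mem_preimage, Opens.coe_inf, Set.mem_inter_iff, SetLike.mem_coe]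
      exact ⟨fun hp => ⟨p.2, hp⟩, fun hp => hp.2⟩
    have hr0 : Set.range (W'.ι ⁻¹ᵁ O').ι = Set.range (W.homOfLE hO'W') := by
      rw [Scheme.Opens.range_ι]
      ext p
      refine ⟨fun hp => ⟨⟨p.1, hp⟩, ?_⟩, ?_⟩
      · apply Subtype.ext
        exact congrArg Subtype.val (Scheme.homOfLE_apply' hO'W' _ _)
      · rintro ⟨q, rfl⟩
        show (W.homOfLE hO'W' q).1 ∈ O'
        rw [Scheme.homOfLE_apply]
        exact q.2
    rw [hpre]
    rw [← IsOpenImmersion.isoOfRangeEq_hom_fac (W'.ι ⁻¹ᵁ O').ι (W.homOfLE hO'W') hr0, Category.assoc, h5]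
    refine ⟨inferInstance, ?_⟩
    rw [← Category.assoc, Scheme.Hom.comp_base, TopCat.coe_comp,
      Function.Surjective.range_comp (Scheme.Hom.surjective _)]
    exact PrimeSpectrum.localization_away_comap_range _ (hT h)
  obtain ⟨hio, hir⟩ := isOpenImmersion_of_pieces i O (by
      rw [Scheme.Hom.preimage_iSup]
      refine top_le_iff.1 fun p _ => ?_
      obtain ⟨h, hh, hp⟩ := hs (w p.1) (hgle p.2) (show p.1 ∈ w ⁻¹ᵁ U' from hw ▸ trivial)
      exact Opens.mem_iSup.2 ⟨⟨h, hh⟩, by rw [hiO]; exact hp⟩)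
    (fun h => (hpieces h).1) (fun h η hη => by
      obtain ⟨q, hq⟩ := (hpieces h).2.symm.subset hη
      exact ⟨(i ⁻¹ᵁ O h).ι q, (Scheme.Hom.comp_apply _ _ q).symm.trans hq⟩)
  refine ⟨hio, hiy, fun η hη => ?_⟩
  rw [hir]
  obtain ⟨h, hh, hp⟩ := hs (y η) (hgle (by rw [← hy', Scheme.Hom.comp_apply]; exact (y' η).2)) hη
  exact Opens.mem_iSup.2 ⟨⟨h, hh⟩, by rw [← hyO]; exact hp⟩

/-- One step: extend over a neighbourhood of a point where the given cover extends over the local scheme. -/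
theorem exists_ext_lt' [IsNoetherian X] (U : X.Opens) {V : Scheme.{u}} (vh : V ⟶ U) {U' : X.Opens} (hle : U ≤ U')
    (hext : Ext U vh U') (x : X) (hxU : x ∉ U') (hmin : ∀ z, z ⤳ x → z ≠ x → z ∈ U')
    (hx : ∀ (W0 : FEt.Cat U'.toScheme) (v : V ⟶ W0.left), IsPullback v vh W0.hom (X.homOfLE hle) →
      ∀ q : (FEt.puncturedSpec (X.presheaf.stalk x) : Scheme.{u}) ⟶ U'.toScheme,
        q ≫ U'.ι = (FEt.puncturedSpec (X.presheaf.stalk x)).ι ≫ X.fromSpecStalk x →
        ∃ Y0, Nonempty ((FEt.restrict (FEt.puncturedSpec (X.presheaf.stalk x)).ι).obj Y0 ≅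
          (FEt.restrict q).obj W0)) : ∃ U'', U' < U'' ∧ Ext U vh U'' := by
  classical
  obtain ⟨W, w, v, hw, hwp, hv⟩ := hext
  let w' : W ⟶ U' := IsOpenImmersion.lift U'.ι w (by
    rintro _ ⟨p, rfl⟩
    rw [Scheme.Opens.range_ι]
    exact (show p ∈ w ⁻¹ᵁ U' from hw ▸ trivial))
  have hw' : w' ≫ U'.ι = w := IsOpenImmersion.lift_fac _ _ _
  have hwp' : FEt.prop w' := (prop_restrict_iff w U' w' hw').1 hwp
  haveI : IsFinite w' := hwp'.1
  haveI : Etale w' := hwp'.2
  haveI : LocallyOfFiniteType w := hw' ▸ inferInstance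
  haveI : IsLocallyNoetherian W := LocallyOfFiniteType.isLocallyNoetherian w
  haveI : CompactSpace U'.toScheme := isCompact_iff_compactSpace.1 (NoetherianSpace.isCompact _)
  haveI : CompactSpace W := QuasiCompact.compactSpace_of_compactSpace w'
  haveI : IsNoetherian W := {}
  haveI : QuasiCompact w := hw' ▸ inferInstance
  haveI hsr : IsLocalRing (CommRingCat.of (X.presheaf.stalk x) : CommRingCat.{u}) := inferInstanceAs (IsLocalRing (X.presheaf.stalk x))
  let Sx := Spec (CommRingCat.of (X.presheaf.stalk x))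
  let fsp : Sx ⟶ X := X.fromSpecStalk x
  let pu : Sx.Opens := FEt.puncturedSpec (X.presheaf.stalk x)
  have hpu : fsp ⁻¹ᵁ U' = pu := by
    ext z
    show fsp z ∈ U' ↔ z ≠ IsLocalRing.closedPoint (X.presheaf.stalk x)
    constructor
    · rintro hz rfl
      exact hxU ((X.fromSpecStalk_closedPoint (x := x)) ▸ hz)
    · intro hz
      refine hmin _ ?_ fun he => hz (fsp.isEmbedding.injective (he.trans X.fromSpecStalk_closedPoint.symm))
      have : fsp z ∈ Set.range (X.fromSpecStalk x) := ⟨z, rfl⟩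
      rwa [Scheme.range_fromSpecStalk] at this
  let q : pu.toScheme ⟶ U' := IsOpenImmersion.lift U'.ι (pu.ι ≫ fsp) (by
    rintro _ ⟨p, rfl⟩
    rw [Scheme.Opens.range_ι]
    have h2 : p.1 ∈ fsp ⁻¹ᵁ U' := hpu.symm ▸ p.2
    exact h2)
  have hq : q ≫ U'.ι = pu.ι ≫ fsp := IsOpenImmersion.lift_fac _ _ _
  have Hq : IsPullback q pu.ι U'.ι fsp := IsOpenImmersion.isPullback q pu.ι U'.ι fsp hq.symm
    (by rw [Scheme.Opens.opensRange_ι, Scheme.Opens.opensRange_ι, hpu])
  let W0 : FEt.Cat U' := MorphismProperty.Over.mk ⊤ w' hwp'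
  have hW0 : IsPullback v vh w' (X.homOfLE hle) :=
    IsPullback.of_right (h₁₂ := 𝟙 W) (h₂₂ := U'.ι) (v₁₃ := w) (by simpa using hv)
      (by rw [← cancel_mono U'.ι, Category.assoc, hw', Category.assoc, Scheme.homOfLE_ι]; exact hv.w)
      (isPullback_of_fac w U' w' hw').flip
  obtain ⟨Y0, ⟨e⟩⟩ := hx W0 v hW0 q hq
  let WP := ((FEt.restrict q).obj W0).left
  let a : WP ⟶ W := pullback.fst w' q
  let b : WP ⟶ pu.toScheme := pullback.snd w' q
  have H : IsPullback a (b ≫ pu.ι) w fsp := hw' ▸ (IsPullback.of_hasPullback w' q).paste_vert Hq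
  let el : WP ⟶ pullback Y0.hom pu.ι := e.inv.left
  let j : WP ⟶ Y0.left := el ≫ pullback.fst Y0.hom pu.ι
  haveI : IsIso e.inv.left :=
    ((MorphismProperty.Over.forget _ _ _ ⋙ Over.forget _).mapIso e.symm).isIso_hom
  haveI : IsFinite Y0.hom := Y0.prop.1
  haveI : Etale Y0.hom := Y0.prop.2
  haveI : IsIso el := (inferInstance : IsIso e.inv.left)
  haveI : IsOpenImmersion j := inferInstance
  have hj : j ≫ Y0.hom = b ≫ pu.ι := by
    show (el ≫ _) ≫ _ = _
    rw [Category.assoc, pullback.condition, ← Category.assoc]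
    exact congrArg (· ≫ pu.ι) (MorphismProperty.Over.w e.inv)
  -- the affine chart
  obtain ⟨_, ⟨(D : X.Opens), hD, rfl⟩, hxD, -⟩ :=
    X.isBasis_affineOpens.exists_subset_of_mem_open (Set.mem_univ x) isOpen_univ
  obtain ⟨s, hsU, hs⟩ : ∃ s : Finset Γ(X, D), (∀ h ∈ s, X.basicOpen h ≤ U') ∧
      ∀ q ∈ D, q ∈ U' → ∃ h ∈ s, q ∈ X.basicOpen h := by
    have hcov : ((D ⊓ U' : X.Opens) : Set X) ⊆ ⋃ h : {h : Γ(X, D) // X.basicOpen h ≤ U'}, (X.basicOpen h.1 : Set X) := by
      rintro q ⟨hqD, hqU⟩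
      obtain ⟨h, hh, hqh⟩ := hD.exists_basicOpen_le (V := U') ⟨q, hqU⟩ hqD
      exact Set.mem_iUnion.2 ⟨⟨h, hh⟩, hqh⟩
    obtain ⟨t, ht⟩ := (NoetherianSpace.isCompact ((D ⊓ U' : X.Opens) : Set X)).elim_finite_subcover
      (fun h : {h : Γ(X, D) // X.basicOpen h ≤ U'} => (X.basicOpen h.1 : Set X)) (fun h => (X.basicOpen h.1).2) hcov
    refine ⟨t.image Subtype.val, fun h hh => ?_, fun q hqD hqU => ?_⟩
    · obtain ⟨h', -, rfl⟩ := Finset.mem_image.1 hh; exact h'.2
    · obtain ⟨h, hht, hq'⟩ := Set.mem_iUnion₂.1 (ht ⟨hqD, hqU⟩)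
      exact ⟨h.1, Finset.mem_image_of_mem _ hht, hq'⟩
  let p := (hD.primeIdealOf ⟨x, hxD⟩).asIdeal
  haveI : IsNoetherianRing Γ(X, D) := IsLocallyNoetherian.component_noetherian ⟨D, hD⟩
  letI : Algebra Γ(X, D) (X.presheaf.stalk x) := TopCat.Presheaf.algebra_section_stalk X.presheaf ⟨x, hxD⟩
  haveI : IsLocalization.AtPrime (X.presheaf.stalk x) p := hD.isLocalization_stalk ⟨x, hxD⟩
  -- the rings
  let C := Γ(W, w ⁻¹ᵁ D)
  let Cp := Γ(WP, ⊤)
  let B := Γ(Y0.left, ⊤)
  let G := Γ(Sx, ⊤)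
  have htop : ⊤ ≤ fsp ⁻¹ᵁ D := by
    intro z _
    have : fsp z ∈ Set.range (X.fromSpecStalk x) := ⟨z, rfl⟩
    rw [Scheme.range_fromSpecStalk] at this
    exact this.mem_open D.2 hxD
  have hfspD : fsp.appLE D ⊤ htop = X.presheaf.germ D x hxD ≫ (Scheme.ΓSpecIso (X.presheaf.stalk x)).inv := by
    rw [Scheme.Hom.appLE, show fsp.app D = _ from Scheme.fromSpecStalk_app hxD]
    simp only [Category.assoc]
    erw [← Functor.map_comp]
    have key : ∀ m : Opposite.op (⊤ : Sx.Opens) ⟶ Opposite.op ⊤, Sx.presheaf.map m = 𝟙 _ := fun m => by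
      rw [Subsingleton.elim m (𝟙 _)]; exact Sx.presheaf.map_id _
    exact (congrArg (fun m => X.presheaf.germ D x hxD ≫ (Scheme.ΓSpecIso (X.presheaf.stalk x)).inv ≫ m) (key _)).trans
      (by erw [Category.comp_id])
  letI : Algebra Γ(X, D) C := (w.app D).hom.toAlgebra
  letI : Algebra Γ(X, D) G := (fsp.appLE D ⊤ htop).hom.toAlgebra
  haveI : IsLocalization.AtPrime G p := by
    let eG : X.presheaf.stalk x ≃ₐ[Γ(X, D)] G :=
      { (Scheme.ΓSpecIso (X.presheaf.stalk x)).symm.commRingCatIsoToRingEquiv with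
        commutes' := fun r => (congr($(hfspD) r)).symm }
    exact IsLocalization.isLocalization_of_algEquiv p.primeCompl eG
  have htopC : ⊤ ≤ a ⁻¹ᵁ (w ⁻¹ᵁ D) := by
    intro z _
    show w (a z) ∈ D
    rw [← Scheme.Hom.comp_apply, H.w, Scheme.Hom.comp_apply]
    exact htop trivial
  letI : Algebra C Cp := (a.appLE (w ⁻¹ᵁ D) ⊤ htopC).hom.toAlgebra
  letI : Algebra G Cp := ((b ≫ pu.ι).appLE ⊤ ⊤ le_top).hom.toAlgebra
  letI : Algebra Γ(X, D) Cp := ((a ≫ w).appLE D ⊤ htopC).hom.toAlgebra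
  haveI : IsScalarTower Γ(X, D) C Cp := IsScalarTower.of_algebraMap_eq' (by
    show ((a ≫ w).appLE D ⊤ htopC).hom = _
    rw [← Scheme.Hom.appLE_comp_appLE a w D (w ⁻¹ᵁ D) ⊤ le_rfl htopC, Scheme.Hom.appLE_eq_app]
    rfl)
  haveI : IsScalarTower Γ(X, D) G Cp := IsScalarTower.of_algebraMap_eq' (by
    show ((a ≫ w).appLE D ⊤ htopC).hom = _
    rw [show ((fsp.appLE D ⊤ htop).hom.toAlgebra).algebraMap = (fsp.appLE D ⊤ htop).hom from rfl] at *
    change _ = ((fsp.appLE D ⊤ htop) ≫ (b ≫ pu.ι).appLE ⊤ ⊤ le_top).hom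
    rw [Scheme.Hom.appLE_comp_appLE]
    simp only [H.w])
  haveI : Flat fsp := by
    show Flat (X.fromSpecStalk x)
    rw [← hD.fromSpecStalk_eq_fromSpecStalk hxD, IsAffineOpen.fromSpecStalk]
    haveI : Flat (Spec.map (X.presheaf.germ D x hxD)) :=
      (HasRingHomProperty.Spec_iff (P := @Flat)).2 (RingHom.flat_algebraMap_iff.2
        (IsLocalization.flat (X.presheaf.stalk x) p.primeCompl))
    infer_instance
  haveI : Algebra.IsPushout Γ(X, D) C G Cp := by
    have hiso := isIso_pushoutSection_of_isQuasiSeparated_of_flat_right H (US := D) (UT := ⊤) (UX := w ⁻¹ᵁ D)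
      htop le_rfl (UY := ⊤) (by rw [eq_top_iff.2 htopC]; simp) hD (isAffineOpen_top _)
      (NoetherianSpace.isCompact _) (IsQuasiSeparated.of_quasiSeparatedSpace _)
    rw [isIso_pushoutSection_iff] at hiso
    simp only [Scheme.Hom.appLE_eq_app] at hiso
    exact CommRingCat.isPushout_iff_isPushout.1 hiso
  haveI : Algebra.IsPushout Γ(X, D) G C Cp := Algebra.IsPushout.symm inferInstance
  haveI : IsLocalization (Algebra.algebraMapSubmonoid C p.primeCompl) Cp :=
    (Algebra.isLocalization_iff_isPushout p.primeCompl G).2 inferInstance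
  -- the finite etale algebra at `p`
  haveI : IsAffine ((Functor.fromPUnit Sx).obj Y0.right) := (inferInstance : IsAffine Sx)
  haveI : IsAffine Y0.left := isAffine_of_isAffineHom Y0.hom
  haveI : IsAffine ((𝟭 Scheme).obj Y0.left) := (inferInstance : IsAffine Y0.left)
  let eR : Localization.AtPrime p ≃ₐ[Γ(X, D)] G := IsLocalization.algEquiv p.primeCompl _ _
  letI : Algebra (Localization.AtPrime p) B := (Y0.hom.appTop.hom.comp eR.toAlgHom.toRingHom).toAlgebra
  letI : Algebra Γ(X, D) B := (Y0.hom.appTop.hom.comp (algebraMap Γ(X, D) G)).toAlgebra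
  haveI : IsScalarTower Γ(X, D) (Localization.AtPrime p) B := IsScalarTower.of_algebraMap_eq fun r => by
    show Y0.hom.appTop.hom (algebraMap Γ(X, D) G r) = Y0.hom.appTop.hom (eR (algebraMap _ _ r))
    rw [eR.commutes]
  haveI : Module.Finite (Localization.AtPrime p) B :=
    RingHom.finite_algebraMap.1 ((Scheme.Hom.finite_appTop Y0.hom).comp (RingHom.Finite.of_surjective _ eR.surjective))
  haveI : Algebra.Etale (Localization.AtPrime p) B :=
    RingHom.etale_algebraMap.1 (RingHom.Etale.stableUnderComposition _ _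
      (RingHom.Etale.of_bijective eR.bijective) (HasRingHomProperty.appTop @Etale Y0.hom inferInstance))
  let ρ : B →ₐ[Γ(X, D)] Cp :=
    { j.appTop.hom with
      commutes' := fun r => by
        rw [IsScalarTower.algebraMap_apply Γ(X, D) G Cp]
        show (Y0.hom.appTop ≫ j.appTop).hom (algebraMap Γ(X, D) G r) = _
        rw [← Scheme.Hom.comp_appTop, hj]
        simp only [RingHom.algebraMap_toAlgebra]
        refine congrFun (congrArg DFunLike.coe (congrArg CommRingCat.Hom.hom ?_)) _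
        exact (Scheme.Hom.appLE_eq_app (f := b ≫ pu.ι) (U := ⊤)).symm }
  haveI : IsLocallyNoetherian Y0.left := LocallyOfFiniteType.isLocallyNoetherian (Y := Sx) Y0.hom
  haveI : AlgebraicGeometry.IsNoetherian Y0.left := {}
  haveI : NoetherianSpace WP := j.isOpenEmbedding.isInducing.noetherianSpace
  haveI : IsLocallyNoetherian WP := LocallyOfFiniteType.isLocallyNoetherian j
  haveI : AlgebraicGeometry.IsNoetherian WP := {}
  have hkey : ∀ h ∈ s, (∀ c : Cp, ∃ n : ℕ, ∃ b' : B, ρ b' = h ^ n • c) ∧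
      (∀ b' : B, ρ b' = 0 → ∃ n : ℕ, h ^ n • b' = 0) := by
    intro h hh
    let hB : B := algebraMap Γ(X, D) B h
    let hC : Cp := algebraMap Γ(X, D) Cp h
    have hρh : j.appTop.hom hB = hC := ρ.commutes h
    have hle2 : Y0.left.basicOpen hB ≤ j.opensRange := by
      intro η hη
      have hη2 : Y0.hom η ∈ Sx.basicOpen (algebraMap Γ(X, D) G h) := by
        show η ∈ Y0.hom ⁻¹ᵁ Sx.basicOpen _
        erw [Scheme.preimage_basicOpen_top]; exact hη
      have hη3 : Y0.hom η ∈ pu := by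
        rw [← hpu]
        show fsp (Y0.hom η) ∈ U'
        apply hsU h hh
        show Y0.hom η ∈ fsp ⁻¹ᵁ X.basicOpen h
        rw [Scheme.preimage_basicOpen]
        rw [RingHom.algebraMap_toAlgebra, Scheme.basicOpen_appLE] at hη2
        simpa [Scheme.preimage_basicOpen] using hη2.2
      have hη4 : η ∈ Set.range (pullback.fst Y0.hom pu.ι) := by
        rw [IsOpenImmersion.range_pullbackFst, Scheme.Opens.opensRange_ι]; exact hη3
      obtain ⟨q', hq'⟩ := hη4
      obtain ⟨q'', rfl⟩ := el.surjective q'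
      exact ⟨q'', by rw [← hq']; rfl⟩
    have hpre : j ⁻¹ᵁ Y0.left.basicOpen hB = WP.basicOpen hC := by
      rw [Scheme.preimage_basicOpen_top, hρh]
    haveI hiso := j.isIso_app (Y0.left.basicOpen hB) hle2
    haveI : IsLocalization.Away hB Γ(Y0.left, Y0.left.basicOpen hB) := (isAffineOpen_top Y0.left).isLocalization_basicOpen hB
    let resB := Y0.left.presheaf.map (homOfLE (Y0.left.basicOpen_le hB)).op
    let resC := WP.presheaf.map (homOfLE (show j ⁻¹ᵁ Y0.left.basicOpen hB ≤ ⊤ from le_top)).op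
    letI : Algebra Cp Γ(WP, j ⁻¹ᵁ Y0.left.basicOpen hB) := resC.hom.toAlgebra
    haveI : IsLocalization.Away hC Γ(WP, j ⁻¹ᵁ Y0.left.basicOpen hB) := by
      exact isLocalization_res hC hpre le_top isCompact_univ (IsQuasiSeparated.of_quasiSeparatedSpace _)
    have hnat : ∀ b' : B, resC.hom (j.appTop.hom b') = (j.app (Y0.left.basicOpen hB)).hom (resB.hom b') := fun b' =>
      (congr($(Scheme.Hom.naturality j (homOfLE (Y0.left.basicOpen_le hB)).op) b')).symm
    have hbij : Function.Bijective (j.app (Y0.left.basicOpen hB)).hom := ConcreteCategory.bijective_of_isIso _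
    constructor
    · intro c
      obtain ⟨y0, hy0⟩ := hbij.2 (resC.hom c)
      obtain ⟨⟨b', _, n, rfl⟩, hb'⟩ := IsLocalization.surj (Submonoid.powers hB) y0
      have h1 : algebraMap Cp Γ(WP, j ⁻¹ᵁ Y0.left.basicOpen hB) (ρ b') =
          algebraMap Cp Γ(WP, j ⁻¹ᵁ Y0.left.basicOpen hB) (hC ^ n * c) := by
        show resC.hom (j.appTop.hom b') = resC.hom (hC ^ n * c)
        rw [hnat, map_mul, ← hy0, ← hρh, ← map_pow, hnat, ← map_mul, mul_comm]
        exact congrArg _ hb'.symm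
      obtain ⟨⟨_, m, rfl⟩, hm⟩ := IsLocalization.exists_of_eq (M := Submonoid.powers hC) h1
      refine ⟨m + n, h ^ m • b', ?_⟩
      rw [map_smul, Algebra.smul_def, Algebra.smul_def, map_pow, map_pow, pow_add, mul_assoc]
      exact hm
    · intro b' hb'
      have h1 : algebraMap B Γ(Y0.left, Y0.left.basicOpen hB) b' = 0 := hbij.1 (by
        show (j.app _).hom (resB.hom b') = _
        rw [← hnat, show j.appTop.hom b' = 0 from hb', map_zero, map_zero])
      obtain ⟨⟨_, m, rfl⟩, hm⟩ := (IsLocalization.map_eq_zero_iff (Submonoid.powers hB) _ _).1 h1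
      exact ⟨m, by rw [Algebra.smul_def, map_pow]; exact hm⟩
  haveI hwaff : ∀ h : s, IsAffine (w ⁻¹ᵁ X.basicOpen h.1).toScheme := by
    intro h
    show IsAffineOpen _
    rw [← hw', Scheme.Hom.comp_preimage]
    exact ((hD.basicOpen h.1).preimage_of_isOpenImmersion U'.ι (by
      rw [Scheme.Opens.opensRange_ι]; exact hsU h.1 h.2)).preimage w'
  have hCfin : ∀ h ∈ s, ∃ t : Finset C, ∀ c : C, ∃ n : ℕ, h ^ n • c ∈ Submodule.span Γ(X, D) (t : Set C) := by
    intro h hh
    let Rh := Γ(X, X.basicOpen h)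
    let Ch := Γ(W, w ⁻¹ᵁ X.basicOpen h)
    letI : Algebra Γ(X, D) Rh := (X.presheaf.map (homOfLE (X.basicOpen_le h)).op).hom.toAlgebra
    haveI : IsLocalization.Away h Rh := hD.isLocalization_basicOpen h
    letI : Algebra Rh Ch := (w.app (X.basicOpen h)).hom.toAlgebra
    let res := W.presheaf.map (homOfLE (Scheme.Hom.preimage_mono w (X.basicOpen_le h))).op
    letI : Algebra C Ch := res.hom.toAlgebra
    haveI : IsLocalization.Away ((w.app D).hom h) Ch := by
      exact isLocalization_res _ (Scheme.preimage_basicOpen w h) (Scheme.Hom.preimage_mono w (X.basicOpen_le h))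
        (NoetherianSpace.isCompact _) (IsQuasiSeparated.of_quasiSeparatedSpace _)
    haveI : Module.Finite Rh Ch := by
      refine RingHom.finite_algebraMap.1 ?_
      show (w.app (X.basicOpen h)).hom.Finite
      have hO : X.basicOpen h ≤ U'.ι.opensRange := by rw [Scheme.Opens.opensRange_ι]; exact hsU h hh
      haveI := U'.ι.isIso_app _ hO
      have h1 : ((U'.ι.app (X.basicOpen h)) ≫ w'.app (U'.ι ⁻¹ᵁ X.basicOpen h)).hom.Finite :=
        (w'.finite_app _ ((hD.basicOpen h).preimage_of_isOpenImmersion U'.ι hO)).comp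
          (RingHom.Finite.of_surjective _ (ConcreteCategory.bijective_of_isIso _).2)
      rw [← Scheme.Hom.comp_app] at h1
      clear_value w'
      subst hw'
      exact h1
    obtain ⟨G0, hG0⟩ := (Module.Finite.fg_top : (⊤ : Submodule Rh Ch).FG)
    choose num hnum using fun z : Ch => IsLocalization.surj (Submonoid.powers ((w.app D).hom h)) z
    refine ⟨G0.image (fun z => (num z).1), fun c => ?_⟩
    have hA : ∀ r : Γ(X, D), algebraMap C Ch ((w.app D).hom r) = algebraMap Rh Ch (algebraMap Γ(X, D) Rh r) := fun r =>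
      (congr($(Scheme.Hom.naturality w (homOfLE (X.basicOpen_le h)).op) r)).symm
    have key : ∀ z ∈ Submodule.span Rh (G0 : Set Ch), ∃ n : ℕ, ∃ c' ∈ Submodule.span Γ(X, D) ((G0.image (fun z => (num z).1) : Finset C) : Set C),
        algebraMap C Ch c' = algebraMap C Ch ((w.app D).hom (h ^ n)) * z := by
      intro z hz
      induction hz using Submodule.span_induction with
      | mem z hz =>
        obtain ⟨n, hn⟩ := (num z).2.2
        refine ⟨n, (num z).1, Submodule.subset_span (Finset.mem_image_of_mem _ hz), ?_⟩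
        refine (hnum z).symm.trans ?_
        rw [map_pow (w.app D).hom h n]
        exact (mul_comm _ _).trans (congrArg (fun t => algebraMap C Ch t * z) hn.symm)
      | zero => exact ⟨0, 0, zero_mem _, by simp⟩
      | add z z' _ _ h1 h2 =>
        obtain ⟨n, c1, hc1, e1⟩ := h1
        obtain ⟨n', c2, hc2, e2⟩ := h2
        refine ⟨n + n', h ^ n' • c1 + h ^ n • c2, add_mem (Submodule.smul_mem _ _ hc1) (Submodule.smul_mem _ _ hc2), ?_⟩
        show algebraMap C Ch ((w.app D).hom (h ^ n') * c1 + (w.app D).hom (h ^ n) * c2) = _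
        rw [map_add (algebraMap C Ch), map_mul (algebraMap C Ch), map_mul (algebraMap C Ch), e1, e2]
        simp only [map_pow, pow_add, map_mul]
        ring
      | smul r z _ h1 =>
        obtain ⟨n, c1, hc1, e1⟩ := h1
        obtain ⟨⟨r0, _, m, rfl⟩, hr⟩ := IsLocalization.surj (Submonoid.powers h) r
        refine ⟨n + m, r0 • c1, Submodule.smul_mem _ _ hc1, ?_⟩
        rw [Algebra.smul_def r z]
        show algebraMap C Ch ((w.app D).hom r0 * c1) = _
        rw [map_mul, e1, hA, ← hr, map_mul, ← hA]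
        simp only [map_pow, pow_add, map_mul]
        ring
    obtain ⟨n, c', hc', e1⟩ := key (algebraMap C Ch c) (hG0 ▸ trivial)
    rw [← map_mul] at e1
    obtain ⟨⟨_, m, rfl⟩, hm⟩ := IsLocalization.exists_of_eq (M := Submonoid.powers ((w.app D).hom h)) e1
    refine ⟨m + n, ?_⟩
    rw [Algebra.smul_def, pow_add, map_mul, mul_assoc, map_pow (algebraMap Γ(X, D) C) h m]
    show (w.app D).hom h ^ m * ((w.app D).hom (h ^ n) * c) ∈ _
    have hm' : (w.app D).hom h ^ m * c' = (w.app D).hom h ^ m * ((w.app D).hom (h ^ n) * c) := hm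
    rw [← hm', ← map_pow]
    exact (Algebra.smul_def (h ^ m) c') ▸ Submodule.smul_mem _ (h ^ m) hc'
  obtain ⟨g, hg, S, _, _, φ, hSfin, hSet, hSiso⟩ := Groth.L13.Purity.SpreadAlg.exists_model p (C := C) (Cp := Cp) (B := B) ρ s
    (fun h hh => (hkey h hh).1) (fun h hh => (hkey h hh).2) hCfin
  haveI := hSfin
  haveI := hSet
  obtain ⟨Y, y, y', i, hy', hyp, hio, hiy, hir⟩ := exists_chart w hD hw s hs hsU g S φ.toRingHom
    φ.comp_algebraMap
    (fun h hh c => by
      obtain ⟨n, x', hx'⟩ := (hSiso h hh).1 c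
      exact ⟨n, x', hx'.trans (Algebra.smul_def _ _)⟩)
    (fun h hh x' hx' => (hSiso h hh).2 x' hx')
  haveI := hio
  have hxg : x ∈ X.basicOpen g := by
    rw [Scheme.mem_basicOpen _ _ x hxD]
    exact IsLocalization.map_units (X.presheaf.stalk x) (⟨g, hg⟩ : p.primeCompl)
  exact ⟨U' ⊔ X.basicOpen g, lt_of_le_of_ne le_sup_left (fun he => hxU (he ▸ Or.inr hxg)),
    ext_sup U vh hle w v hw hwp hv y y' hy' hyp i hiy hir⟩

/-- One step: extend over a neighbourhood of a point where purity holds. -/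
theorem exists_ext_lt [IsNoetherian X] (U : X.Opens) {V : Scheme.{u}} (vh : V ⟶ U) {U' : X.Opens} (hle : U ≤ U')
    (hext : Ext U vh U') (x : X) (hxU : x ∉ U') (hmin : ∀ z, z ⤳ x → z ≠ x → z ∈ U')
    (hx : FEt.PurityHolds (X.presheaf.stalk x)) : ∃ U'', U' < U'' ∧ Ext U vh U'' :=
  exists_ext_lt' U vh hle hext x hxU hmin fun W0 _ _ q _ =>
    haveI : (FEt.restrict (FEt.puncturedSpec (X.presheaf.stalk x)).ι).EssSurj := hx
    ⟨_, ⟨(FEt.restrict _).objObjPreimageIso ((FEt.restrict q).obj W0)⟩⟩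

theorem essSurj_restrict_of_purityHolds [IsNoetherian X] (U : X.Opens)
    (h : ∀ x : X, x ∉ U → FEt.PurityHolds (X.presheaf.stalk x)) : (FEt.restrict U.ι).EssSurj := by
  classical
  refine ⟨fun Y => ?_⟩
  suffices hE : Ext U Y.hom ⊤ by
    obtain ⟨W, w, v, -, hp, hv⟩ := hE
    have hp' : FEt.prop w := (prop_of_isPullback (j := 𝟙 X) (IsPullback.of_horiz_isIso ⟨by simp⟩ : IsPullback (𝟙 W) w w (𝟙 X))
      X.topIso.symm (by simp)).1 hp
    refine ⟨MorphismProperty.Over.mk ⊤ w hp', ⟨MorphismProperty.Over.isoMk hv.isoPullback.symm ?_⟩⟩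
    show hv.isoPullback.inv ≫ Y.hom = pullback.snd w U.ι
    exact hv.isoPullback_inv_snd
  by_contra hne
  obtain ⟨U', ⟨hle, hext⟩, hmax⟩ := (wellFounded_gt (α := X.Opens)).has_min {U' | U ≤ U' ∧ Ext U Y.hom U'}
    ⟨U, le_rfl, ext_self U Y.hom Y.prop⟩
  have hnetop : U' ≠ ⊤ := fun h' => hne (h' ▸ hext)
  obtain ⟨z, hz⟩ : ∃ z : X, z ∉ U' := by
    by_contra! hall
    exact hnetop (eq_top_iff.2 fun z _ => hall z)
  let Z : Set X := (U' : Set X)ᶜ
  have hZc : IsClosed Z := U'.2.isClosed_compl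
  obtain ⟨K, hK, hzK⟩ : ∃ K ∈ irreducibleComponents Z, (⟨z, hz⟩ : Z) ∈ K :=
    ⟨irreducibleComponent _, irreducibleComponent_mem_irreducibleComponents _, mem_irreducibleComponent⟩
  let K' : Set X := Subtype.val '' K
  have hKirr : IsIrreducible K' := hK.1.image _ continuous_subtype_val.continuousOn
  have hKcl : IsClosed K' := hZc.isClosedEmbedding_subtypeVal.isClosedMap _ (isClosed_of_mem_irreducibleComponents K hK)
  obtain ⟨x, hx⟩ := QuasiSober.sober hKirr hKcl
  have hxU : x ∉ U' := by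
    obtain ⟨⟨x', hx'⟩, -, rfl⟩ := hx.mem
    exact hx'
  have hmin : ∀ t, t ⤳ x → t ≠ x → t ∈ U' := by
    intro t ht hne'
    by_contra htU
    -- closure of `t` is an irreducible closed subset of `Z` containing `K'`
    have hsub : K' ⊆ closure {t} := by
      rw [← hx.def]; exact closure_minimal (Set.singleton_subset_iff.2 ht.mem_closure) isClosed_closure
    have hT : IsIrreducible (Subtype.val ⁻¹' closure ({t} : Set X) : Set Z) := by
      have : (Subtype.val ⁻¹' closure ({t} : Set X) : Set Z) = closure {(⟨t, htU⟩ : Z)} := by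
        rw [hZc.isClosedEmbedding_subtypeVal.isEmbedding.closure_eq_preimage_closure_image, Set.image_singleton]
      rw [this]; exact isIrreducible_singleton.closure
    have h1 : K ⊆ (Subtype.val ⁻¹' closure ({t} : Set X) : Set Z) := fun k hk => hsub ⟨k, hk, rfl⟩
    have h2 := hK.2 hT h1 (show (⟨t, htU⟩ : Z) ∈ _ from subset_closure rfl)
    exact hne' ((ht.antisymm (hx.specializes ⟨⟨t, htU⟩, h2, rfl⟩)).eq)
  obtain ⟨U'', hlt, hext''⟩ := exists_ext_lt U Y.hom hle hext x hxU hmin (h x (fun hh => hxU (hle hh)))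
  exact hmax U'' ⟨hle.trans hlt.le, hext''⟩ hlt

end Groth.L13.Purity.Spread
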