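import Groth.Agent.L13.Purity.ComplAlg
import Groth.Agent.S0543
import Groth.Agent.L13.Purity.Spread

/-! Finite etale covers of the punctured spectrum extend iff they extend over the completion. -/

set_option autoImplicit false
set_option linter.style.haveILetI false
set_option backward.isDefEq.respectTransparency.types false

universe u

open CategoryTheory CategoryTheory.Limits AlgebraicGeometry TopologicalSpace

namespace Groth.L13.Purity.Compl

/-- An open immersion is an isomorphism on sections after inverting a function whose nonvanishing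
locus lies in its range. -/
theorem sections_of_open_immersion {WP Y : Scheme.{u}} (j : WP ⟶ Y) [IsOpenImmersion j] [IsAffine Y]
    [CompactSpace WP] [QuasiSeparatedSpace WP] (hB : Γ(Y, ⊤)) (hle : Y.basicOpen hB ≤ j.opensRange) :
    (∀ c : Γ(WP, ⊤), ∃ (n : ℕ) (b : Γ(Y, ⊤)), j.appTop.hom b = j.appTop.hom hB ^ n * c) ∧
    (∀ b : Γ(Y, ⊤), j.appTop.hom b = 0 → ∃ n : ℕ, hB ^ n * b = 0) := by
  have hpre : j ⁻¹ᵁ Y.basicOpen hB = WP.basicOpen (j.appTop.hom hB) := Scheme.preimage_basicOpen_top _ _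
  haveI hiso := j.isIso_app (Y.basicOpen hB) hle
  haveI : IsLocalization.Away hB Γ(Y, Y.basicOpen hB) := (isAffineOpen_top Y).isLocalization_basicOpen hB
  let resB := Y.presheaf.map (homOfLE (Y.basicOpen_le hB)).op
  let resC := WP.presheaf.map (homOfLE (show j ⁻¹ᵁ Y.basicOpen hB ≤ ⊤ from le_top)).op
  letI : Algebra Γ(WP, ⊤) Γ(WP, j ⁻¹ᵁ Y.basicOpen hB) := resC.hom.toAlgebra
  haveI : IsLocalization.Away (j.appTop.hom hB) Γ(WP, j ⁻¹ᵁ Y.basicOpen hB) :=
    Spread.isLocalization_res _ hpre le_top isCompact_univ (IsQuasiSeparated.of_quasiSeparatedSpace _)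
  have hnat : ∀ b : Γ(Y, ⊤), resC.hom (j.appTop.hom b) = (j.app (Y.basicOpen hB)).hom (resB.hom b) := fun b =>
    (congr($(Scheme.Hom.naturality j (homOfLE (Y.basicOpen_le hB)).op) b)).symm
  have hbij : Function.Bijective (j.app (Y.basicOpen hB)).hom := ConcreteCategory.bijective_of_isIso _
  constructor
  · intro c
    obtain ⟨y0, hy0⟩ := hbij.2 (resC.hom c)
    obtain ⟨⟨b, _, n, rfl⟩, hb⟩ := IsLocalization.surj (Submonoid.powers hB) y0
    have h1 : algebraMap _ Γ(WP, j ⁻¹ᵁ Y.basicOpen hB) (j.appTop.hom b) =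
        algebraMap _ Γ(WP, j ⁻¹ᵁ Y.basicOpen hB) (j.appTop.hom hB ^ n * c) := by
      show resC.hom (j.appTop.hom b) = resC.hom (j.appTop.hom hB ^ n * c)
      rw [hnat, map_mul, ← hy0, ← map_pow, hnat, ← map_mul, mul_comm]
      exact congrArg _ hb.symm
    obtain ⟨⟨_, m, rfl⟩, hm⟩ := IsLocalization.exists_of_eq (M := Submonoid.powers (j.appTop.hom hB)) h1
    refine ⟨m + n, hB ^ m * b, ?_⟩
    rw [map_mul, map_pow, pow_add, mul_assoc]
    exact hm
  · intro b hb
    have h1 : algebraMap Γ(Y, ⊤) Γ(Y, Y.basicOpen hB) b = 0 := hbij.1 (by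
      show (j.app _).hom (resB.hom b) = _
      rw [← hnat, hb, map_zero, map_zero])
    obtain ⟨⟨_, m, rfl⟩, hm⟩ := (IsLocalization.map_eq_zero_iff (Submonoid.powers hB) _ _).1 h1
    exact ⟨m, hm⟩

theorem exists_iso_of_ext_top {X : Scheme.{u}} (U : X.Opens) (V : FEt.Cat U.toScheme)
    (h : Spread.Ext U V.hom ⊤) : ∃ Y : FEt.Cat X, Nonempty ((FEt.restrict U.ι).obj Y ≅ V) := by
  obtain ⟨W, w, v, -, hp, hv⟩ := h
  have hp' : FEt.prop w := (Spread.prop_of_isPullback (j := 𝟙 X)
    (IsPullback.of_horiz_isIso ⟨by simp⟩ : IsPullback (𝟙 W) w w (𝟙 X)) X.topIso.symm (by simp)).1 hp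
  refine ⟨MorphismProperty.Over.mk ⊤ w hp', ⟨MorphismProperty.Over.isoMk hv.isoPullback.symm ?_⟩⟩
  show hv.isoPullback.inv ≫ V.hom = pullback.snd w U.ι
  exact hv.isoPullback_inv_snd

theorem mem_basicOpen_comp {P Q R : Scheme.{u}} (f : P ⟶ Q) (g : Q ⟶ R) (r : Γ(R, ⊤)) (η : P)
    (hη : η ∈ P.basicOpen (f.appTop.hom (g.appTop.hom r))) : g (f η) ∈ R.basicOpen r := by
  show η ∈ f ⁻¹ᵁ g ⁻¹ᵁ R.basicOpen r
  rw [Scheme.preimage_basicOpen_top, Scheme.preimage_basicOpen_top]
  exact hη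

variable (A : Type u) [CommRing A] [IsNoetherianRing A] [IsLocalRing A]

theorem exists_model {Ah : Type u} [CommRing Ah] [Algebra A Ah] [IsNoetherianRing Ah] [Module.FaithfullyFlat A Ah]
    (hdense : ∀ c : Ah, ∃ a0 : A, c - algebraMap A Ah a0 ∈ (IsLocalRing.maximalIdeal A).map (algebraMap A Ah))
    {W WP Y' : Scheme.{u}} [AlgebraicGeometry.IsNoetherian W] [AlgebraicGeometry.IsNoetherian WP]
    [IsAffine Y'] (w : W ⟶ Spec (CommRingCat.of A))
    (y : Y' ⟶ Spec (CommRingCat.of Ah)) [IsFinite y] [Etale y]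
    (a : WP ⟶ W) (bb : WP ⟶ Spec (CommRingCat.of Ah))
    (H : IsPullback a bb w (Spec.map (CommRingCat.ofHom (algebraMap A Ah))))
    (j : WP ⟶ Y') [IsOpenImmersion j] (hj : j ≫ y = bb)
    (hrange : ∀ η, Spec.map (CommRingCat.ofHom (algebraMap A Ah)) (y η) ∈
      FEt.puncturedSpec A → η ∈ j.opensRange) :
    letI : Algebra A Γ(W, w ⁻¹ᵁ ⊤) := ((Scheme.ΓSpecIso (CommRingCat.of A)).inv ≫ w.app ⊤).hom.toAlgebra
    ∃ (s0 : Finset A) (_ : Ideal.span (s0 : Set A) = IsLocalRing.maximalIdeal A)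
      (S : Type u) (_ : CommRing S) (_ : Algebra A S) (φ : S →ₐ[A] Γ(W, w ⁻¹ᵁ ⊤)),
      Module.Finite A S ∧ Algebra.Etale A S ∧
      ∀ h ∈ s0, (∀ c : Γ(W, w ⁻¹ᵁ ⊤), ∃ n : ℕ, ∃ x : S, φ x = h ^ n • c) ∧
        ∀ x : S, φ x = 0 → ∃ n : ℕ, h ^ n • x = 0 := by
  classical
  let X := Spec (CommRingCat.of A)
  let Xh := Spec (CommRingCat.of Ah)
  let sp : Xh ⟶ X := Spec.map (CommRingCat.ofHom (algebraMap A Ah))
  let U : X.Opens := FEt.puncturedSpec A
  -- rings
  let C := Γ(W, w ⁻¹ᵁ ⊤)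
  let C' := Γ(WP, ⊤)
  let B := Γ(Y', ⊤)
  let iA := (Scheme.ΓSpecIso (CommRingCat.of A)).inv
  let iH := (Scheme.ΓSpecIso (CommRingCat.of Ah)).inv
  letI : Algebra A C := (iA ≫ w.app ⊤).hom.toAlgebra
  letI : Algebra Ah B := (iH ≫ y.appTop).hom.toAlgebra
  letI : Algebra Ah C' := (iH ≫ bb.appTop).hom.toAlgebra
  letI : Algebra A B := (CommRingCat.ofHom (algebraMap A Ah) ≫ iH ≫ y.appTop).hom.toAlgebra
  letI : Algebra A C' := (CommRingCat.ofHom (algebraMap A Ah) ≫ iH ≫ bb.appTop).hom.toAlgebra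
  letI : Algebra C C' := (a.appLE (w ⁻¹ᵁ ⊤) ⊤ le_top).hom.toAlgebra
  haveI : IsScalarTower A Ah B := IsScalarTower.of_algebraMap_eq' rfl
  haveI : IsScalarTower A Ah C' := IsScalarTower.of_algebraMap_eq' rfl
  have hsp : CommRingCat.ofHom (algebraMap A Ah) ≫ iH = iA ≫ sp.appTop :=
    Scheme.ΓSpecIso_inv_naturality _
  have hsquare : iA ≫ w.app ⊤ ≫ a.appLE (w ⁻¹ᵁ ⊤) ⊤ le_top = CommRingCat.ofHom (algebraMap A Ah) ≫ iH ≫ bb.appTop := by
    rw [← Category.assoc (CommRingCat.ofHom _), hsp, Category.assoc, ← Scheme.Hom.comp_appTop]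
    refine congrArg (iA ≫ ·) ?_
    have h0 : (a ≫ w).appTop = (bb ≫ sp).appTop := by rw [H.w]
    rw [← h0, Scheme.Hom.comp_appTop]
    congr 1
    exact Scheme.Hom.appLE_eq_app (f := a) (U := w ⁻¹ᵁ ⊤)
  haveI : IsScalarTower A C C' := IsScalarTower.of_algebraMap_eq' (congrArg CommRingCat.Hom.hom hsquare).symm
  haveI : Flat sp := (HasRingHomProperty.Spec_iff (P := @Flat)).2 (RingHom.flat_algebraMap_iff.2 inferInstance)
  haveI : Algebra.IsPushout A C Ah C' := by
    have hiso := isIso_pushoutSection_of_isQuasiSeparated_of_flat_right H (US := ⊤) (UT := ⊤) (UX := w ⁻¹ᵁ ⊤)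
      le_top le_rfl (UY := ⊤) (by ext; simp) (isAffineOpen_top _) (isAffineOpen_top _)
      (NoetherianSpace.isCompact _) (IsQuasiSeparated.of_quasiSeparatedSpace _)
    rw [isIso_pushoutSection_iff] at hiso
    simp only [Scheme.Hom.appLE_eq_app] at hiso
    refine CommRingCat.isPushout_iff_isPushout.1 ?_
    refine hiso.of_iso (Scheme.ΓSpecIso (CommRingCat.of A)) (Iso.refl _) (Scheme.ΓSpecIso (CommRingCat.of Ah)) (Iso.refl _) ?_ ?_ ?_ ?_
    · simp [RingHom.algebraMap_toAlgebra, iA]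
      erw [Category.comp_id]
      exact ((Scheme.ΓSpecIso (CommRingCat.of A)).hom_inv_id_assoc (w.app ⊤)).symm
    · exact (Scheme.ΓSpecIso_naturality _)
    · simp [RingHom.algebraMap_toAlgebra]; rfl
    · simp [RingHom.algebraMap_toAlgebra, iH]
      exact Scheme.Hom.appLE_eq_app (f := bb) (U := ⊤)
  haveI : Algebra.IsPushout A Ah C C' := Algebra.IsPushout.symm inferInstance
  haveI : Module.Finite Ah B := RingHom.finite_algebraMap.1
    ((Scheme.Hom.finite_appTop y).comp (RingHom.Finite.of_surjective _ (ConcreteCategory.bijective_of_isIso iH).2))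
  haveI : Algebra.Etale Ah B := RingHom.etale_algebraMap.1 (RingHom.Etale.stableUnderComposition _ _
    (RingHom.Etale.of_bijective (ConcreteCategory.bijective_of_isIso iH)) (HasRingHomProperty.appTop @Etale y inferInstance))
  let ρ : B →ₐ[Ah] C' :=
    { j.appTop.hom with
      commutes' := fun r => by
        show (iH ≫ y.appTop ≫ j.appTop).hom r = (iH ≫ bb.appTop).hom r
        rw [← Scheme.Hom.comp_appTop, hj] }
  obtain ⟨s0, hs0⟩ := (IsLocalRing.maximalIdeal A).fg_of_isNoetherianRing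
  have hsm : ∀ h ∈ s0, h ∈ IsLocalRing.maximalIdeal A := fun h hh => hs0 ▸ Submodule.subset_span hh
  have hbo : ∀ h : A, X.basicOpen (iA.hom h) = PrimeSpectrum.basicOpen h := fun h => basicOpen_eq_of_affine (R := CommRingCat.of A) h
  have hUle : ∀ h ∈ s0, X.basicOpen (iA.hom h) ≤ U := by
    intro h hh
    rw [hbo]
    intro q hq
    show q ≠ IsLocalRing.closedPoint A
    rintro rfl
    exact hq (hsm h hh)
  have hkey : ∀ h ∈ s0, (∀ c : C', ∃ n : ℕ, ∃ b : B, ρ b = h ^ n • c) ∧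
      (∀ b : B, ρ b = 0 → ∃ n : ℕ, h ^ n • b = 0) := by
    intro h hh
    have hρh : j.appTop.hom (algebraMap A B h) = algebraMap A C' h := by
      rw [IsScalarTower.algebraMap_apply A Ah B, IsScalarTower.algebraMap_apply A Ah C']
      exact ρ.commutes _
    have hle2 : Y'.basicOpen (algebraMap A B h) ≤ j.opensRange := by
      intro η hη
      have hη2 : sp (y η) ∈ U := by
        apply hUle h hh
        refine mem_basicOpen_comp y sp (iA.hom h) η ?_
        have hq : iH.hom (algebraMap A Ah h) = sp.appTop.hom (iA.hom h) :=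
          DFunLike.congr_fun (congrArg CommRingCat.Hom.hom hsp) h
        have : algebraMap A B h = y.appTop.hom (sp.appTop.hom (iA.hom h)) := by
          rw [← hq]
          rfl
        rw [this] at hη
        exact hη
      exact hrange η hη2
    obtain ⟨k1, k2⟩ := sections_of_open_immersion j (algebraMap A B h) hle2
    refine ⟨fun c => ?_, fun b' hb' => ?_⟩
    · obtain ⟨n, b', hb'⟩ := k1 c
      refine ⟨n, b', ?_⟩
      rw [hρh, ← map_pow, ← Algebra.smul_def] at hb'
      exact hb'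
    · obtain ⟨n, hn⟩ := k2 b' hb'
      exact ⟨n, by rw [Algebra.smul_def, map_pow]; exact hn⟩
  obtain ⟨S, _, _, φ, hSfin, hSet, hSiso⟩ := Groth.L13.Purity.ComplAlg.exists_glue (C := C) (C' := C') (IsLocalRing.maximalIdeal A)
    hdense ρ s0 ((Ideal.le_radical).trans_eq (by rw [show Ideal.span (s0 : Set A) = _ from hs0]))
    (fun h hh => (hkey h hh).1) (fun h hh => (hkey h hh).2)
  exact ⟨s0, hs0, S, inferInstance, inferInstance, φ, hSfin, hSet, hSiso⟩

set_option maxHeartbeats 4000000 in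
theorem exists_extension (V : FEt.Cat (FEt.puncturedSpec A : Scheme.{u}))
    (Y' : FEt.Cat (Spec (CommRingCat.of (AdicCompletion (IsLocalRing.maximalIdeal A) A))))
    (e : (FEt.restrict (pullback.snd (FEt.puncturedSpec A).ι
        (Spec.map (CommRingCat.ofHom (algebraMap A (AdicCompletion (IsLocalRing.maximalIdeal A) A)))))).obj Y' ≅
      (FEt.restrict (pullback.fst (FEt.puncturedSpec A).ι
        (Spec.map (CommRingCat.ofHom (algebraMap A (AdicCompletion (IsLocalRing.maximalIdeal A) A)))))).obj V) :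
    ∃ Y : FEt.Cat (Spec (CommRingCat.of A)),
      Nonempty ((FEt.restrict (FEt.puncturedSpec A).ι).obj Y ≅ V) := by
  classical
  let Ah := AdicCompletion (IsLocalRing.maximalIdeal A) A
  let X := Spec (CommRingCat.of A)
  let Xh := Spec (CommRingCat.of Ah)
  let sp : Xh ⟶ X := Spec.map (CommRingCat.ofHom (algebraMap A Ah))
  let U : X.Opens := FEt.puncturedSpec A
  let P := pullback U.ι sp
  let f1 : P ⟶ U.toScheme := pullback.fst U.ι sp
  let f2 : P ⟶ Xh := pullback.snd U.ι sp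
  let W := V.left
  haveI : IsFinite V.hom := V.prop.1
  haveI : Etale V.hom := V.prop.2
  let w : W ⟶ X := V.hom ≫ U.ι
  haveI : LocallyOfFiniteType w := inferInstance
  haveI : IsLocallyNoetherian W := LocallyOfFiniteType.isLocallyNoetherian w
  haveI : CompactSpace U.toScheme := isCompact_iff_compactSpace.1 (NoetherianSpace.isCompact _)
  haveI : CompactSpace ((Functor.fromPUnit U.toScheme).obj V.right) := (inferInstance : CompactSpace U.toScheme)
  haveI : CompactSpace W := QuasiCompact.compactSpace_of_compactSpace V.hom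
  haveI : AlgebraicGeometry.IsNoetherian W := {}
  let WP := ((FEt.restrict f1).obj V).left
  let a : WP ⟶ W := pullback.fst V.hom f1
  let b : WP ⟶ P := pullback.snd V.hom f1
  have H : IsPullback a (b ≫ f2) w sp :=
    (IsPullback.of_hasPullback V.hom f1).paste_vert (IsPullback.of_hasPullback U.ι sp)
  let el : WP ⟶ pullback Y'.hom f2 := e.inv.left
  let j : WP ⟶ Y'.left := el ≫ pullback.fst Y'.hom f2
  haveI : IsIso e.inv.left :=
    ((MorphismProperty.Over.forget _ _ _ ⋙ Over.forget _).mapIso e.symm).isIso_hom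
  haveI : IsIso el := (inferInstance : IsIso e.inv.left)
  haveI : IsFinite Y'.hom := Y'.prop.1
  haveI : Etale Y'.hom := Y'.prop.2
  haveI : IsOpenImmersion j := inferInstance
  have hj : j ≫ Y'.hom = b ≫ f2 := by
    show (el ≫ _) ≫ _ = _
    rw [Category.assoc, pullback.condition, ← Category.assoc]
    exact congrArg (· ≫ f2) (MorphismProperty.Over.w e.inv)
  haveI : IsAffine ((Functor.fromPUnit Xh).obj Y'.right) := (inferInstance : IsAffine Xh)
  haveI : IsAffine Y'.left := isAffine_of_isAffineHom Y'.hom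
  haveI : IsAffine ((𝟭 Scheme).obj Y'.left) := (inferInstance : IsAffine Y'.left)
  haveI : IsNoetherianRing Ah := Groth.Agent.S0543.result _ _
  haveI : IsLocallyNoetherian Y'.left := LocallyOfFiniteType.isLocallyNoetherian (Y := Xh) Y'.hom
  haveI : AlgebraicGeometry.IsNoetherian Y'.left := {}
  haveI : NoetherianSpace WP := j.isOpenEmbedding.isInducing.noetherianSpace
  haveI : IsLocallyNoetherian WP := LocallyOfFiniteType.isLocallyNoetherian j
  haveI : AlgebraicGeometry.IsNoetherian WP := {}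
  letI : Algebra A Γ(W, w ⁻¹ᵁ ⊤) := ((Scheme.ΓSpecIso (CommRingCat.of A)).inv ≫ w.app ⊤).hom.toAlgebra
  haveI : Module.FaithfullyFlat A Ah := Module.FaithfullyFlat.of_flat_of_isLocalHom
  obtain ⟨s0, hs0, S, _, _, φ, hSfin, hSet, hSiso⟩ := exists_model A (Ah := Ah) ComplAlg.completion_dense w Y'.hom a (b ≫ f2) H j hj (fun η hη2 => by
    have hη4 : η ∈ Set.range (pullback.fst Y'.hom f2) := by
      rw [IsOpenImmersion.range_pullbackFst]
      show Y'.hom η ∈ Set.range (pullback.snd U.ι sp)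
      rw [IsOpenImmersion.range_pullbackSnd, Scheme.Opens.opensRange_ι]
      exact hη2
    obtain ⟨q', hq'⟩ := hη4
    obtain ⟨q'', rfl⟩ := el.surjective q'
    exact ⟨q'', by rw [← hq']; rfl⟩)
  let iA := (Scheme.ΓSpecIso (CommRingCat.of A)).inv
  have hsm : ∀ h ∈ s0, h ∈ IsLocalRing.maximalIdeal A := fun h hh => hs0 ▸ Ideal.subset_span hh
  have hbo : ∀ h : A, X.basicOpen (iA.hom h) = PrimeSpectrum.basicOpen h := fun h => basicOpen_eq_of_affine (R := CommRingCat.of A) h
  have hUle : ∀ h ∈ s0, X.basicOpen (iA.hom h) ≤ U := by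
    intro h hh
    rw [hbo]
    intro q hq
    show q ≠ IsLocalRing.closedPoint A
    rintro rfl
    exact hq (hsm h hh)
  let hA := (Scheme.ΓSpecIso (CommRingCat.of A)).hom
  letI : Algebra Γ(X, ⊤) S := ((algebraMap A S).comp hA.hom).toAlgebra
  haveI : Module.Finite Γ(X, ⊤) S := RingHom.finite_algebraMap.1
    ((RingHom.finite_algebraMap.2 hSfin).comp (RingHom.Finite.of_surjective _ (ConcreteCategory.bijective_of_isIso hA).2))
  haveI : Algebra.Etale Γ(X, ⊤) S := RingHom.etale_algebraMap.1 (RingHom.Etale.stableUnderComposition _ _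
    (RingHom.Etale.of_bijective (ConcreteCategory.bijective_of_isIso hA)) (RingHom.etale_algebraMap.2 hSet))
  let s := s0.image iA.hom
  have hw : w ⁻¹ᵁ U = ⊤ := by rw [Scheme.Hom.comp_preimage, U.ι_preimage_self]; rfl
  haveI hwaff : ∀ h : s, IsAffine (w ⁻¹ᵁ X.basicOpen h.1).toScheme := by
    rintro ⟨h, hh⟩
    obtain ⟨h0, hh0, rfl⟩ := Finset.mem_image.1 hh
    show IsAffineOpen _
    rw [Scheme.Hom.comp_preimage]
    exact (((isAffineOpen_top X).basicOpen _).preimage_of_isOpenImmersion U.ι (by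
      rw [Scheme.Opens.opensRange_ι]; exact hUle h0 hh0)).preimage V.hom
  have hrel : ∀ r : A, (w.app ⊤).hom (iA.hom r) = algebraMap A Γ(W, w ⁻¹ᵁ ⊤) r := fun r => rfl
  obtain ⟨Y, y, y', i, hy', hyp, hio, hiy, hir⟩ := Spread.exists_chart w (U' := U) (D := ⊤) (isAffineOpen_top X) hw s
    (fun q _ hq => by
      have : ¬ (Ideal.span (s0 : Set A) ≤ q.asIdeal) := by
        rw [show Ideal.span (s0 : Set A) = _ from hs0]
        intro hle
        exact hq (PrimeSpectrum.ext ((IsLocalRing.maximalIdeal.isMaximal A).eq_of_le q.isPrime.ne_top hle).symm)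
      rw [Ideal.span_le] at this
      obtain ⟨h, hh, hhq⟩ := Set.not_subset.1 this
      exact ⟨iA.hom h, Finset.mem_image_of_mem _ hh, by rw [hbo]; exact hhq⟩)
    (fun h hh => by
      obtain ⟨h0, hh0, rfl⟩ := Finset.mem_image.1 hh
      exact hUle h0 hh0)
    1 S φ.toRingHom
    (by
      ext r
      show φ (algebraMap A S (hA.hom r)) = _
      rw [φ.commutes]
      exact congrArg (w.app ⊤).hom (congr($((Scheme.ΓSpecIso (CommRingCat.of A)).hom_inv_id) r)))
    (fun h hh c => by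
      obtain ⟨h0, hh0, rfl⟩ := Finset.mem_image.1 hh
      obtain ⟨n, x, hx⟩ := (hSiso h0 hh0).1 c
      refine ⟨n, x, ?_⟩
      rw [one_mul, ← map_pow, hrel]
      exact hx.trans (Algebra.smul_def _ _))
    (fun h hh x hx => by
      obtain ⟨h0, hh0, rfl⟩ := Finset.mem_image.1 hh
      obtain ⟨n, hn⟩ := (hSiso h0 hh0).2 x hx
      refine ⟨n, ?_⟩
      rw [one_mul, Algebra.smul_def, ← map_pow]
      show algebraMap A S (hA.hom (iA.hom (h0 ^ n))) * x = 0
      rw [show hA.hom (iA.hom (h0 ^ n)) = h0 ^ n from congr($((Scheme.ΓSpecIso (CommRingCat.of A)).inv_hom_id) (h0 ^ n)),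
        ← Algebra.smul_def]
      exact hn)
  haveI := hio
  have hext := Spread.ext_sup U V.hom (U' := U) le_rfl w (𝟙 W) hw ((Spread.prop_restrict_iff _ _ V.hom rfl).2 V.prop)
    (Spread.isPullback_of_fac w U V.hom rfl).flip y y' hy' hyp i hiy hir
  refine exists_iso_of_ext_top U V ?_
  have htop : U ⊔ X.basicOpen 1 = ⊤ := eq_top_iff.2 fun q _ => Or.inr (by rw [Scheme.basicOpen_of_isUnit _ isUnit_one]; trivial)
  rw [← htop]
  exact hext

end Groth.L13.Purity.Compl
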