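import Groth.Agent.L29.Trace
import Mathlib.RingTheory.Unramified.Finite
import Mathlib.RingTheory.Smooth.Fiber
import Mathlib.RingTheory.Ideal.KrullsHeightTheorem

/-! A finite free algebra with unit discriminant is etale. -/

set_option autoImplicit false
set_option linter.style.haveILetI false

universe u

open TensorProduct Module IsLocalRing

namespace Groth.L13.Purity

variable {R S : Type u} [CommRing R] [CommRing S] [Algebra R S]

theorem formallyUnramified_of_isUnit_det {κ : Type u} [Fintype κ] [DecidableEq κ] (b : Basis κ R S)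
    (h : IsUnit (Algebra.traceMatrix R b).det) : Algebra.FormallyUnramified R S := by
  haveI : Module.Finite R S := Module.Finite.of_basis b
  let A := Algebra.traceMatrix R b
  let d : κ → S := fun j => ∑ k, A⁻¹ j k • b k
  let tr := Algebra.trace R S
  have hsymm : ∀ i j, A i j = tr (b i * b j) := fun i j => by
    simp [A, tr, Algebra.traceMatrix_apply, Algebra.traceForm_apply]
  have hbd : ∀ i j, tr (b i * d j) = if j = i then 1 else 0 := by
    intro i j
    have h1 : tr (b i * d j) = (A⁻¹ * A) j i := by
      simp only [d, Finset.mul_sum, map_sum, mul_smul_comm, map_smul, smul_eq_mul, Matrix.mul_apply, hsymm]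
      exact Finset.sum_congr rfl fun k _ => by rw [mul_comm (b i) (b k)]
    rw [h1, Matrix.nonsing_inv_mul A h, Matrix.one_apply]
  have hrepr : ∀ y j, b.repr y j = tr (y * d j) := by
    intro y j
    have h1 : tr ((∑ i, b.repr y i • b i) * d j) = b.repr y j := by
      rw [Finset.sum_mul, map_sum]
      simp [smul_mul_assoc, hbd]
    rw [b.sum_repr y] at h1
    exact h1.symm
  have hexp : ∀ y, y = ∑ j, tr (y * b j) • d j := by
    intro y
    apply b.repr.injective
    ext i
    rw [hrepr, hrepr, Finset.sum_mul, map_sum]
    conv_lhs => rw [← b.sum_repr (d i), Finset.mul_sum, map_sum]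
    refine Finset.sum_congr rfl fun j _ => ?_
    rw [mul_smul_comm, map_smul, smul_mul_assoc, map_smul, hrepr, mul_comm (d i) (d j), smul_eq_mul, smul_eq_mul]
    exact mul_comm _ _
  refine Algebra.FormallyUnramified.iff_exists_tensorProduct.2 ⟨∑ j, b j ⊗ₜ[R] d j, fun s => ?_, ?_⟩
  · rw [sub_mul, sub_eq_zero, Finset.mul_sum, Finset.mul_sum]
    simp only [Algebra.TensorProduct.tmul_mul_tmul, one_mul]
    calc ∑ j, b j ⊗ₜ[R] (s * d j) = ∑ j, ∑ k, tr (s * d j * b k) • (b j ⊗ₜ[R] d k) := by
          refine Finset.sum_congr rfl fun j _ => ?_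
          conv_lhs => rw [hexp (s * d j)]
          rw [tmul_sum]
          exact Finset.sum_congr rfl fun k _ => tmul_smul _ _ _
      _ = ∑ k, ∑ j, tr (s * b k * d j) • (b j ⊗ₜ[R] d k) := by
          rw [Finset.sum_comm]
          exact Finset.sum_congr rfl fun k _ => Finset.sum_congr rfl fun j _ => by rw [mul_right_comm]
      _ = ∑ k, (s * b k) ⊗ₜ[R] d k := by
          refine Finset.sum_congr rfl fun k _ => ?_
          conv_rhs => rw [← b.sum_repr (s * b k)]
          rw [sum_tmul]
          exact Finset.sum_congr rfl fun j _ => by rw [hrepr, smul_tmul']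
  · rw [map_sum]
    simp only [Algebra.TensorProduct.lmul'_apply_tmul]
    have key : ∀ y, tr (y * ∑ j, b j * d j) = tr y := by
      intro y
      rw [Finset.mul_sum, map_sum]
      show _ = Algebra.trace R S y
      rw [Algebra.trace_eq_matrix_trace b, Matrix.trace]
      refine Finset.sum_congr rfl fun j _ => ?_
      rw [Matrix.diag_apply, Algebra.leftMulMatrix_eq_repr_mul, hrepr, mul_assoc]
    apply b.repr.injective
    ext i
    rw [hrepr, hrepr, one_mul, mul_comm, key]

/-- finite free and etale off the closed point implies etale, in dimension at least two -/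
theorem etale_of_free_of_punctured [IsLocalRing R] [IsNoetherianRing R]
    (hd : 2 ≤ ringKrullDim R) [Module.Free R S] [Module.Finite R S]
    (het : ∀ f ∈ maximalIdeal R, Algebra.Etale (Localization.Away f) (Localization.Away f ⊗[R] S)) :
    Algebra.Etale R S := by
  classical
  let b := Module.Free.chooseBasis R S
  have hunit : IsUnit (Algebra.traceMatrix R b).det := by
    by_contra hu
    let D := (Algebra.traceMatrix R b).det
    have hle : ∀ f ∈ maximalIdeal R, f ∈ (Ideal.span {D}).radical := by
      intro f hf
      haveI := het f hf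
      have h1 := Groth.L29.Trace.isUnit_det_traceMatrix (Algebra.TensorProduct.basis (Localization.Away f) b)
      have h2 : Algebra.traceMatrix (Localization.Away f) (Algebra.TensorProduct.basis (Localization.Away f) b) =
          (algebraMap R (Localization.Away f)).mapMatrix (Algebra.traceMatrix R b) := by
        ext i j
        simp [Algebra.traceMatrix_apply, Algebra.traceForm_apply, Groth.L29.Trace.trace_tmul_one]
      rw [h2, ← RingHom.map_det] at h1
      obtain ⟨y, hy⟩ := h1.exists_right_inv
      obtain ⟨⟨a, ⟨_, n, rfl⟩⟩, ha⟩ := IsLocalization.surj (Submonoid.powers f) y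
      have h3 : algebraMap R (Localization.Away f) (D * a) = algebraMap R (Localization.Away f) (f ^ n) := by
        rw [map_mul, ← ha, ← mul_assoc, hy, one_mul]
      obtain ⟨⟨_, m, rfl⟩, hm⟩ := (IsLocalization.eq_iff_exists (Submonoid.powers f) (Localization.Away f)).1 h3
      exact ⟨m + n, Ideal.mem_span_singleton'.2 ⟨f ^ m * a, by
        simp only at hm
        rw [pow_add, ← hm]; ring⟩⟩
    have hDm : D ∈ maximalIdeal R := (mem_maximalIdeal _).2 hu
    have hmin : maximalIdeal R ∈ (Ideal.span {D}).minimalPrimes := by
      refine ⟨⟨(maximalIdeal.isMaximal R).isPrime, (Ideal.span_singleton_le_iff_mem _).2 hDm⟩, fun q hq _ => ?_⟩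
      exact fun f hf => hq.1.radical_le_iff.2 hq.2 (hle f hf)
    have h1 := Ideal.height_le_one_of_isPrincipal_of_mem_minimalPrimes _ _ hmin
    rw [← IsLocalRing.maximalIdeal_height_eq_ringKrullDim] at hd
    exact absurd (hd.trans (WithBot.coe_le_coe.2 h1)) (by decide)
  haveI := formallyUnramified_of_isUnit_det b hunit
  haveI : Algebra.FinitePresentation R S := Algebra.FinitePresentation.of_finiteType.1 inferInstance
  exact Algebra.Etale.of_formallyUnramified_of_flat

end Groth.L13.Purity
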