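import Groth.Agent.L13.Purity.Step
import Groth.Agent.L13.Purity.Disc
import Groth.Agent.L13.Wild.FreeRegular
import Groth.Agent.L03.RegularNormal
import Groth.Agent.S0564
import Mathlib.RingTheory.Flat.TorsionFree
import Mathlib.RingTheory.DedekindDomain.Dvr

/-! Zariski–Nagata purity for normalisations of regular local rings. -/

set_option autoImplicit false
set_option linter.style.haveILetI false

universe u

open TensorProduct IsLocalRing Pointwise

namespace Groth.L13.Purity

section Transfer

variable (R K L B : Type u) [CommRing R] [IsDomain R] [Field K] [Field L] [CommRing B] [Algebra R K]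
  [IsFractionRing R K] [Algebra K L] [Algebra R L] [IsScalarTower R K L] [FiniteDimensional K L]
  [Algebra.IsSeparable K L] [Algebra R B] [Algebra B L] [IsScalarTower R B L] [IsIntegralClosure B R L]

include K L in
/-- purity for the localisation of the base gives etaleness at the primes above -/
theorem isEtaleAt_of_pure (P : Ideal B) [P.IsPrime] (p : Ideal R) [p.IsPrime]
    (hp : P.comap (algebraMap R B) = p) (hpure : Pure (Localization.AtPrime p))
    (hB : UnramifiedCodimOne R B) : Algebra.IsEtaleAt R P := by
  let Rp := Localization.AtPrime p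
  let S := Algebra.algebraMapSubmonoid B p.primeCompl
  let Bp := Localization S
  haveI : IsDomain B := (IsIntegralClosure.algebraMap_injective B R L).isDomain (algebraMap B L)
  have hinjK : Function.Injective (algebraMap R K) := IsFractionRing.injective R K
  have hinjL : Function.Injective (algebraMap R L) := by
    rw [IsScalarTower.algebraMap_eq R K L]
    exact (algebraMap K L).injective.comp hinjK
  have hne : ∀ y : p.primeCompl, (y : R) ≠ 0 := fun y h => y.2 (by rw [h]; exact zero_mem p)
  have huK : ∀ y : p.primeCompl, IsUnit (algebraMap R K y) := fun y =>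
    isUnit_iff_ne_zero.2 ((map_ne_zero_iff _ hinjK).2 (hne y))
  letI : Algebra Rp K := (IsLocalization.lift huK : Rp →+* K).toAlgebra
  haveI : IsScalarTower R Rp K := IsScalarTower.of_algebraMap_eq fun r => (IsLocalization.lift_eq huK r).symm
  haveI : IsFractionRing Rp K := IsFractionRing.isFractionRing_of_isDomain_of_isLocalization p.primeCompl Rp K
  letI : Algebra Rp L := ((algebraMap K L).comp (algebraMap Rp K)).toAlgebra
  haveI : IsScalarTower Rp K L := IsScalarTower.of_algebraMap_eq fun r => rfl
  haveI : IsScalarTower R Rp L := IsScalarTower.of_algebraMap_eq fun r => by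
    rw [IsScalarTower.algebraMap_apply R K L, IsScalarTower.algebraMap_apply R Rp K]
    rfl
  have huL : ∀ y : S, IsUnit (algebraMap B L y) := by
    rintro ⟨y, r, hr, rfl⟩
    rw [← IsScalarTower.algebraMap_apply R B L]
    exact isUnit_iff_ne_zero.2 ((map_ne_zero_iff _ hinjL).2 (hne ⟨r, hr⟩))
  letI : Algebra Bp L := (IsLocalization.lift huL : Bp →+* L).toAlgebra
  haveI : IsScalarTower B Bp L := IsScalarTower.of_algebraMap_eq fun r => (IsLocalization.lift_eq huL r).symm
  haveI : IsScalarTower Rp Bp L := IsScalarTower.of_algebraMap_eq' <| by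
    refine IsLocalization.ringHom_ext p.primeCompl (RingHom.ext fun r => ?_)
    show algebraMap Rp L (algebraMap R Rp r) = algebraMap Bp L (algebraMap Rp Bp (algebraMap R Rp r))
    rw [← IsScalarTower.algebraMap_apply R Rp L, ← IsScalarTower.algebraMap_apply R Rp Bp,
      IsScalarTower.algebraMap_apply R B Bp, ← IsScalarTower.algebraMap_apply B Bp L, ← IsScalarTower.algebraMap_apply]
  haveI : IsIntegralClosure Bp Rp L := by
    refine ⟨?_, fun {x} => ⟨fun hx => ?_, ?_⟩⟩
    · rw [injective_iff_map_eq_zero]
      intro y hy
      obtain ⟨⟨b, t⟩, hbt⟩ := IsLocalization.surj S y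
      have h1 := congrArg (algebraMap Bp L) hbt
      rw [map_mul, hy, zero_mul, ← IsScalarTower.algebraMap_apply] at h1
      have h2 : b = 0 := (map_eq_zero_iff _ (IsIntegralClosure.algebraMap_injective B R L)).1 h1.symm
      subst h2
      simp only [map_zero] at hbt
      exact (IsLocalization.map_units Bp t).mul_left_eq_zero.1 hbt
    · obtain ⟨m, hm⟩ := IsIntegral.exists_multiple_integral_of_isLocalization p.primeCompl x hx
      obtain ⟨b, hb⟩ := (IsIntegralClosure.isIntegral_iff (A := B)).1 hm
      refine ⟨IsLocalization.mk' Bp b (⟨algebraMap R B m, m, m.2, rfl⟩ : S), ?_⟩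
      refine ((isUnit_iff_ne_zero.2 ((map_ne_zero_iff _ hinjL).2 (hne m))).mul_right_inj).1 ?_
      rw [IsScalarTower.algebraMap_apply R B L, IsScalarTower.algebraMap_apply B Bp L (algebraMap R B (m : R)),
        ← map_mul, IsLocalization.mk'_spec' Bp b (⟨algebraMap R B m, m, m.2, rfl⟩ : S),
        ← IsScalarTower.algebraMap_apply B Bp L, hb, Submonoid.smul_def, Algebra.smul_def,
        ← IsScalarTower.algebraMap_apply, ← IsScalarTower.algebraMap_apply]
    · rintro ⟨y, rfl⟩
      haveI : Algebra.IsIntegral R B := IsIntegralClosure.isIntegral_algebra R L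
      haveI : Algebra.IsIntegral Rp Bp := ⟨fun z => by
        obtain ⟨b, ⟨t, r, hr, rfl⟩, rfl⟩ := IsLocalization.exists_mk'_eq S z
        have hu := IsLocalization.map_units Rp (⟨r, hr⟩ : p.primeCompl)
        have h1 : IsLocalization.mk' Bp b (⟨algebraMap R B r, r, hr, rfl⟩ : S) =
            (↑hu.unit⁻¹ : Rp) • algebraMap B Bp b := by
          rw [IsLocalization.mk'_eq_iff_eq_mul, Algebra.smul_def, mul_right_comm, ← IsScalarTower.algebraMap_apply R B Bp,
            IsScalarTower.algebraMap_apply R Rp Bp, ← map_mul, IsUnit.val_inv_mul, map_one, one_mul]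
        exact (congrArg (IsIntegral Rp) h1).mpr
          ((((Algebra.IsIntegral.isIntegral (R := R) b).map (IsScalarTower.toAlgHom R B Bp)).tower_top).smul _)⟩
      exact (Algebra.IsIntegral.isIntegral (R := Rp) y).map (IsScalarTower.toAlgHom Rp Bp L)
  have hBp : UnramifiedCodimOne Rp Bp := by
    intro Q _ hQ
    let Q' := Q.comap (algebraMap B Bp)
    have hQ' : (Q'.comap (algebraMap R B)).height = 1 := by
      rw [← hQ, ← IsLocalization.height_under p.primeCompl (Q.comap (algebraMap Rp Bp))]
      simp only [Q', Ideal.under, Ideal.comap_comap, ← IsScalarTower.algebraMap_eq]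
    haveI : Algebra.FormallyUnramified R (Localization.AtPrime Q') := hB Q' hQ'
    haveI : IsLocalization.AtPrime (Localization.AtPrime Q) Q' :=
      IsLocalization.isLocalization_isLocalization_atPrime_isLocalization S (Localization.AtPrime Q) Q
    haveI : Algebra.FormallyUnramified R (Localization.AtPrime Q) := Algebra.FormallyUnramified.of_equiv
      ((IsLocalization.algEquiv Q'.primeCompl (Localization.AtPrime Q') (Localization.AtPrime Q)).restrictScalars R)
    exact Algebra.FormallyUnramified.of_restrictScalars R Rp (Localization.AtPrime Q)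
  haveI : Algebra.Etale Rp Bp := hpure K L Bp hBp
  haveI : Algebra.FormallyEtale R Rp := Algebra.FormallyEtale.of_isLocalization p.primeCompl
  haveI : Algebra.FormallyEtale R Bp := Algebra.FormallyEtale.comp R Rp Bp
  have hle : ∀ y : S, IsUnit (algebraMap B (Localization.AtPrime P) y) := by
    rintro ⟨y, r, hr, rfl⟩
    exact IsLocalization.map_units (Localization.AtPrime P) (⟨algebraMap R B r, fun h => hr (hp ▸ h)⟩ : P.primeCompl)
  letI : Algebra Bp (Localization.AtPrime P) := (IsLocalization.lift hle : Bp →+* Localization.AtPrime P).toAlgebra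
  haveI : IsScalarTower B Bp (Localization.AtPrime P) :=
    IsScalarTower.of_algebraMap_eq fun r => (IsLocalization.lift_eq hle r).symm
  haveI : IsScalarTower R Bp (Localization.AtPrime P) := IsScalarTower.of_algebraMap_eq fun r => by
    rw [IsScalarTower.algebraMap_apply R B Bp, ← IsScalarTower.algebraMap_apply B Bp,
      ← IsScalarTower.algebraMap_apply]
  haveI : Algebra.FormallyEtale B Bp := Algebra.FormallyEtale.of_isLocalization S
  haveI : Algebra.FormallyEtale B (Localization.AtPrime P) := Algebra.FormallyEtale.of_isLocalization P.primeCompl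
  haveI : Algebra.FormallyEtale Bp (Localization.AtPrime P) := Algebra.FormallyEtale.of_restrictScalars (R := B)
  exact Algebra.FormallyEtale.comp R Bp (Localization.AtPrime P)

end Transfer

theorem isUnramifiedAt_bot (R K L B : Type u) [CommRing R] [IsDomain R] [Field K] [Field L] [CommRing B]
    [IsDomain B] [Algebra R K] [IsFractionRing R K] [Algebra K L] [Algebra R L] [IsScalarTower R K L]
    [FiniteDimensional K L] [Algebra.IsSeparable K L] [Algebra R B] [Algebra B L] [IsScalarTower R B L]
    [IsIntegralClosure B R L] : Algebra.IsUnramifiedAt R (⊥ : Ideal B) := by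
  haveI : IsFractionRing B L := IsIntegralClosure.isFractionRing_of_finite_extension R K L B
  haveI : Algebra.FormallyEtale R K := Algebra.FormallyEtale.of_isLocalization (nonZeroDivisors R)
  haveI : Algebra.FormallyEtale K L := Algebra.FormallyEtale.of_isSeparable K L
  haveI : Algebra.FormallyEtale R L := Algebra.FormallyEtale.comp R K L
  have hM : (⊥ : Ideal B).primeCompl = nonZeroDivisors B := by
    ext; simp [Ideal.primeCompl, mem_nonZeroDivisors_iff_ne_zero]
  haveI : IsLocalization.AtPrime L (⊥ : Ideal B) := by
    show IsLocalization (⊥ : Ideal B).primeCompl L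
    rw [hM]; infer_instance
  exact Algebra.FormallyUnramified.of_equiv
    ((IsLocalization.algEquiv (⊥ : Ideal B).primeCompl L (Localization.AtPrime (⊥ : Ideal B))).restrictScalars R)

theorem pure_aux : ∀ (n : ℕ) (R : Type u) [CommRing R] [IsRegularLocalRing R], ringKrullDim R ≤ n → Pure R := by
  intro n
  induction n using Nat.strong_induction_on with | _ n ih => ?_
  intro R _ _ hd K L B _ _ _ _ _ _ _ _ _ _ _ _ _ _ hB
  haveI := Groth.L01.isDomain_of_regular R
  haveI := Groth.L03.RegularNormal.isIntegrallyClosed R
  haveI : Module.Finite R B := IsIntegralClosure.finite R K L B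
  haveI : Algebra.FinitePresentation R B := Algebra.FinitePresentation.of_finiteType.1 inferInstance
  haveI : IsDomain B := (IsIntegralClosure.algebraMap_injective B R L).isDomain (algebraMap B L)
  obtain ⟨d, hdim⟩ := Groth.L01.exists_dim_eq_nat (R := R)
  have hdn : d ≤ n := by rw [hdim] at hd; exact_mod_cast hd
  rcases Nat.lt_or_ge d 2 with hd2 | hd2
  · -- dimension at most one
    haveI : Ring.KrullDimLE 1 R := Ring.krullDimLE_iff.2 (by
      rw [hdim]; exact_mod_cast (by omega : d ≤ 1))
    haveI : Ring.DimensionLEOne R := ⟨fun {q} hq hqp => (Ring.krullDimLE_one_iff_of_noZeroDivisors.1 ‹_›) q hq hqp⟩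
    haveI : IsDedekindDomain R := {}
    haveI : Module.IsTorsionFree R L := .trans_faithfulSMul R K L
    haveI : Module.IsTorsionFree R B := IsIntegralClosure.isTorsionFree R L
    haveI : Module.Flat R B := inferInstance
    haveI : Algebra.FormallyUnramified R B := by
      rw [← Algebra.unramifiedLocus_eq_univ_iff, Set.eq_univ_iff_forall]
      intro P
      show Algebra.IsUnramifiedAt R P.asIdeal
      by_cases h0 : P.asIdeal.comap (algebraMap R B) = ⊥
      · have h1 : P.asIdeal = ⊥ := Ideal.eq_bot_of_comap_eq_bot h0
        obtain ⟨P, hP⟩ := P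
        subst h1
        exact isUnramifiedAt_bot R K L B
      · refine hB P.asIdeal ?_
        haveI : (P.asIdeal.comap (algebraMap R B)).IsPrime := Ideal.comap_isPrime _ _
        refine le_antisymm ?_ ?_
        · have h1 := Ideal.height_le_ringKrullDim_of_ne_top
            (Ideal.IsPrime.ne_top (I := P.asIdeal.comap (algebraMap R B)) inferInstance)
          rw [hdim] at h1
          exact (show (P.asIdeal.comap (algebraMap R B)).height ≤ (d : ℕ∞) by exact_mod_cast h1).trans
            (by exact_mod_cast (by omega : d ≤ 1))
        · by_contra hlt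
          have h2 : (P.asIdeal.comap (algebraMap R B)).height = 0 := Order.lt_one_iff.1 (not_le.1 hlt)
          exact h0 (Ideal.height_eq_zero_iff_eq_bot.1 h2)
    exact Algebra.Etale.of_formallyUnramified_of_flat
  -- dimension at least two
  obtain ⟨n, rfl⟩ : ∃ m, n = m + 1 := ⟨n - 1, by omega⟩
  have het : ∀ f ∈ maximalIdeal R, Algebra.Etale (Localization.Away f) (Localization.Away f ⊗[R] B) := by
    intro f hf
    refine etale_away f fun P _ hfP => ?_
    let p := P.comap (algebraMap R B)
    haveI : p.IsPrime := Ideal.comap_isPrime _ _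
    haveI : IsRegularLocalRing (Localization.AtPrime p) := Groth.Agent.S0564.result R p
    refine isEtaleAt_of_pure R K L B P p rfl (ih n (by omega) _ ?_) hB
    rw [IsLocalization.AtPrime.ringKrullDim_eq_height p (Localization.AtPrime p)]
    have hlt : p < maximalIdeal R :=
      lt_of_le_of_ne (le_maximalIdeal Ideal.IsPrime.ne_top') fun h => hfP (by
        have : f ∈ p := h ▸ hf
        exact this)
    have h1 := Ideal.height_strict_mono_of_isPrime hlt
    have h2 := maximalIdeal_height_eq_ringKrullDim (R := R)
    rw [hdim] at h2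
    have h3 : (maximalIdeal R).height = (d : ℕ∞) := by exact_mod_cast h2
    rw [h3] at h1
    have h4 : p.height ≤ (n : ℕ∞) := by
      obtain ⟨k, hk⟩ := ENat.ne_top_iff_exists.1 (ne_top_of_lt h1)
      rw [← hk] at h1 ⊢
      have : k < d := by exact_mod_cast h1
      exact_mod_cast (by omega : k ≤ n)
    exact_mod_cast h4
  haveI : Module.Free R B := by
    rcases Nat.lt_or_ge d 3 with hd3 | hd3
    · obtain rfl : d = 2 := by omega
      obtain ⟨x, hx, hx'⟩ := exists_mem_notMem_sq R (by rw [hdim]; decide)
      obtain ⟨hR₁, hdim₁⟩ := Groth.L01.regular_quotient_of_notMem_sq hx hx'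
      haveI := hR₁
      haveI := Groth.L01.isDomain_of_regular (R ⧸ Ideal.span {x})
      obtain ⟨d₁, hd₁⟩ := Groth.L01.exists_dim_eq_nat (R := R ⧸ Ideal.span {x})
      obtain rfl : d₁ = 1 := by
        rw [hd₁, hdim] at hdim₁
        have : d₁ + 1 = 2 := by exact_mod_cast hdim₁
        omega
      have hsp := (isRegularLocalRing_iff (R ⧸ Ideal.span {x})).1 inferInstance
      rw [hd₁] at hsp
      have hsp' : (maximalIdeal (R ⧸ Ideal.span {x})).spanFinrank = 1 := by exact_mod_cast hsp
      obtain ⟨s, hs, hs'⟩ := Submodule.FG.exists_span_finset_card_eq_spanFinrank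
        (IsNoetherian.noetherian (maximalIdeal (R ⧸ Ideal.span {x})))
      rw [hsp', Finset.card_eq_one] at hs
      obtain ⟨yb, rfl⟩ := hs
      rw [Finset.coe_singleton] at hs'
      obtain ⟨y, rfl⟩ := Ideal.Quotient.mk_surjective yb
      have hgen : Ideal.ofList [x, y] = maximalIdeal R := by
        rw [Ideal.ofList_cons, Ideal.ofList_singleton]
        have h1 : (maximalIdeal (R ⧸ Ideal.span {x})).comap (Ideal.Quotient.mk (Ideal.span {x})) = maximalIdeal R :=
          eq_maximalIdeal (Ideal.comap_isMaximal_of_surjective _ Ideal.Quotient.mk_surjective)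
        rw [← h1, ← hs', show (Submodule.span (R ⧸ Ideal.span {x}) {Ideal.Quotient.mk (Ideal.span {x}) y} :
            Ideal (R ⧸ Ideal.span {x})) = (Ideal.span {y}).map (Ideal.Quotient.mk (Ideal.span {x})) by
          rw [Ideal.map_span, Set.image_singleton], Ideal.comap_map_of_surjective _ Ideal.Quotient.mk_surjective,
          ← RingHom.ker_eq_comap_bot, Ideal.mk_ker, sup_comm]
      have hpx : Prime x := prime_of_notMem_sq hx hx'
      have hxy : ¬ x ∣ y := fun h => by
        rw [Ideal.Quotient.eq_zero_iff_mem.2 (Ideal.mem_span_singleton.2 h), Submodule.span_zero_singleton] at hs'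
        rw [← hs', Submodule.spanFinrank_bot] at hsp'
        exact absurd hsp' (by decide)
      refine Groth.L13.Wild.free_of_isWeaklyRegular 2 R B [x, y] rfl hgen
        ((RingTheory.Sequence.isWeaklyRegular_map_algebraMap_iff B B [x, y]).1 ?_)
      rw [List.map_cons, List.map_singleton, RingTheory.Sequence.isWeaklyRegular_cons_iff,
        RingTheory.Sequence.isWeaklyRegular_singleton_iff]
      have hinj : algebraMap R B x ≠ 0 := fun h0 => hpx.ne_zero <| by
        have h2 := congrArg (algebraMap B L) h0
        rw [← IsScalarTower.algebraMap_apply, map_zero, IsScalarTower.algebraMap_apply R K L] at h2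
        exact (map_eq_zero_iff _ (IsFractionRing.injective R K)).1 ((map_eq_zero_iff _ (algebraMap K L).injective).1 h2)
      refine ⟨(IsRegular.of_ne_zero hinj).left.isSMulRegular, ?_⟩
      rw [isSMulRegular_iff_right_eq_zero_of_smul]
      intro z hz
      obtain ⟨z, rfl⟩ := Submodule.Quotient.mk_surjective _ z
      have he : algebraMap R B x • (⊤ : Submodule B B) = Ideal.span {algebraMap R B x} := by
        rw [← Submodule.ideal_span_singleton_smul, smul_eq_mul, Ideal.mul_top]
      rw [← Submodule.Quotient.mk_smul, Submodule.Quotient.mk_eq_zero, he] at hz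
      rw [Submodule.Quotient.mk_eq_zero, he]
      exact mem_span_of_mul_mem K L B hpx.ne_zero (by rintro rfl; exact hxy (dvd_zero x))
        (fun r hr => (hpx.dvd_or_dvd hr).resolve_left hxy) hz
    · refine free_step (by rw [hdim]; exact_mod_cast hd3) K L B het (fun y hy hy' => ?_) fun y hy hy' => ?_
      · obtain ⟨hR, hdimy⟩ := Groth.L01.regular_quotient_of_notMem_sq hy hy'
        haveI := hR
        obtain ⟨d', hd'⟩ := Groth.L01.exists_dim_eq_nat (R := R ⧸ Ideal.span {y})
        rw [hd', hdim] at hdimy
        have : d' + 1 = d := by exact_mod_cast hdimy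
        exact ih n (by omega) _ (by rw [hd']; exact_mod_cast (by omega : d' ≤ n))
      · haveI := (Groth.L01.regular_quotient_of_notMem_sq hy hy').1
        exact Groth.L03.RegularNormal.isIntegrallyClosed _
  exact etale_of_free_of_punctured (by rw [hdim]; exact_mod_cast hd2) het

/-- purity holds over every regular local ring -/
theorem pure_of_regular (R : Type u) [CommRing R] [IsRegularLocalRing R] : Pure R := by
  obtain ⟨d, hd⟩ := Groth.L01.exists_dim_eq_nat (R := R)
  exact pure_aux d R hd.le

end Groth.L13.Purity
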