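import Groth.Agent.L13.Purity.Inertia
import Groth.Agent.L13.Purity.Main
import Groth.Agent.L13.Wild.InvTools
import Mathlib.RingTheory.Unramified.LocalRing
import Mathlib.RingTheory.IntegralClosure.IntegrallyClosed
import Mathlib.Algebra.Algebra.Shrink

/-! The inertia groups of height one primes generate the group. -/

set_option autoImplicit false
set_option linter.style.haveILetI false
set_option linter.unusedSectionVars false

universe u v w

open IsLocalRing
open scoped Pointwise

namespace Groth.L13.Purity

/-- purity for domains in the universe of the base ring -/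
theorem etale_of_finite_of_unramified {R B : Type u} [CommRing R] [IsRegularLocalRing R] [CommRing B] [IsDomain B]
    [IsIntegrallyClosed B] [Algebra R B] [Module.Finite R B] (hinj : Function.Injective (algebraMap R B))
    (hbot : Algebra.IsUnramifiedAt R (⊥ : Ideal B)) (hB : UnramifiedCodimOne R B) : Algebra.Etale R B := by
  haveI := Groth.L01.isDomain_of_regular R
  haveI : FaithfulSMul R B := (faithfulSMul_iff_algebraMap_injective R B).2 hinj
  let K := FractionRing R
  let L := FractionRing B
  letI : Algebra K L := FractionRing.liftAlgebra R L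
  haveI : IsScalarTower R K L := inferInstance
  haveI : Algebra.IsIntegral R B := Algebra.IsIntegral.of_finite R B
  haveI : IsIntegralClosure B R L := IsIntegralClosure.of_isIntegrallyClosed B R L
  haveI : Algebra.IsAlgebraic R B := Algebra.IsIntegral.isAlgebraic
  haveI : Module.Finite K L := Module.Finite.of_isLocalization R B (nonZeroDivisors R)
  haveI : IsLocalization.AtPrime L (⊥ : Ideal B) := by
    show IsLocalization (⊥ : Ideal B).primeCompl L
    rw [show (⊥ : Ideal B).primeCompl = nonZeroDivisors B by
      ext; simp [Ideal.primeCompl, mem_nonZeroDivisors_iff_ne_zero]]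
    infer_instance
  haveI : Algebra.FormallyUnramified R (Localization.AtPrime (⊥ : Ideal B)) := hbot
  haveI : Algebra.FormallyUnramified R L := Algebra.FormallyUnramified.of_equiv
    ((IsLocalization.algEquiv (⊥ : Ideal B).primeCompl (Localization.AtPrime (⊥ : Ideal B)) L).restrictScalars R)
  haveI : Algebra.FormallyUnramified K L := Algebra.FormallyUnramified.of_restrictScalars R K L
  haveI : Algebra.IsSeparable K L := Algebra.FormallyUnramified.isSeparable K L
  exact pure_of_regular R K L B hB

section Height

variable {R : Type u} {A : Type v} [CommRing R] [CommRing A] [IsDomain A] [Algebra R A] [Algebra.IsIntegral R A]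

theorem height_le_comap (P : Ideal A) [P.IsPrime] : P.height ≤ (P.comap (algebraMap R A)).height := by
  rw [PrimeSpectrum.height_eq_orderHeight ⟨P, ‹_›⟩,
    PrimeSpectrum.height_eq_orderHeight ⟨P.comap (algebraMap R A), Ideal.comap_isPrime _ _⟩]
  exact Order.height_le_height_apply_of_strictMono (PrimeSpectrum.comap (algebraMap R A))
    (fun I J h => Ideal.IsIntegral.comap_lt_comap (I := I.asIdeal) (J := J.asIdeal) h) ⟨P, ‹_›⟩

end Height

variable {R : Type u} [CommRing R] [IsRegularLocalRing R] {A : Type v} [CommRing A] [IsDomain A]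
  [IsIntegrallyClosed A] [IsLocalRing A] [Algebra R A] [Module.Finite R A]
  {H : Type w} [Group H] [Finite H] [MulSemiringAction H A] [SMulCommClass H R A] [FaithfulSMul H A]

/-- a normal subgroup containing all inertia groups in codimension one is everything -/
theorem eq_top_of_inertia_le (hinj : Function.Injective (algebraMap R A))
    (hres : Function.Surjective (IsLocalRing.residue A ∘ algebraMap R A))
    (hfix : ∀ a : A, (∀ h : H, h • a = a) → a ∈ Set.range (algebraMap R A))
    (N : Subgroup H) [N.Normal] (hN : ∀ P : Ideal A, P.IsPrime → P.height = 1 → P.inertia H ≤ N) : N = ⊤ := by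
  classical
  haveI := Groth.L01.isDomain_of_regular R
  haveI : Algebra.IsIntegral R A := Algebra.IsIntegral.of_finite R A
  let B : Subalgebra R A := FixedPoints.subalgebra R A N
  have hB : ∀ a, a ∈ B ↔ ∀ n ∈ N, n • a = a := fun a =>
    ⟨fun h n hn => h ⟨n, hn⟩, fun h n => h n n.2⟩
  have hgB : ∀ (g : H), ∀ b ∈ B, g • b ∈ B := fun g b hb => (hB _).2 fun n hn => by
    have h1 := (hB b).1 hb (g⁻¹ * n * g) (by simpa using Subgroup.Normal.conj_mem ‹N.Normal› n hn g⁻¹)
    calc n • g • b = (g * (g⁻¹ * n * g)) • b := by rw [← mul_smul]; congr 1; group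
      _ = g • b := by rw [mul_smul, h1]
  -- the group of automorphisms of the fixed ring
  let ψ : H → (B →ₐ[R] B) := fun g =>
    ((MulSemiringAction.toAlgHom R A g).comp B.val).codRestrict B fun b => hgB g b b.2
  have hψ : ∀ (g g' : H) (b : B), ψ g (ψ g' b) = ψ (g * g') b := fun g g' b => Subtype.ext (mul_smul g g' (b : A)).symm
  have hψ1 : ∀ b : B, ψ 1 b = b := fun b => Subtype.ext (one_smul H (b : A))
  let φ : H →* (B ≃ₐ[R] B) :=
    { toFun := fun g => AlgEquiv.ofAlgHom (ψ g) (ψ g⁻¹)
        (AlgHom.ext fun b => by rw [AlgHom.comp_apply, hψ, mul_inv_cancel, hψ1]; rfl)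
        (AlgHom.ext fun b => by rw [AlgHom.comp_apply, hψ, inv_mul_cancel, hψ1]; rfl)
      map_one' := AlgEquiv.ext fun b => hψ1 b
      map_mul' := fun g g' => AlgEquiv.ext fun b => (hψ g g' b).symm }
  let G := φ.range
  haveI : Finite G := Finite.of_surjective _ φ.rangeRestrict_surjective
  haveI : SMulCommClass G R B := inferInstance
  have hsmul : ∀ (g : H) (b : B), ((φ.rangeRestrict g) • b : B).1 = g • (b : A) := fun g b => rfl
  have hGfix : ∀ b : B, (∀ σ : G, σ • b = b) → b ∈ Set.range (algebraMap R B) := fun b hb => by
    obtain ⟨r, hr⟩ := hfix (b : A) fun g => (hsmul g b).symm.trans (congrArg Subtype.val (hb _))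
    exact ⟨r, Subtype.ext hr⟩
  haveI : Algebra.IsIntegral B A := Algebra.IsIntegral.tower_top (R := R)
  have hunr : ∀ (Q : Ideal B) [Q.IsPrime], (Q.comap (algebraMap R B)).height ≤ 1 → Algebra.IsUnramifiedAt R Q := by
    intro Q _ hQ
    obtain ⟨P, hP, hPQ⟩ := Ideal.exists_ideal_over_prime_of_isIntegral_of_isDomain (S := A) Q (by
      rw [(RingHom.injective_iff_ker_eq_bot _).1 (Subtype.val_injective : Function.Injective (algebraMap B A))]
      exact bot_le)
    refine isUnramifiedAt_of_separated hGfix Q fun σ hσ => ?_
    obtain ⟨g, rfl⟩ := φ.rangeRestrict_surjective σ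
    have hg : g ∉ N := fun hg => hσ (Subtype.ext (AlgEquiv.ext fun b => Subtype.ext ((hB _).1 b.2 g hg)))
    have hle : P.height ≤ 1 := by
      refine (height_le_comap (R := R) P).trans ?_
      rw [IsScalarTower.algebraMap_eq R B A, ← Ideal.comap_comap, hPQ]
      exact hQ
    have hI : P.inertia H ≤ N := by
      rcases eq_or_ne P ⊥ with rfl | hne
      · intro h hh
        have : h = 1 := FaithfulSMul.eq_of_smul_eq_smul fun a : A => by
          rw [one_smul, ← sub_eq_zero]; exact hh a
        exact this ▸ one_mem N
      · refine hN P hP (le_antisymm hle ?_)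
        by_contra hlt
        exact hne (Ideal.height_eq_zero_iff_eq_bot.1 (Order.lt_one_iff.1 (not_le.1 hlt)))
    obtain ⟨b, hb, hnot⟩ := exists_smul_sub_notMem N B hB P hI hg (hgB g)
    refine ⟨⟨b, hb⟩, fun hmem => hnot ?_⟩
    rw [← hPQ] at hmem
    exact hmem
  -- move to the universe of the base
  haveI : IsIntegrallyClosed B := by
    rw [isIntegrallyClosed_iff (FractionRing B)]
    intro x hx
    obtain ⟨a, s, hs, rfl⟩ := IsFractionRing.div_surjective (A := B) x
    let g : FractionRing B →+* FractionRing A :=
      IsFractionRing.map (A := B) (K := FractionRing B) (L := FractionRing A) (j := (B.val : B →+* A)) Subtype.val_injective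
    have hg : ∀ c : B, g (algebraMap B (FractionRing B) c) = algebraMap A (FractionRing A) c := fun c =>
      IsLocalization.map_eq _ c
    have hs0 : (s : A) ≠ 0 := fun h => nonZeroDivisors.ne_zero hs (Subtype.ext h)
    obtain ⟨P, hm, hP⟩ := hx
    have hint : IsIntegral A (g (algebraMap B _ a / algebraMap B _ s)) := by
      refine ⟨P.map (B.val : B →+* A), hm.map _, ?_⟩
      have h2 := congrArg g hP
      rw [Polynomial.hom_eval₂, map_zero] at h2
      rw [Polynomial.eval₂_map, ← h2]
      congr 1
      exact (RingHom.ext hg).symm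
    obtain ⟨t, ht⟩ := (isIntegrallyClosed_iff (FractionRing A)).1 inferInstance hint
    rw [map_div₀, hg, hg, eq_div_iff (fun h => hs0 (IsFractionRing.injective A (FractionRing A) (h.trans (map_zero _).symm))),
      ← map_mul] at ht
    have hta := IsFractionRing.injective A (FractionRing A) ht
    have htB : t ∈ B := (hB t).2 fun n hn => by
      refine mul_right_cancel₀ hs0 ?_
      have h3 := congrArg (n • ·) hta
      simp only [smul_mul', (hB _).1 s.2 n hn, (hB _).1 a.2 n hn] at h3
      rw [h3, hta]
    refine ⟨⟨t, htB⟩, ?_⟩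
    rw [eq_div_iff (fun h => nonZeroDivisors.ne_zero hs (IsFractionRing.injective B (FractionRing B) (h.trans (map_zero _).symm))),
      ← map_mul]
    exact congrArg _ (Subtype.ext hta)
  haveI : IsNoetherianRing R := inferInstance
  haveI : Module.Finite R B := Module.Finite.of_injective B.val.toLinearMap Subtype.val_injective
  obtain ⟨n, π, hπ⟩ := Module.Finite.exists_fin' R B
  haveI : Small.{u} B := small_of_surjective hπ
  let e : Shrink.{u} B ≃ₐ[R] B := Shrink.algEquiv R B
  haveI : IsDomain (Shrink.{u} B) := e.toMulEquiv.isDomain B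
  haveI : IsIntegrallyClosed (Shrink.{u} B) := IsIntegrallyClosed.of_equiv e.toRingEquiv.symm
  haveI : Module.Finite R (Shrink.{u} B) := Module.Finite.equiv e.symm.toLinearEquiv
  have htransfer : ∀ (Q : Ideal (Shrink.{u} B)) [Q.IsPrime], (Q.comap (algebraMap R (Shrink.{u} B))).height ≤ 1 →
      Algebra.IsUnramifiedAt R Q := by
    intro Q _ hQ
    haveI : (Q.comap e.symm).IsPrime := Ideal.comap_isPrime _ _
    haveI : Algebra.FormallyUnramified R (Localization.AtPrime (Q.comap e.symm)) :=
      hunr _ (by
        have h0 : (Q.comap e.symm).comap (algebraMap R B) = Q.comap (algebraMap R (Shrink.{u} B)) := by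
          ext r
          show e.symm (algebraMap R B r) ∈ Q ↔ algebraMap R (Shrink.{u} B) r ∈ Q
          rw [AlgEquiv.commutes]
        rw [h0]; exact hQ)
    exact Algebra.FormallyUnramified.of_equiv
      (Localization.localAlgEquiv _ Q e.symm rfl)
  have hinj' : Function.Injective (algebraMap R (Shrink.{u} B)) := fun a b h => hinj (by
    have := congrArg (fun z => ((e z : B) : A)) h
    simpa using this)
  haveI : Algebra.Etale R (Shrink.{u} B) := etale_of_finite_of_unramified hinj'
    (htransfer ⊥ (by
      rw [← RingHom.ker_eq_comap_bot, (RingHom.injective_iff_ker_eq_bot _).1 hinj', Ideal.height_bot]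
      exact bot_le))
    (fun P _ hP => htransfer P hP.le)
  haveI : Algebra.Etale R B := Algebra.Etale.of_equiv e
  -- the fixed ring is the base
  haveI : IsLocalRing B := by
    refine IsLocalRing.of_unique_max_ideal ⟨(maximalIdeal A).comap (algebraMap B A),
      Ideal.isMaximal_comap_of_isIntegral_of_isMaximal _, fun M hM => ?_⟩
    obtain ⟨P, hP, hPM⟩ := Ideal.exists_ideal_over_prime_of_isIntegral_of_isDomain (S := A) M (by
      rw [(RingHom.injective_iff_ker_eq_bot _).1 (Subtype.val_injective : Function.Injective (algebraMap B A))]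
      exact bot_le)
    haveI : (P.comap (algebraMap B A)).IsMaximal := hPM.symm ▸ hM
    haveI : P.IsMaximal := Ideal.isMaximal_of_isIntegral_of_isMaximal_comap (R := B) P inferInstance
    rw [← hPM, eq_maximalIdeal (I := P) inferInstance]
  haveI : IsLocalHom (algebraMap R B) := by
    haveI : FaithfulSMul R B := (faithfulSMul_iff_algebraMap_injective R B).2 fun a b h => hinj (congrArg Subtype.val h)
    haveI : Algebra.IsIntegral R B := Algebra.IsIntegral.of_finite R B
    exact Algebra.IsIntegral.isLocalHom R B
  haveI : IsLocalHom (algebraMap B A) := by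
    haveI : FaithfulSMul B A := (faithfulSMul_iff_algebraMap_injective B A).2 Subtype.val_injective
    exact Algebra.IsIntegral.isLocalHom B A
  have hsurj : Function.Surjective (algebraMap R B) := by
    have htop : Submodule.span R ({1} : Set B) = ⊤ := by
      refine top_le_iff.1 (Submodule.le_of_le_smul_of_le_jacobson_bot (Module.finite_def.1 inferInstance)
        (le_of_eq (IsLocalRing.jacobson_eq_maximalIdeal (R := R) ⊥ bot_ne_top).symm) fun b _ => ?_)
      obtain ⟨r, hr⟩ := hres (residue A (b : A))
      have hd : b - algebraMap R B r ∈ maximalIdeal B := by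
        intro hu
        have h1 := hu.map (algebraMap B A)
        refine (mem_maximalIdeal _).1 ((residue_eq_zero_iff _).1 ?_) h1
        show residue A ((b : A) - algebraMap R A r) = 0
        rw [map_sub, ← hr]; exact sub_self _
      refine Submodule.mem_sup.2 ⟨algebraMap R B r, Submodule.mem_span_singleton.2 ⟨r, by rw [Algebra.smul_def, mul_one]⟩,
        b - algebraMap R B r, ?_, add_sub_cancel _ _⟩
      rw [← Algebra.FormallyUnramified.map_maximalIdeal (R := R)] at hd
      rw [Ideal.smul_top_eq_map]
      exact hd
    intro b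
    obtain ⟨r, hr⟩ := Submodule.mem_span_singleton.1 (show b ∈ Submodule.span R ({1} : Set B) by rw [htop]; trivial)
    exact ⟨r, by rw [← hr, Algebra.smul_def, mul_one]⟩
  have hrank : Module.finrank R B = 1 := by
    have hbij : Function.Bijective (Algebra.linearMap R B) := ⟨fun a b h => hinj (congrArg Subtype.val h), hsurj⟩
    rw [← (LinearEquiv.ofBijective _ hbij).finrank_eq, Module.finrank_self]
  have hcard := Groth.L13.Wild.Inv.finrank_fixed_mul_card hinj hfix N
  rw [show Module.finrank R (FixedPoints.subalgebra R A N) = 1 from hrank, one_mul] at hcard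
  exact (Subgroup.card_eq_iff_eq_top N).1 hcard

/-- the inertia groups of height one primes generate -/
theorem iSup_inertia_eq_top (hinj : Function.Injective (algebraMap R A))
    (hres : Function.Surjective (IsLocalRing.residue A ∘ algebraMap R A))
    (hfix : ∀ a : A, (∀ h : H, h • a = a) → a ∈ Set.range (algebraMap R A)) :
    (⨆ P : {P : Ideal A // P.IsPrime ∧ P.height = 1}, P.1.inertia H) = ⊤ := by
  let N : Subgroup H := ⨆ P : {P : Ideal A // P.IsPrime ∧ P.height = 1}, P.1.inertia H
  haveI : N.Normal := ⟨fun n hn g => by
    have hle : N ≤ N.comap (MulAut.conj g).toMonoidHom := iSup_le fun P h hh => by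
      haveI := P.2.1
      haveI hp : (g • P.1).IsPrime := P.2.1.smul g
      have hht : (g • P.1).height = 1 := by
        rw [show g • P.1 = P.1.map ((MulSemiringAction.toRingEquiv H A g : A ≃+* A) : A →+* A) from rfl]
        rw [Ideal.map_comap_of_equiv, RingEquiv.height_comap]
        exact P.2.2
      refine le_iSup (fun P : {P : Ideal A // P.IsPrime ∧ P.height = 1} => P.1.inertia H) ⟨g • P.1, hp, hht⟩ ?_
      intro a
      show (g * h * g⁻¹) • a - a ∈ g • P.1
      rw [Ideal.mem_pointwise_smul_iff_inv_smul_mem, smul_sub, ← mul_smul]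
      have := hh (g⁻¹ • a)
      simpa [mul_assoc, mul_smul] using this
    exact hle hn⟩
  exact eq_top_of_inertia_le hinj hres hfix N fun P hP h1 =>
    le_iSup (fun P : {P : Ideal A // P.IsPrime ∧ P.height = 1} => P.1.inertia H) ⟨P, hP, h1⟩

end Groth.L13.Purity
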