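import Groth.Agent.L13.Purity.InertiaGen
import Groth.Agent.L27.EtLocal.StalkProps
import Groth.Agent.L27.AlgebraMisc
import Groth.Agent.L19.FlatComp
import Mathlib.RingTheory.Etale.QuasiFinite
import Mathlib.RingTheory.Smooth.Fiber
import Mathlib.RingTheory.KrullDimension.NonZeroDivisors
import Mathlib.RingTheory.Flat.Localization

/-! Purity of the branch locus at a quasi-finite point. -/

set_option autoImplicit false
set_option linter.style.haveILetI false
set_option linter.unusedSectionVars false
set_option backward.isDefEq.respectTransparency.types false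

universe u

open IsLocalRing TensorProduct

namespace Groth.L13.Purity

theorem isEtaleAt_of_flat_of_isUnramifiedAt {A B : Type u} [CommRing A] [CommRing B] [Algebra A B]
    [Algebra.FinitePresentation A B] (P : Ideal B) [P.IsPrime] [Module.Flat A (Localization.AtPrime P)]
    [Algebra.IsUnramifiedAt A P] : Algebra.IsEtaleAt A P := by
  let p := P.under A
  let Rp := Localization.AtPrime p
  let Sq := Localization.AtPrime P
  let Sp := Localization (Algebra.algebraMapSubmonoid B p.primeCompl)
  letI := Localization.AtPrime.algebraOfLiesOver p P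
  let f : Sp →ₐ[B] Sq := IsLocalization.liftAlgHom (M := Algebra.algebraMapSubmonoid B p.primeCompl)
        (f := Algebra.ofId _ _) (by
      rintro ⟨_, x, hx, rfl⟩
      exact IsLocalization.map_units (M := P.primeCompl) Sq ⟨algebraMap _ _ x, hx⟩)
  algebraize [f.toRingHom]
  haveI : IsScalarTower A Sp Sq := .to₁₃₄ _ B _ _
  haveI : IsScalarTower Rp Sp Sq := .of_algebraMap_eq' <| by
    apply IsLocalization.ringHom_ext p.primeCompl
    simp only [RingHom.comp_assoc, ← IsScalarTower.algebraMap_eq]
  haveI : IsLocalization (Algebra.algebraMapSubmonoid Sp P.primeCompl) Sq :=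
    .isLocalization_of_submonoid_le _ _ (Algebra.algebraMapSubmonoid B p.primeCompl) _
    (by rintro _ ⟨x, hx, rfl⟩; exact hx)
  haveI : Algebra.FinitePresentation Rp Sp := by
    have : Algebra.IsPushout A Rp B Sp :=
      .symm <| Algebra.isPushout_of_isLocalization p.primeCompl _ _ _
    exact .equiv (Algebra.IsPushout.equiv A Rp B Sp)
  haveI : Module.Flat Rp Sq := (Module.flat_iff_of_isLocalization Rp p.primeCompl Sq).2 inferInstance
  haveI : IsLocalHom (algebraMap Rp Sq) := Localization.isLocalHom_localRingHom p P (algebraMap A B) rfl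
  haveI : Algebra.FormallyUnramified Rp Sq := .of_restrictScalars A Rp Sq
  haveI : Algebra.EssFiniteType Rp Sq := .of_comp A Rp Sq
  haveI : Algebra.FormallySmooth (ResidueField Rp) (ResidueField Rp ⊗[Rp] Sq) :=
    haveI := Algebra.FormallyEtale.of_formallyUnramified_of_field (ResidueField Rp) (ResidueField Rp ⊗[Rp] Sq)
    inferInstance
  haveI : Algebra.FormallySmooth Rp Sq :=
    Algebra.FormallySmooth.of_formallySmooth_residueField_tensor (P := Sp)
      (Algebra.algebraMapSubmonoid Sp P.primeCompl)
  haveI : Algebra.FormallyEtale Rp Sq := .of_formallyUnramified_and_formallySmooth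
  haveI : Algebra.FormallyEtale A Rp := Algebra.FormallyEtale.of_isLocalization p.primeCompl
  exact Algebra.FormallyEtale.comp A Rp Sq

/-- the local ring at an isolated prime of a finite piece is finite over the local ring below -/
theorem finite_atPrime_of_unique {R S : Type u} [CommRing R] [CommRing S] [Algebra R S] (p : Ideal R) [p.IsPrime]
    (P : Ideal S) [P.IsPrime] [P.LiesOver p] (e : S) (he : e ∉ P) [Module.Finite R (Localization.Away e)]
    (huniq : ∀ P'' : Ideal S, P''.IsPrime → P''.LiesOver p → e ∉ P'' → P'' = P) :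
    letI := Localization.AtPrime.algebraOfLiesOver p P
    Module.Finite (Localization.AtPrime p) (Localization.AtPrime P) := by
  letI := Localization.AtPrime.algebraOfLiesOver p P
  let Se := Localization.Away e
  let C := Localization.AtPrime P
  let Rp := Localization.AtPrime p
  have hue : IsUnit (algebraMap S C e) := IsLocalization.map_units C (⟨e, he⟩ : P.primeCompl)
  letI : Algebra Se C := (IsLocalization.Away.lift e hue : Se →+* C).toAlgebra
  haveI : IsScalarTower S Se C := IsScalarTower.of_algebraMap_eq fun r => (IsLocalization.Away.lift_eq e hue r).symm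
  haveI : IsScalarTower R Se C := IsScalarTower.of_algebraMap_eq fun r => by
    rw [IsScalarTower.algebraMap_apply R S Se, ← IsScalarTower.algebraMap_apply S Se C,
      ← IsScalarTower.algebraMap_apply R S C]
  have hp : ∀ a : R, algebraMap R S a ∈ P ↔ a ∈ p := fun a => by
    rw [P.over_def p]; rfl
  haveI hN : IsLocalization (P.primeCompl.map (algebraMap S Se)) C :=
    IsLocalization.isLocalization_of_submonoid_le Se C (Submonoid.powers e) P.primeCompl
      ((Submonoid.powers_le).2 he)
  let M := Algebra.algebraMapSubmonoid Se p.primeCompl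
  let T := Localization M
  have hunit : ∀ s ∉ P, IsUnit (algebraMap Se T (algebraMap S Se s)) := by
    intro s hs
    by_contra hu
    obtain ⟨m, hm, hsm⟩ := exists_max_ideal_of_mem_nonunits hu
    haveI := hm
    haveI : Module.Finite Rp T := Module.Finite.of_isLocalization R Se p.primeCompl
    haveI : Algebra.IsIntegral Rp T := Algebra.IsIntegral.of_finite Rp T
    have h1 : (m.comap (algebraMap Rp T)).IsMaximal := Ideal.isMaximal_comap_of_isIntegral_of_isMaximal m
    let P'' := m.comap ((algebraMap Se T).comp (algebraMap S Se))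
    haveI : P''.IsPrime := Ideal.comap_isPrime _ _
    haveI : P''.LiesOver p := ⟨by
      ext a
      show a ∈ p ↔ (algebraMap Se T).comp (algebraMap S Se) (algebraMap R S a) ∈ m
      rw [RingHom.comp_apply, ← IsScalarTower.algebraMap_apply R S Se, ← IsScalarTower.algebraMap_apply R Se T,
        IsScalarTower.algebraMap_apply R Rp T, ← Ideal.mem_comap, eq_maximalIdeal h1,
        IsLocalization.AtPrime.to_map_mem_maximal_iff Rp p a]⟩
    refine hs ((huniq P'' inferInstance inferInstance fun h => hm.ne_top ?_) ▸ (hsm : s ∈ P''))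
    exact Ideal.eq_top_of_isUnit_mem _ h ((IsLocalization.Away.algebraMap_isUnit e).map (algebraMap Se T))
  haveI : IsLocalization M C :=
    (IsLocalization.iff_of_le_of_exists_dvd M (P.primeCompl.map (algebraMap S Se))
      (by
        rintro _ ⟨a, ha, rfl⟩
        exact ⟨algebraMap R S a, fun h => ha ((hp a).1 h), (IsScalarTower.algebraMap_apply R S Se a).symm⟩)
      (by
        rintro _ ⟨s, hs, rfl⟩
        obtain ⟨t, ht⟩ := (hunit s hs).exists_right_inv
        obtain ⟨⟨x, d⟩, hx⟩ := IsLocalization.surj M t
        have h2 : algebraMap Se T (algebraMap S Se s * x) = algebraMap Se T d := by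
          rw [map_mul, ← hx, ← mul_assoc, ht, one_mul]
        obtain ⟨c, hc⟩ := (IsLocalization.eq_iff_exists M T).1 h2
        exact ⟨_, (c * d).2, ⟨c * x, by
          rw [Submonoid.coe_mul, ← hc]; ring⟩⟩)).2 hN
  exact Module.Finite.of_isLocalization R Se p.primeCompl

variable {A B : Type u} [CommRing A] [CommRing B] [Algebra A B] [IsNoetherianRing A] [Algebra.FiniteType A B]

/-- unramified at a prime implies unramified at its generisations -/
theorem isUnramifiedAt_of_le (P Q : Ideal B) [P.IsPrime] [Q.IsPrime] (h : P ≤ Q) [Algebra.IsUnramifiedAt A Q] :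
    Algebra.IsUnramifiedAt A P := by
  obtain ⟨f, hf, hfu⟩ := Algebra.exists_formallyUnramified_of_isUnramifiedAt (R := A) Q
  exact (Algebra.basicOpen_subset_unramifiedLocus_iff.2 hfu)
    (show (⟨P, inferInstance⟩ : PrimeSpectrum B) ∈ _ from fun hfP => hf (h hfP))

set_option maxHeartbeats 1000000 in
/-- purity of the branch locus -/
theorem isEtaleAt_of_quasiFiniteAt (P : Ideal B) [P.IsPrime] [Algebra.QuasiFiniteAt A P]
    [IsRegularLocalRing (Localization.AtPrime (P.under A))] [IsDomain (Localization.AtPrime P)]
    [IsIntegrallyClosed (Localization.AtPrime P)]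
    (hdim : ringKrullDim (Localization.AtPrime P) = ringKrullDim (Localization.AtPrime (P.under A)))
    (h1 : 1 ≤ ringKrullDim (Localization.AtPrime P))
    (hunr : ∀ (P1 : Ideal B) [P1.IsPrime], P1 ≤ P → P1.height = 1 → Algebra.IsUnramifiedAt A P1) :
    Algebra.IsEtaleAt A P := by
  obtain ⟨A', _, _, _, p', _, _, e, -, P', _, _, hcomap, heP', -, hfin, huniq⟩ :=
    Algebra.exists_etale_isIdempotentElem_forall_liesOver_eq (P.under A) P
  haveI := hfin
  let S := A' ⊗[A] B
  haveI : IsNoetherianRing B := Algebra.FiniteType.isNoetherianRing A B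
  haveI : IsNoetherianRing A' := Algebra.FiniteType.isNoetherianRing A A'
  haveI : IsNoetherianRing S := Algebra.FiniteType.isNoetherianRing A' S
  letI : Algebra B S := Algebra.TensorProduct.rightAlgebra
  haveI : IsScalarTower A B S := Algebra.TensorProduct.right_isScalarTower
  haveI : Algebra.Etale B S := Algebra.Etale.of_equiv (Algebra.TensorProduct.commRight A B A')
  haveI hP'P : P'.LiesOver P := ⟨hcomap.symm⟩
  let R' := Localization.AtPrime p'
  let Ap := Localization.AtPrime (P.under A)
  let Bp := Localization.AtPrime P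
  let C := Localization.AtPrime P'
  letI := Localization.AtPrime.algebraOfLiesOver p' P'
  letI := Localization.AtPrime.algebraOfLiesOver P P'
  letI := Localization.AtPrime.algebraOfLiesOver (P.under A) p'
  haveI : IsScalarTower A Bp C := IsScalarTower.of_algebraMap_eq fun a => by
    rw [IsScalarTower.algebraMap_apply A B Bp, ← IsScalarTower.algebraMap_apply B Bp C,
      ← IsScalarTower.algebraMap_apply A B C]
  haveI : IsScalarTower A R' C := IsScalarTower.of_algebraMap_eq fun a => by
    rw [IsScalarTower.algebraMap_apply A A' R', ← IsScalarTower.algebraMap_apply A' R' C,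
      ← IsScalarTower.algebraMap_apply A A' C]
  haveI : IsNoetherianRing Bp := IsLocalization.isNoetherianRing P.primeCompl Bp inferInstance
  haveI : IsNoetherianRing C := IsLocalization.isNoetherianRing P'.primeCompl C inferInstance
  -- the base
  haveI : IsNoetherianRing R' := IsLocalization.isNoetherianRing p'.primeCompl R' inferInstance
  haveI : Module.Flat Ap R' :=
    RingHom.Flat.localRingHom (RingHom.flat_algebraMap_iff.mpr (inferInstance : Module.Flat A A')) p' _ Ideal.LiesOver.over
  have hmA : (maximalIdeal Ap).map (algebraMap Ap R') = maximalIdeal R' := by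
    haveI : Algebra.FormallyUnramified A R' := Algebra.FormallyUnramified.comp A A' R'
    have h := ((Algebra.isUnramifiedAt_iff_map_eq A (P.under A) p').mp inferInstance).2
    rw [← Localization.AtPrime.map_eq_maximalIdeal, Ideal.map_map, ← IsScalarTower.algebraMap_eq]
    exact h
  obtain ⟨hR', hdimR'⟩ := Groth.L21.Smooth.regular_of_flat_of_map_maximalIdeal Ap R' hmA
  haveI := hR'
  haveI := Groth.L01.isDomain_of_regular R'
  -- the etale neighbourhood
  haveI : Algebra.FormallyUnramified B C := Algebra.FormallyUnramified.comp B S C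
  haveI : Algebra.FormallyUnramified Bp C := Algebra.FormallyUnramified.of_restrictScalars B Bp C
  haveI : Algebra.EssFiniteType B C := Algebra.EssFiniteType.comp B S C
  haveI : Algebra.EssFiniteType Bp C := Algebra.EssFiniteType.of_comp B Bp C
  haveI : Module.Flat Bp C :=
    RingHom.Flat.localRingHom (RingHom.flat_algebraMap_iff.mpr (inferInstance : Module.Flat B S)) P' _ Ideal.LiesOver.over
  haveI : IsLocalHom (algebraMap Bp C) := Localization.isLocalHom_localRingHom P P' _ Ideal.LiesOver.over
  haveI : Module.FaithfullyFlat Bp C := Module.FaithfullyFlat.of_flat_of_isLocalHom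
  have hpts := Groth.L27.EtLocal.hasReducedPointFibres_of_formallyUnramified Bp C
  have hmB : (maximalIdeal Bp).map (algebraMap Bp C) = maximalIdeal C := by
    have h := ((Algebra.isUnramifiedAt_iff_map_eq B P P').mp inferInstance).2
    rw [← Localization.AtPrime.map_eq_maximalIdeal, Ideal.map_map, ← IsScalarTower.algebraMap_eq]
    exact h
  have hdimC : ringKrullDim C = ringKrullDim R' := by
    rw [Groth.L05.Henselization.ringKrullDim_eq_of_map_maximalIdeal Bp C hmB, hdim, hdimR']
  obtain ⟨hdomC, hicC⟩ := (Groth.L27.EtLocal.normal_iff Bp C).2 ⟨inferInstance, inferInstance⟩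
  haveI := hdomC
  haveI := hicC
  haveI : Module.Finite R' C := finite_atPrime_of_unique p' P' e heP' huniq
  haveI : Algebra.IsIntegral R' C := Algebra.IsIntegral.of_finite R' C
  have hinj : Function.Injective (algebraMap R' C) := by
    rw [RingHom.injective_iff_ker_eq_bot]
    by_contra hne
    let I := RingHom.ker (algebraMap R' C)
    haveI : I.IsPrime := RingHom.ker_isPrime _
    obtain ⟨r, hrI, hr0⟩ := Submodule.exists_mem_ne_zero_of_ne_bot hne
    letI : Algebra (R' ⧸ I) C := (RingHom.kerLift (algebraMap R' C)).toAlgebra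
    haveI : IsScalarTower R' (R' ⧸ I) C :=
      IsScalarTower.of_algebraMap_eq (R := R') (S := R' ⧸ I) (A := C) fun x => rfl
    haveI : Algebra.IsIntegral (R' ⧸ I) C := Algebra.IsIntegral.tower_top (R := R')
    have h2 : ringKrullDim C ≤ ringKrullDim (R' ⧸ I) := by
      rw [← maximalIdeal_height_eq_ringKrullDim]
      refine (WithBot.coe_le_coe.2 (height_le_comap (R := R' ⧸ I) (maximalIdeal C))).trans ?_
      exact Ideal.height_le_ringKrullDim_of_ne_top (Ideal.comap_ne_top _ (maximalIdeal.isMaximal C).ne_top)
    have h3 : ringKrullDim (R' ⧸ I) ≤ ringKrullDim (R' ⧸ Ideal.span {r}) :=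
      ringKrullDim_le_of_surjective (Ideal.Quotient.factor ((Ideal.span_singleton_le_iff_mem I).2 hrI))
        (Ideal.Quotient.factor_surjective _)
    have h4 := ringKrullDim_quotient_succ_le_of_nonZeroDivisor (R := R') (r := r) (mem_nonZeroDivisors_of_ne_zero hr0)
    obtain ⟨d, hd⟩ := Groth.L01.exists_dim_eq_nat (R := R')
    rw [hdimC, hd] at h2
    rw [hd] at h4
    have h5 := (add_le_add_left (h2.trans h3) 1).trans h4
    rw [← Nat.cast_one, ← Nat.cast_add] at h5
    have : d + 1 ≤ d := by exact_mod_cast h5
    omega
  -- unramified in codimension one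
  have hQ : ∀ (Q : Ideal C) [Q.IsPrime], Q.height ≤ 1 → Algebra.IsUnramifiedAt R' Q := by
    intro Q _ hQ
    let Qb := Q.comap (algebraMap Bp C)
    haveI : Qb.IsPrime := Ideal.comap_isPrime _ _
    have hb : Qb.height ≤ 1 := by
      rwa [← Groth.L05.Henselization.height_eq_height_comap hpts Qb Q rfl]
    obtain ⟨q, hq, hle, hq1⟩ : ∃ q : Ideal Bp, q.IsPrime ∧ Qb ≤ q ∧ q.height = 1 := by
      by_cases h0 : Qb = ⊥
      · obtain ⟨q, hq, -, hq1⟩ := Groth.L27.AlgebraMisc.exists_prime_height_one Bp h1 0 (zero_mem _)
        exact ⟨q, hq, h0 ▸ bot_le, hq1⟩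
      · refine ⟨Qb, inferInstance, le_rfl, le_antisymm hb ?_⟩
        by_contra hlt
        exact h0 (Ideal.height_eq_zero_iff_eq_bot.1 (Order.lt_one_iff.1 (not_le.1 hlt)))
    haveI := hq
    haveI : (q.comap (algebraMap B Bp)).IsPrime := Ideal.comap_isPrime _ _
    haveI : Algebra.IsUnramifiedAt A (q.comap (algebraMap B Bp)) := hunr _
      (by
        intro x hx
        have := le_maximalIdeal hq.ne_top hx
        rwa [IsLocalization.AtPrime.to_map_mem_maximal_iff Bp P x] at this)
      (by rw [← hq1, ← IsLocalization.height_under P.primeCompl q])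
    let P1 := Q.comap (algebraMap B C)
    haveI : P1.IsPrime := Ideal.comap_isPrime _ _
    haveI : Algebra.IsUnramifiedAt A P1 := isUnramifiedAt_of_le P1 (q.comap (algebraMap B Bp)) (by
      intro x hx
      refine hle ?_
      show algebraMap Bp C (algebraMap B Bp x) ∈ Q
      rw [← IsScalarTower.algebraMap_apply]
      exact hx)
    let B1 := Localization.AtPrime P1
    let CQ := Localization.AtPrime Q
    have hu : ∀ y : P1.primeCompl, IsUnit (algebraMap B CQ y) := fun y => by
      rw [IsScalarTower.algebraMap_apply B C CQ]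
      exact IsLocalization.map_units CQ (⟨algebraMap B C y, y.2⟩ : Q.primeCompl)
    letI : Algebra B1 CQ := (IsLocalization.lift hu : B1 →+* CQ).toAlgebra
    haveI : IsScalarTower B B1 CQ := IsScalarTower.of_algebraMap_eq fun y => (IsLocalization.lift_eq hu y).symm
    haveI : IsScalarTower A B1 CQ := IsScalarTower.of_algebraMap_eq fun a => by
      rw [IsScalarTower.algebraMap_apply A B B1, ← IsScalarTower.algebraMap_apply B B1 CQ,
        ← IsScalarTower.algebraMap_apply A B CQ]
    haveI : Algebra.FormallyUnramified B CQ := Algebra.FormallyUnramified.comp B C CQ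
    haveI : Algebra.FormallyUnramified B1 CQ := Algebra.FormallyUnramified.of_restrictScalars B B1 CQ
    haveI : Algebra.FormallyUnramified A CQ := Algebra.FormallyUnramified.comp A B1 CQ
    exact Algebra.FormallyUnramified.of_restrictScalars A R' CQ
  haveI : Algebra.Etale R' C := etale_of_finite_of_unramified hinj
    (hQ ⊥ (by rw [Ideal.height_bot]; exact bot_le)) fun Q _ hQ1 => hQ Q ((height_le_comap Q).trans hQ1.le)
  -- descend
  haveI : Module.Flat A' R' := IsLocalization.flat R' p'.primeCompl
  haveI : Module.Flat A R' := Module.Flat.trans A A' R'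
  haveI : Module.Flat A C := Module.Flat.trans A R' C
  haveI : Algebra.FormallyUnramified A R' := Algebra.FormallyUnramified.comp A A' R'
  haveI : Algebra.FormallyUnramified A C := Algebra.FormallyUnramified.comp A R' C
  haveI : Algebra.EssFiniteType A C := Algebra.EssFiniteType.comp A B C
  haveI : Module.Flat A Bp := Groth.L19.flat_of_flat_of_faithfullyFlat A Bp C
  haveI : Algebra.IsUnramifiedAt A P := by
    haveI : Algebra.FormallyEtale B C := Algebra.FormallyEtale.comp B S C
    haveI : Algebra.FormallyEtale Bp C := Algebra.FormallyEtale.of_restrictScalars (R := B)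
    haveI : Subsingleton (C ⊗[Bp] Ω[Bp⁄A]) :=
      (KaehlerDifferential.tensorKaehlerEquivOfFormallyEtale A Bp C).subsingleton
    exact ⟨Module.FaithfullyFlat.lTensor_reflects_triviality Bp C Ω[Bp⁄A]⟩
  haveI : Algebra.FinitePresentation A B := Algebra.FinitePresentation.of_finiteType.1 inferInstance
  exact isEtaleAt_of_flat_of_isUnramifiedAt P

end Groth.L13.Purity
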