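import Groth.Agent.L13.Purity.BranchScheme
import Groth.Agent.L13.Purity.Disc
import Groth.Agent.L29.Trace

/-! Etaleness of flat quasi-finite maps unramified in codimension one. -/

set_option autoImplicit false
set_option linter.style.haveILetI false
set_option linter.unusedSectionVars false
set_option backward.isDefEq.respectTransparency.types false

universe u

open IsLocalRing TensorProduct

namespace Groth.L13.Purity

theorem height_eq_height_comap_of_finite_flat {R C : Type u} [CommRing R] [CommRing C] [Algebra R C]
    [IsNoetherianRing R] [IsNoetherianRing C] [Algebra.IsIntegral R C] [Module.Flat R C] (Q : Ideal C) [Q.IsPrime] :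
    Q.height = (Q.comap (algebraMap R C)).height := by
  refine le_antisymm ?_ ?_
  · rw [PrimeSpectrum.height_eq_orderHeight ⟨Q, ‹_›⟩,
      PrimeSpectrum.height_eq_orderHeight ⟨Q.comap (algebraMap R C), Ideal.comap_isPrime _ _⟩]
    exact Order.height_le_height_apply_of_strictMono (PrimeSpectrum.comap (algebraMap R C))
      (fun I J h => Ideal.IsIntegral.comap_lt_comap (I := I.asIdeal) (J := J.asIdeal) h) ⟨Q, ‹_›⟩
  · haveI : (Q.comap (algebraMap R C)).IsPrime := Ideal.comap_isPrime _ _
    haveI : Q.LiesOver (Q.comap (algebraMap R C)) := ⟨rfl⟩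
    rw [Ideal.height_eq_height_add_of_liesOver_of_hasGoingDown (Q.comap (algebraMap R C)) Q]
    exact le_self_add

variable {A B : Type u} [CommRing A] [CommRing B] [Algebra A B] [IsNoetherianRing A] [Algebra.FiniteType A B]

set_option maxHeartbeats 1000000 in
set_option backward.isDefEq.respectTransparency false in
/-- flat quasi-finite and unramified in codimension one implies etale -/
theorem isEtaleAt_of_flat_quasiFiniteAt [Module.Flat A B] (P : Ideal B) [P.IsPrime] [Algebra.QuasiFiniteAt A P]
    (h1 : 1 ≤ ringKrullDim (Localization.AtPrime P))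
    (hunr : ∀ (P1 : Ideal B) [P1.IsPrime], P1 ≤ P → P1.height = 1 → Algebra.IsUnramifiedAt A P1) :
    Algebra.IsEtaleAt A P := by
  classical
  obtain ⟨A', _, _, _, p', _, _, e, -, P', _, _, hcomap, heP', -, hfin, huniq⟩ :=
    Algebra.exists_etale_isIdempotentElem_forall_liesOver_eq (P.under A) P
  haveI := hfin
  let S := A' ⊗[A] B
  haveI : IsNoetherianRing B := Algebra.FiniteType.isNoetherianRing A B
  haveI : IsNoetherianRing A' := Algebra.FiniteType.isNoetherianRing A A'
  haveI : IsNoetherianRing S := Algebra.FiniteType.isNoetherianRing A' S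
  letI : Algebra B S := Algebra.TensorProduct.rightAlgebra
  haveI : IsScalarTower A B S := Algebra.TensorProduct.right_isScalarTower
  haveI : Algebra.Etale B S := Algebra.Etale.of_equiv (Algebra.TensorProduct.commRight A B A')
  haveI hP'P : P'.LiesOver P := ⟨hcomap.symm⟩
  let R' := Localization.AtPrime p'
  let Ap := Localization.AtPrime (P.under A)
  let Bp := Localization.AtPrime P
  let C := Localization.AtPrime P'
  letI := Localization.AtPrime.algebraOfLiesOver p' P'
  letI := Localization.AtPrime.algebraOfLiesOver P P'
  letI := Localization.AtPrime.algebraOfLiesOver (P.under A) p'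
  haveI : IsScalarTower A Bp C := IsScalarTower.of_algebraMap_eq fun a => by
    rw [IsScalarTower.algebraMap_apply A B Bp, ← IsScalarTower.algebraMap_apply B Bp C,
      ← IsScalarTower.algebraMap_apply A B C]
  haveI : IsScalarTower A R' C := IsScalarTower.of_algebraMap_eq fun a => by
    rw [IsScalarTower.algebraMap_apply A A' R', ← IsScalarTower.algebraMap_apply A' R' C,
      ← IsScalarTower.algebraMap_apply A A' C]
  haveI : IsNoetherianRing Bp := IsLocalization.isNoetherianRing P.primeCompl Bp inferInstance
  haveI : IsNoetherianRing C := IsLocalization.isNoetherianRing P'.primeCompl C inferInstance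
  -- the base
  haveI : IsNoetherianRing R' := IsLocalization.isNoetherianRing p'.primeCompl R' inferInstance
  haveI : Module.Flat Ap R' :=
    RingHom.Flat.localRingHom (RingHom.flat_algebraMap_iff.mpr (inferInstance : Module.Flat A A')) p' _ Ideal.LiesOver.over
  have hmA : (maximalIdeal Ap).map (algebraMap Ap R') = maximalIdeal R' := by
    haveI : Algebra.FormallyUnramified A R' := Algebra.FormallyUnramified.comp A A' R'
    have h := ((Algebra.isUnramifiedAt_iff_map_eq A (P.under A) p').mp inferInstance).2
    rw [← Localization.AtPrime.map_eq_maximalIdeal, Ideal.map_map, ← IsScalarTower.algebraMap_eq]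
    exact h
  -- the etale neighbourhood
  haveI : Algebra.FormallyUnramified B C := Algebra.FormallyUnramified.comp B S C
  haveI : Algebra.FormallyUnramified Bp C := Algebra.FormallyUnramified.of_restrictScalars B Bp C
  haveI : Algebra.EssFiniteType B C := Algebra.EssFiniteType.comp B S C
  haveI : Algebra.EssFiniteType Bp C := Algebra.EssFiniteType.of_comp B Bp C
  haveI : Module.Flat Bp C :=
    RingHom.Flat.localRingHom (RingHom.flat_algebraMap_iff.mpr (inferInstance : Module.Flat B S)) P' _ Ideal.LiesOver.over
  haveI : IsLocalHom (algebraMap Bp C) := Localization.isLocalHom_localRingHom P P' _ Ideal.LiesOver.over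
  haveI : Module.FaithfullyFlat Bp C := Module.FaithfullyFlat.of_flat_of_isLocalHom
  have hpts := Groth.L27.EtLocal.hasReducedPointFibres_of_formallyUnramified Bp C
  have hmB : (maximalIdeal Bp).map (algebraMap Bp C) = maximalIdeal C := by
    have h := ((Algebra.isUnramifiedAt_iff_map_eq B P P').mp inferInstance).2
    rw [← Localization.AtPrime.map_eq_maximalIdeal, Ideal.map_map, ← IsScalarTower.algebraMap_eq]
    exact h
  haveI : Module.Finite R' C := finite_atPrime_of_unique p' P' e heP' huniq
  haveI : Algebra.IsIntegral R' C := Algebra.IsIntegral.of_finite R' C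
  haveI : Module.Flat A' S := inferInstance
  haveI : Module.Flat S C := IsLocalization.flat C P'.primeCompl
  haveI : Module.Flat A' C := Module.Flat.trans A' S C
  haveI : Module.Flat R' C := (Module.flat_iff_of_isLocalization R' p'.primeCompl C).2 inferInstance
  haveI : Module.Free R' C := Module.free_of_flat_of_isLocalRing
  haveI : IsLocalHom (algebraMap R' C) := Localization.isLocalHom_localRingHom p' P' _ Ideal.LiesOver.over
  have h1' : 1 ≤ ringKrullDim R' := by
    have h0 := height_eq_height_comap_of_finite_flat (R := R') (maximalIdeal C)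
    rw [show (maximalIdeal C).comap (algebraMap R' C) = maximalIdeal R' from
      ((IsLocalRing.local_hom_TFAE (algebraMap R' C)).out 0 4 rfl rfl).1 inferInstance] at h0
    rw [← maximalIdeal_height_eq_ringKrullDim, ← h0, maximalIdeal_height_eq_ringKrullDim,
      Groth.L05.Henselization.ringKrullDim_eq_of_map_maximalIdeal Bp C hmB]
    exact h1
  let b := Module.Free.chooseBasis R' C
  have hD : IsUnit (Algebra.traceMatrix R' b).det := by
    by_contra hu
    obtain ⟨q, hq, hDq, hq1⟩ :=
      Groth.L27.AlgebraMisc.exists_prime_height_one R' h1' _ ((mem_maximalIdeal _).2 hu)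
    haveI := hq
    let Rq := Localization.AtPrime q
    let T := Rq ⊗[R'] C
    letI : CommRing T := Algebra.TensorProduct.instCommRing
    letI : Algebra C T := Algebra.TensorProduct.rightAlgebra
    haveI : IsScalarTower R' C T := Algebra.TensorProduct.right_isScalarTower
    let M := Algebra.algebraMapSubmonoid C q.primeCompl
    haveI : IsLocalization M T := inferInstance
    haveI : Algebra.IsIntegral Rq T := Algebra.IsIntegral.of_finite Rq T
    haveI : Algebra.EssFiniteType A C := Algebra.EssFiniteType.comp A B C
    haveI : Algebra.EssFiniteType R' Rq := .of_isLocalization Rq q.primeCompl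
    haveI : Algebra.EssFiniteType R' T := Algebra.EssFiniteType.comp R' Rq T
    have hmax : ∀ (m : Ideal T) [m.IsMaximal], Algebra.IsUnramifiedAt R' (A := T) m := by
      intro m hm
      let Q := m.comap (algebraMap C T)
      haveI : Q.IsPrime := Ideal.comap_isPrime _ _
      have hQq : Q.comap (algebraMap R' C) = q := by
        have h2 : (m.comap (algebraMap Rq T)).IsMaximal := Ideal.isMaximal_comap_of_isIntegral_of_isMaximal (R := Rq) (S := T) m
        rw [Ideal.comap_comap, ← IsScalarTower.algebraMap_eq, IsScalarTower.algebraMap_eq R' Rq T, ← Ideal.comap_comap,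
          eq_maximalIdeal h2]
        exact IsLocalization.AtPrime.comap_maximalIdeal Rq q
      have hQ1 : Q.height = 1 := by rw [height_eq_height_comap_of_finite_flat (R := R') Q, hQq, hq1]
      let P1 := Q.comap (algebraMap B C)
      haveI : P1.IsPrime := Ideal.comap_isPrime _ _
      haveI : Algebra.IsUnramifiedAt A P1 := hunr P1
        (by
          intro y hy
          have h3 := le_maximalIdeal (Ideal.comap_ne_top (algebraMap Bp C) Ideal.IsPrime.ne_top')
            (show algebraMap B Bp y ∈ Q.comap (algebraMap Bp C) by
              rw [Ideal.mem_comap, ← IsScalarTower.algebraMap_apply]; exact hy)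
          rwa [IsLocalization.AtPrime.to_map_mem_maximal_iff Bp P y] at h3)
        (by
          haveI : (Q.comap (algebraMap Bp C)).IsPrime := Ideal.comap_isPrime _ _
          rw [← hQ1, Groth.L05.Henselization.height_eq_height_comap hpts (Q.comap (algebraMap Bp C)) Q rfl,
            ← IsLocalization.height_under P.primeCompl (Q.comap (algebraMap Bp C))]
          simp only [P1, Ideal.under, Ideal.comap_comap, ← IsScalarTower.algebraMap_eq])
      let B1 := Localization.AtPrime P1
      let CQ := Localization.AtPrime Q
      have hu : ∀ y : P1.primeCompl, IsUnit (algebraMap B CQ y) := fun y => by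
        rw [IsScalarTower.algebraMap_apply B C CQ]
        exact IsLocalization.map_units CQ (⟨algebraMap B C y, y.2⟩ : Q.primeCompl)
      letI : Algebra B1 CQ := (IsLocalization.lift hu : B1 →+* CQ).toAlgebra
      haveI : IsScalarTower B B1 CQ := IsScalarTower.of_algebraMap_eq fun y => (IsLocalization.lift_eq hu y).symm
      haveI : IsScalarTower A B1 CQ := IsScalarTower.of_algebraMap_eq fun a => by
        rw [IsScalarTower.algebraMap_apply A B B1, ← IsScalarTower.algebraMap_apply B B1 CQ,
          ← IsScalarTower.algebraMap_apply A B CQ]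
      haveI : Algebra.FormallyUnramified B CQ := Algebra.FormallyUnramified.comp B C CQ
      haveI : Algebra.FormallyUnramified B1 CQ := Algebra.FormallyUnramified.of_restrictScalars B B1 CQ
      haveI : Algebra.FormallyUnramified A CQ := Algebra.FormallyUnramified.comp A B1 CQ
      haveI : Algebra.FormallyUnramified R' CQ := Algebra.FormallyUnramified.of_restrictScalars A R' CQ
      haveI : IsLocalization.AtPrime (Localization.AtPrime m) Q :=
        IsLocalization.isLocalization_isLocalization_atPrime_isLocalization M (Localization.AtPrime m) m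
      exact Algebra.FormallyUnramified.of_equiv (R := R') (A := CQ) (B := Localization.AtPrime m)
        ((IsLocalization.algEquiv Q.primeCompl CQ (Localization.AtPrime m)).restrictScalars R')
    haveI : Algebra.FormallyUnramified R' T := by
      rw [← Algebra.unramifiedLocus_eq_univ_iff, Set.eq_univ_iff_forall]
      intro 𝔔
      obtain ⟨m, hm, hle⟩ := Ideal.exists_le_maximal 𝔔.asIdeal 𝔔.isPrime.ne_top
      haveI := hmax m
      obtain ⟨g, hg, hgu⟩ := Algebra.exists_formallyUnramified_of_isUnramifiedAt (R := R') m
      exact (Algebra.basicOpen_subset_unramifiedLocus_iff.2 hgu) (show 𝔔 ∈ _ from fun h => hg (hle h))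
    haveI : Algebra.FormallyUnramified Rq T := Algebra.FormallyUnramified.of_restrictScalars R' Rq T
    haveI : Algebra.FinitePresentation Rq T := (Algebra.FinitePresentation.of_finiteType (R := Rq) (A := T)).1 inferInstance
    haveI : Algebra.Etale Rq T := Algebra.Etale.of_formallyUnramified_of_flat
    have h4 := Groth.L29.Trace.isUnit_det_traceMatrix (R := Rq) (L := T) (Algebra.TensorProduct.basis Rq b)
    have h2 : Algebra.traceMatrix Rq (Algebra.TensorProduct.basis Rq b) =
        (algebraMap R' Rq).mapMatrix (Algebra.traceMatrix R' b) := by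
      ext i j
      simp [Algebra.traceMatrix_apply, Algebra.traceForm_apply, Groth.L29.Trace.trace_tmul_one]
    rw [h2, ← RingHom.map_det] at h4
    exact ((IsLocalization.AtPrime.isUnit_to_map_iff Rq q _).1 h4) hDq
  haveI := formallyUnramified_of_isUnit_det b hD
  haveI : Algebra.FormallyUnramified A R' := Algebra.FormallyUnramified.comp A A' R'
  haveI : Algebra.FormallyUnramified A C := Algebra.FormallyUnramified.comp A R' C
  haveI : Module.Flat B Bp := IsLocalization.flat Bp P.primeCompl
  haveI : Module.Flat A Bp := Module.Flat.trans A B Bp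
  haveI : Algebra.IsUnramifiedAt A P := by
    haveI : Algebra.FormallyEtale B C := Algebra.FormallyEtale.comp B S C
    haveI : Algebra.FormallyEtale Bp C := Algebra.FormallyEtale.of_restrictScalars (R := B)
    haveI : Subsingleton (C ⊗[Bp] Ω[Bp⁄A]) :=
      (KaehlerDifferential.tensorKaehlerEquivOfFormallyEtale A Bp C).subsingleton
    exact ⟨Module.FaithfullyFlat.lTensor_reflects_triviality Bp C Ω[Bp⁄A]⟩
  haveI : Algebra.FinitePresentation A B := Algebra.FinitePresentation.of_finiteType.1 inferInstance
  exact isEtaleAt_of_flat_of_isUnramifiedAt P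

open CategoryTheory AlgebraicGeometry in
theorem etale_at_of_flat {X Y : Scheme.{u}} (f : X ⟶ Y) [LocallyOfFiniteType f] [Flat f] [IsLocallyNoetherian Y]
    (x : X) (hq : f.QuasiFiniteAt x) (hdim1 : (1 : WithBot ℕ∞) ≤ ringKrullDim (X.presheaf.stalk x))
    (hunr : ∀ x' : X, x' ⤳ x → ringKrullDim (X.presheaf.stalk x') = 1 →
      (f.stalkMap x').hom.FormallyUnramified) :
    ∃ W : X.Opens, x ∈ W ∧ Etale (W.ι ≫ f) := by
  obtain ⟨_, ⟨(U : Y.Opens), hU, rfl⟩, hxU, -⟩ :=
    Y.isBasis_affineOpens.exists_subset_of_mem_open (Set.mem_univ (f x)) isOpen_univ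
  obtain ⟨_, ⟨(V : X.Opens), hV, rfl⟩, hxV, e⟩ :=
    X.isBasis_affineOpens.exists_subset_of_mem_open (show x ∈ (f ⁻¹ᵁ U : Set X) from hxU) (f ⁻¹ᵁ U).2
  letI := (f.appLE U V e).hom.toAlgebra
  haveI : IsNoetherianRing Γ(Y, U) := IsLocallyNoetherian.component_noetherian ⟨U, hU⟩
  haveI : Algebra.FiniteType Γ(Y, U) Γ(X, V) := f.finiteType_appLE hU hV e
  haveI : Module.Flat Γ(Y, U) Γ(X, V) := f.flat_appLE hU hV e
  obtain ⟨eX⟩ := stalk_equiv hV hxV
  haveI : Algebra.QuasiFiniteAt Γ(Y, U) (hV.primeIdealOf ⟨x, hxV⟩).asIdeal := hq.quasiFiniteAt hV hU e hxV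
  refine exists_etale_nhd f hU hV e hxV (isEtaleAt_of_flat_quasiFiniteAt _ ?_ fun P1 _ hle h1 => ?_)
  · rw [← ringKrullDim_eq_of_ringEquiv eX]; exact hdim1
  · obtain ⟨x', hx', hspec, rfl⟩ := exists_point_of_le hV hxV P1 hle
    refine isUnramifiedAt_of_stalk f hU hV e hx' (hunr x' hspec ?_)
    obtain ⟨eX'⟩ := stalk_equiv hV hx'
    rw [ringKrullDim_eq_of_ringEquiv eX',
      IsLocalization.AtPrime.ringKrullDim_eq_height (hV.primeIdealOf ⟨x', hx'⟩).asIdeal, h1]
    rfl

end Groth.L13.Purity
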