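import Groth.Agent.L13.Purity.Branch
import Mathlib.AlgebraicGeometry.Morphisms.Etale
import Mathlib.AlgebraicGeometry.Morphisms.QuasiFinite
import Mathlib.AlgebraicGeometry.Noetherian

/-! Dictionary for the scheme form of purity. -/

set_option autoImplicit false
set_option linter.style.haveILetI false
set_option backward.isDefEq.respectTransparency.types false

universe u

open CategoryTheory AlgebraicGeometry TopologicalSpace IsLocalRing

namespace Groth.L13.Purity

variable {X Y : Scheme.{u}} (f : X ⟶ Y) {U : Y.Opens} (hU : IsAffineOpen U) {V : X.Opens} (hV : IsAffineOpen V)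
  (e : V ≤ f ⁻¹ᵁ U)

include hU in
theorem exists_etale_nhd {x : X} (hx : x ∈ V)
    (h : letI := (f.appLE U V e).hom.toAlgebra
      Algebra.IsEtaleAt Γ(Y, U) (hV.primeIdealOf ⟨x, hx⟩).asIdeal)
    [IsNoetherianRing Γ(Y, U)] [LocallyOfFiniteType f] :
    ∃ W : X.Opens, x ∈ W ∧ Etale (W.ι ≫ f) := by
  letI := (f.appLE U V e).hom.toAlgebra
  haveI : Algebra.FiniteType Γ(Y, U) Γ(X, V) := f.finiteType_appLE hU hV e
  haveI : Algebra.FinitePresentation Γ(Y, U) Γ(X, V) := Algebra.FinitePresentation.of_finiteType.1 inferInstance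
  haveI := h
  obtain ⟨g, hg, hgE⟩ := Algebra.exists_etale_of_isEtaleAt (R := Γ(Y, U)) (hV.primeIdealOf ⟨x, hx⟩).asIdeal
  haveI := hgE
  have hxg : x ∈ X.basicOpen g := by
    letI := X.presheaf.algebra_section_stalk ⟨x, hx⟩
    haveI := hV.isLocalization_stalk ⟨x, hx⟩
    exact (X.mem_basicOpen g x hx).2 ((IsLocalization.AtPrime.isUnit_to_map_iff (X.presheaf.stalk x) _ g).2 hg)
  refine ⟨X.basicOpen g, hxg, ?_⟩
  let W := X.basicOpen g
  have hW : IsAffineOpen W := hV.basicOpen g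
  have heW : W ≤ f ⁻¹ᵁ U := (X.basicOpen_le g).trans e
  haveI : IsLocalization.Away g Γ(X, W) := hV.isLocalization_basicOpen g
  have hE : (f.appLE U W heW).hom.Etale := by
    let ψ := IsLocalization.algEquiv (Submonoid.powers g) (Localization.Away g) Γ(X, W)
    have h1 : (f.appLE U W heW).hom = ψ.toRingEquiv.toRingHom.comp (algebraMap Γ(Y, U) (Localization.Away g)) := by
      rw [← f.appLE_map e (homOfLE (X.basicOpen_le g)).op, CommRingCat.hom_comp]
      refine RingHom.ext fun r => ?_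
      exact (ψ.commutes (algebraMap Γ(Y, U) Γ(X, V) r)).symm
    rw [h1]
    exact RingHom.Etale.stableUnderComposition _ _ (RingHom.etale_algebraMap.2 inferInstance)
      (RingHom.Etale.of_bijective ψ.bijective)
  have h2 : W.ι ≫ f = hW.isoSpec.hom ≫ (Spec.map (f.appLE U W heW) ≫ hU.fromSpec) := by
    rw [IsAffineOpen.SpecMap_appLE_fromSpec f hU hW heW, IsAffineOpen.fromSpec,
      ← Category.assoc hW.isoSpec.hom, Iso.hom_inv_id_assoc]
  rw [h2]
  haveI : Etale (Spec.map (f.appLE U W heW)) := (HasRingHomProperty.Spec_iff (P := @Etale)).2 hE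
  infer_instance

include hU in
theorem isUnramifiedAt_of_stalk {x : X} (hx : x ∈ V) (h : (f.stalkMap x).hom.FormallyUnramified) :
    letI := (f.appLE U V e).hom.toAlgebra
    Algebra.IsUnramifiedAt Γ(Y, U) (hV.primeIdealOf ⟨x, hx⟩).asIdeal := by
  letI := (f.appLE U V e).hom.toAlgebra
  letI := X.presheaf.algebra_section_stalk ⟨x, hx⟩
  letI := Y.presheaf.algebra_section_stalk ⟨f x, e hx⟩
  haveI := hV.isLocalization_stalk ⟨x, hx⟩
  haveI := hU.isLocalization_stalk ⟨f x, e hx⟩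
  letI : Algebra (Y.presheaf.stalk (f x)) (X.presheaf.stalk x) := (f.stalkMap x).hom.toAlgebra
  letI : Algebra Γ(Y, U) (X.presheaf.stalk x) :=
    ((algebraMap Γ(X, V) (X.presheaf.stalk x)).comp (algebraMap Γ(Y, U) Γ(X, V))).toAlgebra
  haveI : IsScalarTower Γ(Y, U) Γ(X, V) (X.presheaf.stalk x) := IsScalarTower.of_algebraMap_eq fun r => rfl
  haveI : IsScalarTower Γ(Y, U) (Y.presheaf.stalk (f x)) (X.presheaf.stalk x) := IsScalarTower.of_algebraMap_eq fun r => by
    show X.presheaf.germ V x hx (f.appLE U V e r) = f.stalkMap x (Y.presheaf.germ U (f x) (e hx) r)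
    rw [f.germ_stalkMap_apply]
    simp [Scheme.Hom.appLE, TopCat.Presheaf.germ_res_apply]
  haveI : Algebra.FormallyUnramified (Y.presheaf.stalk (f x)) (X.presheaf.stalk x) :=
    RingHom.formallyUnramified_algebraMap.1 h
  haveI : Algebra.FormallyUnramified Γ(Y, U) (Y.presheaf.stalk (f x)) :=
    Algebra.FormallyUnramified.of_isLocalization (hU.primeIdealOf ⟨f x, e hx⟩).asIdeal.primeCompl
  haveI : Algebra.FormallyUnramified Γ(Y, U) (X.presheaf.stalk x) :=
    Algebra.FormallyUnramified.comp _ (Y.presheaf.stalk (f x)) _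
  exact Algebra.FormallyUnramified.of_equiv
    ((IsLocalization.algEquiv (hV.primeIdealOf ⟨x, hx⟩).asIdeal.primeCompl (X.presheaf.stalk x)
      (Localization.AtPrime (hV.primeIdealOf ⟨x, hx⟩).asIdeal)).restrictScalars Γ(Y, U))

include hV in
theorem stalk_equiv {x : X} (hx : x ∈ V) :
    Nonempty (X.presheaf.stalk x ≃+* Localization.AtPrime (hV.primeIdealOf ⟨x, hx⟩).asIdeal) := by
  letI := X.presheaf.algebra_section_stalk ⟨x, hx⟩
  haveI := hV.isLocalization_stalk ⟨x, hx⟩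
  exact ⟨(IsLocalization.algEquiv (hV.primeIdealOf ⟨x, hx⟩).asIdeal.primeCompl (X.presheaf.stalk x)
      (Localization.AtPrime (hV.primeIdealOf ⟨x, hx⟩).asIdeal)).toRingEquiv⟩

include hV in
/-- points of an affine open below a given prime -/
theorem exists_point_of_le {x : X} (hx : x ∈ V) (P1 : Ideal Γ(X, V)) [P1.IsPrime]
    (h : P1 ≤ (hV.primeIdealOf ⟨x, hx⟩).asIdeal) :
    ∃ (x' : X) (hx' : x' ∈ V), x' ⤳ x ∧ (hV.primeIdealOf ⟨x', hx'⟩).asIdeal = P1 := by
  let y : PrimeSpectrum Γ(X, V) := ⟨P1, inferInstance⟩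
  have hy : hV.fromSpec y ∈ V := hV.range_fromSpec.subset ⟨y, rfl⟩
  refine ⟨hV.fromSpec y, hy, ?_, ?_⟩
  · have h0 : y ⤳ hV.primeIdealOf ⟨x, hx⟩ := (PrimeSpectrum.le_iff_specializes _ _).1 h
    have h1 := h0.map hV.fromSpec.continuous
    rwa [hV.fromSpec_primeIdealOf ⟨x, hx⟩] at h1
  · have : hV.primeIdealOf ⟨hV.fromSpec y, hy⟩ = y :=
      hV.fromSpec.isOpenEmbedding.injective (hV.fromSpec_primeIdealOf ⟨hV.fromSpec y, hy⟩)
    rw [this]

/-- purity of the branch locus -/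
theorem purity_of_branch_locus [LocallyOfFiniteType f] [IsLocallyNoetherian Y] (x : X)
    (hx : IsDomain (X.presheaf.stalk x) ∧ IsIntegrallyClosed (X.presheaf.stalk x))
    (hy : IsRegularLocalRing (Y.presheaf.stalk (f x))) (hq : f.QuasiFiniteAt x)
    (hdim : ringKrullDim (X.presheaf.stalk x) = ringKrullDim (Y.presheaf.stalk (f x)))
    (hdim1 : (1 : WithBot ℕ∞) ≤ ringKrullDim (X.presheaf.stalk x))
    (hunr : ∀ x' : X, x' ⤳ x → ringKrullDim (X.presheaf.stalk x') = 1 →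
      (f.stalkMap x').hom.FormallyUnramified) :
    ∃ W : X.Opens, x ∈ W ∧ Etale (W.ι ≫ f) := by
  obtain ⟨_, ⟨(U : Y.Opens), hU, rfl⟩, hxU, -⟩ :=
    Y.isBasis_affineOpens.exists_subset_of_mem_open (Set.mem_univ (f x)) isOpen_univ
  obtain ⟨_, ⟨(V : X.Opens), hV, rfl⟩, hxV, e⟩ :=
    X.isBasis_affineOpens.exists_subset_of_mem_open (show x ∈ (f ⁻¹ᵁ U : Set X) from hxU) (f ⁻¹ᵁ U).2
  letI := (f.appLE U V e).hom.toAlgebra
  haveI : IsNoetherianRing Γ(Y, U) := IsLocallyNoetherian.component_noetherian ⟨U, hU⟩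
  haveI : Algebra.FiniteType Γ(Y, U) Γ(X, V) := f.finiteType_appLE hU hV e
  let P := (hV.primeIdealOf ⟨x, hxV⟩).asIdeal
  have hp : P.under Γ(Y, U) = (hU.primeIdealOf ⟨f x, e hxV⟩).asIdeal :=
    congrArg PrimeSpectrum.asIdeal (IsAffineOpen.comap_primeIdealOf_appLE U hU V hV e hxV)
  obtain ⟨eX⟩ := stalk_equiv hV hxV
  obtain ⟨eY⟩ : Nonempty (Y.presheaf.stalk (f x) ≃+* Localization.AtPrime (P.under Γ(Y, U))) := by
    obtain ⟨eY⟩ := stalk_equiv hU (e hxV)
    exact ⟨eY.trans (IsLocalization.ringEquivOfRingEquiv (S := Localization.AtPrime (hU.primeIdealOf ⟨f x, e hxV⟩).asIdeal)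
      (Q := Localization.AtPrime (P.under Γ(Y, U))) (RingEquiv.refl Γ(Y, U)) (M := (hU.primeIdealOf ⟨f x, e hxV⟩).asIdeal.primeCompl)
      (T := (P.under Γ(Y, U)).primeCompl) (by simp [hp]))⟩
  haveI := hy
  haveI : IsRegularLocalRing (Localization.AtPrime (P.under Γ(Y, U))) := IsRegularLocalRing.of_ringEquiv eY
  haveI := hx.1
  haveI := hx.2
  haveI : IsDomain (Localization.AtPrime P) := eX.symm.toMulEquiv.isDomain
  haveI : IsIntegrallyClosed (Localization.AtPrime P) := IsIntegrallyClosed.of_equiv eX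
  haveI : Algebra.QuasiFiniteAt Γ(Y, U) P := hq.quasiFiniteAt hV hU e hxV
  refine exists_etale_nhd f hU hV e hxV (isEtaleAt_of_quasiFiniteAt P ?_ ?_ fun P1 _ hle h1 => ?_)
  · rw [← ringKrullDim_eq_of_ringEquiv eX, ← ringKrullDim_eq_of_ringEquiv eY, hdim]
  · rw [← ringKrullDim_eq_of_ringEquiv eX]; exact hdim1
  · obtain ⟨x', hx', hspec, rfl⟩ := exists_point_of_le hV hxV P1 hle
    refine isUnramifiedAt_of_stalk f hU hV e hx' (hunr x' hspec ?_)
    obtain ⟨eX'⟩ := stalk_equiv hV hx'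
    rw [ringKrullDim_eq_of_ringEquiv eX',
      IsLocalization.AtPrime.ringKrullDim_eq_height (hV.primeIdealOf ⟨x', hx'⟩).asIdeal, h1]
    rfl

end Groth.L13.Purity
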