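import Mathlib.RingTheory.AdicCompletion.AsTensorProduct
import Mathlib.RingTheory.AdicCompletion.LocalRing
import Mathlib.RingTheory.Etale.Descent
import Mathlib.RingTheory.Finiteness.Descent
import Mathlib.RingTheory.Flat.FaithfullyFlat.Basic
import Mathlib.RingTheory.TensorProduct.Maps
import Mathlib.Algebra.FiveLemma

/-! Gluing a finite etale algebra over the completion with an algebra on the punctured spectrum. -/

set_option autoImplicit false
set_option linter.style.haveILetI false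
set_option backward.isDefEq.respectTransparency.types false

universe u

open TensorProduct

namespace Groth.L13.Purity.ComplAlg

section
variable {A Ah : Type u} [CommRing A] [CommRing Ah] [Algebra A Ah]

theorem dense_pow (m : Ideal A) (h1 : ∀ a : Ah, ∃ a0 : A, a - algebraMap A Ah a0 ∈ m.map (algebraMap A Ah)) (n : ℕ)
    (a : Ah) : ∃ a0 : A, a - algebraMap A Ah a0 ∈ (m ^ n).map (algebraMap A Ah) := by
  induction n with
  | zero => exact ⟨0, by simp [Ideal.map_top]⟩
  | succ n ih =>
    obtain ⟨a0, ha0⟩ := ih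
    suffices h : ∀ z ∈ (m ^ n).map (algebraMap A Ah),
        ∃ z0 : A, z - algebraMap A Ah z0 ∈ (m ^ (n + 1)).map (algebraMap A Ah) by
      obtain ⟨z0, hz0⟩ := h _ ha0
      exact ⟨a0 + z0, by rwa [map_add, ← sub_sub]⟩
    intro z hz
    induction hz using Submodule.span_induction with
    | mem z hz =>
      obtain ⟨i, hi, rfl⟩ := hz
      exact ⟨i, by simp⟩
    | zero => exact ⟨0, by simp⟩
    | add x y _ _ hx hy =>
      obtain ⟨x0, hx0⟩ := hx
      obtain ⟨y0, hy0⟩ := hy
      exact ⟨x0 + y0, by rw [map_add, add_sub_add_comm]; exact add_mem hx0 hy0⟩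
    | smul r x hxm hx =>
      obtain ⟨x0, hx0⟩ := hx
      obtain ⟨r0, hr0⟩ := h1 r
      refine ⟨r0 * x0, ?_⟩
      have : r • x - algebraMap A Ah (r0 * x0) =
          (r - algebraMap A Ah r0) * x + algebraMap A Ah r0 * (x - algebraMap A Ah x0) := by
        rw [map_mul, smul_eq_mul]; ring
      rw [this]
      refine add_mem ?_ (Ideal.mul_mem_left _ _ hx0)
      rw [pow_succ', Ideal.map_mul]
      exact Ideal.mul_mem_mul hr0 hxm

theorem smul_eq_zero_of_mem_map {K : Type u} [AddCommGroup K] [Module A K] [Module Ah K] [IsScalarTower A Ah K]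
    (I : Ideal A) (x : K) (hx : ∀ a ∈ I, a • x = 0) (r : Ah) (hr : r ∈ I.map (algebraMap A Ah)) : r • x = 0 := by
  induction hr using Submodule.span_induction with
  | mem z hz => obtain ⟨i, hi, rfl⟩ := hz; rw [algebraMap_smul]; exact hx i hi
  | zero => exact zero_smul _ _
  | add a b _ _ ha hb => rw [add_smul, ha, hb, add_zero]
  | smul c a _ ha => rw [smul_assoc, ha, smul_zero]

theorem tmul_eq_zero_of_mem_map {K : Type u} [AddCommGroup K] [Module A K]
    (I : Ideal A) (x : K) (hx : ∀ a ∈ I, a • x = 0) (r : Ah) (hr : r ∈ I.map (algebraMap A Ah)) :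
    r ⊗ₜ[A] x = 0 :=  by
  have h : ∀ c : Ah, r * c ∈ I.map (algebraMap A Ah) := fun c => Ideal.mul_mem_right c _ hr
  have key : ∀ z ∈ I.map (algebraMap A Ah), ∀ c : Ah, (c * z) ⊗ₜ[A] x = (0 : Ah ⊗[A] K) := by
    intro z hz
    induction hz using Submodule.span_induction with
    | mem z hz =>
      obtain ⟨i, hi, rfl⟩ := hz
      intro c
      rw [mul_comm, ← Algebra.smul_def, TensorProduct.smul_tmul, hx i hi, TensorProduct.tmul_zero]
    | zero => intro c; simp
    | add a b _ _ ha hb => intro c; rw [mul_add, TensorProduct.add_tmul, ha, hb, add_zero]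
    | smul d a _ ha => intro c; rw [smul_eq_mul, ← mul_assoc]; exact ha _
  simpa using key r hr 1

/-- Torsion modules over the completion are unchanged by base change. -/
theorem bijective_of_torsion {K : Type u} [AddCommGroup K] [Module A K] [Module Ah K] [IsScalarTower A Ah K]
    (m : Ideal A) (h1 : ∀ a : Ah, ∃ a0 : A, a - algebraMap A Ah a0 ∈ m.map (algebraMap A Ah))
    (hK : ∀ x : K, ∃ n : ℕ, ∀ a ∈ m ^ n, a • x = 0) :
    Function.Bijective (LinearMap.liftBaseChange Ah (LinearMap.id : K →ₗ[A] K)) := by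
  have hr : ∀ z : Ah ⊗[A] K, z = (1 : Ah) ⊗ₜ LinearMap.liftBaseChange Ah (LinearMap.id : K →ₗ[A] K) z := by
    intro z
    induction z using TensorProduct.induction_on with
    | zero => simp
    | add a b ha hb => rw [map_add, TensorProduct.tmul_add, ← ha, ← hb]
    | tmul a x =>
      obtain ⟨n, hn⟩ := hK x
      obtain ⟨a0, ha0⟩ := dense_pow m h1 n a
      have e1 : a • x = a0 • x := by
        have := smul_eq_zero_of_mem_map _ x hn _ ha0
        rwa [sub_smul, sub_eq_zero, algebraMap_smul] at this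
      have e2 := tmul_eq_zero_of_mem_map _ x hn _ ha0
      rw [TensorProduct.sub_tmul, sub_eq_zero, Algebra.algebraMap_eq_smul_one] at e2
      rw [LinearMap.liftBaseChange_tmul, LinearMap.id_apply, e1, e2, TensorProduct.smul_tmul]
  refine ⟨fun a b hab => by rw [hr a, hr b, hab], fun x => ⟨1 ⊗ₜ x, ?_⟩⟩
  rw [LinearMap.liftBaseChange_tmul, LinearMap.id_apply, one_smul]

theorem exists_pow_annihilates [IsNoetherianRing A] (m : Ideal A) {K : Type u} [AddCommGroup K] [Module A K]
    (s : Finset A) (hs : m ≤ (Ideal.span (s : Set A)).radical) (x : K) (h : ∀ a ∈ s, ∃ n : ℕ, a ^ n • x = 0) :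
    ∃ n : ℕ, ∀ a ∈ m ^ n, a • x = 0 := by
  let J : Ideal A := LinearMap.ker (LinearMap.toSpanSingleton A K x)
  have : Ideal.span (s : Set A) ≤ J.radical := Ideal.span_le.2 fun a ha => by
    obtain ⟨n, hn⟩ := h a ha
    exact ⟨n, hn⟩
  obtain ⟨n, hn⟩ := Ideal.exists_pow_le_of_le_radical_of_fg
    (hs.trans ((Ideal.radical_mono this).trans_eq (Ideal.radical_idem J))) (IsNoetherian.noetherian m)
  exact ⟨n, fun a ha => hn ha⟩

end

variable {A : Type u} [CommRing A] [IsNoetherianRing A] [IsLocalRing A]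

theorem completion_dense (a : AdicCompletion (IsLocalRing.maximalIdeal A) A) :
    ∃ a0 : A, a - algebraMap A _ a0 ∈
      (IsLocalRing.maximalIdeal A).map (algebraMap A (AdicCompletion (IsLocalRing.maximalIdeal A) A)) := by
  obtain ⟨r, hr⟩ := (AdicCompletion.residueField_map_bijective A).2 (IsLocalRing.residue _ a)
  obtain ⟨a0, rfl⟩ := IsLocalRing.residue_surjective r
  refine ⟨a0, ?_⟩
  rw [IsLocalRing.ResidueField.map_residue] at hr
  rw [← AdicCompletion.maximalIdeal_eq_map]
  exact Ideal.Quotient.eq.1 hr.symm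

theorem exists_glue {A Ah C C' B : Type u} [CommRing A] [IsNoetherianRing A] [CommRing Ah] [Algebra A Ah]
    [Module.FaithfullyFlat A Ah] [CommRing C] [Algebra A C] [CommRing C'] [Algebra A C'] [Algebra Ah C'] [Algebra C C']
    [IsScalarTower A Ah C'] [IsScalarTower A C C'] [Algebra.IsPushout A Ah C C']
    [CommRing B] [Algebra A B] [Algebra Ah B] [IsScalarTower A Ah B] [Module.Finite Ah B] [Algebra.Etale Ah B]
    (m : Ideal A) (h1 : ∀ a : Ah, ∃ a0 : A, a - algebraMap A Ah a0 ∈ m.map (algebraMap A Ah))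
    (ρ : B →ₐ[Ah] C') (s : Finset A) (hs : m ≤ (Ideal.span (s : Set A)).radical)
    (hsurj : ∀ h ∈ s, ∀ c : C', ∃ n : ℕ, ∃ b : B, ρ b = h ^ n • c)
    (hinj : ∀ h ∈ s, ∀ b : B, ρ b = 0 → ∃ n : ℕ, h ^ n • b = 0) :
    ∃ (S : Type u) (_ : CommRing S) (_ : Algebra A S) (φ : S →ₐ[A] C),
      Module.Finite A S ∧ Algebra.Etale A S ∧
      ∀ h ∈ s, (∀ c : C, ∃ n : ℕ, ∃ x : S, φ x = h ^ n • c) ∧
        ∀ x : S, φ x = 0 → ∃ n : ℕ, h ^ n • x = 0 := by
  classical
  let M : Subalgebra A (C × B) := AlgHom.equalizer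
    ((IsScalarTower.toAlgHom A C C').comp (AlgHom.fst A C B)) ((ρ.restrictScalars A).comp (AlgHom.snd A C B))
  let T1 := LinearMap.ker ρ.toLinearMap
  let T2 := C' ⧸ LinearMap.range ρ.toLinearMap
  have hT1 : ∀ x : T1, ∃ n : ℕ, ∀ a ∈ m ^ n, a • x = 0 := fun x =>
    exists_pow_annihilates m s hs x fun h hh => by
      obtain ⟨n, hn⟩ := hinj h hh x x.2
      exact ⟨n, Subtype.ext hn⟩
  have hT2 : ∀ x : T2, ∃ n : ℕ, ∀ a ∈ m ^ n, a • x = 0 := fun x =>
    exists_pow_annihilates m s hs x fun h hh => by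
      obtain ⟨c, rfl⟩ := Submodule.Quotient.mk_surjective _ x
      obtain ⟨n, b, hb⟩ := hsurj h hh c
      exact ⟨n, (Submodule.Quotient.mk_eq_zero _).2 ⟨b, hb⟩⟩
  -- the top row
  let f1 : T1 →ₗ[A] M :=
    { toFun := fun t => ⟨(0, (t : B)), by
        show algebraMap C C' 0 = ρ t
        rw [map_zero]; exact t.2.symm⟩
      map_add' := fun a b => Subtype.ext (Prod.ext (add_zero 0).symm rfl)
      map_smul' := fun a t => Subtype.ext (Prod.ext (smul_zero a).symm rfl) }
  let f2 : M →ₗ[A] C := ((AlgHom.fst A C B).comp M.val).toLinearMap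
  let f3 : C →ₗ[A] T2 := ((LinearMap.range ρ.toLinearMap).mkQ.restrictScalars A).comp (IsScalarTower.toAlgHom A C C').toLinearMap
  have e12 : Function.Exact f1 f2 := by
    intro z
    constructor
    · intro hz
      refine ⟨⟨z.1.2, ?_⟩, Subtype.ext (Prod.ext (show (0 : C) = z.1.1 from hz.symm) rfl)⟩
      show ρ z.1.2 = 0
      rw [← show algebraMap C C' z.1.1 = ρ z.1.2 from z.2, show z.1.1 = 0 from hz, map_zero]
    · rintro ⟨t, rfl⟩; rfl
  have e23 : Function.Exact f2 f3 := by
    intro c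
    constructor
    · intro hc
      obtain ⟨b, hb⟩ := (Submodule.Quotient.mk_eq_zero _).1 hc
      exact ⟨⟨(c, b), hb.symm⟩, rfl⟩
    · rintro ⟨z, rfl⟩
      exact (Submodule.Quotient.mk_eq_zero _).2 ⟨z.1.2, (show algebraMap C C' z.1.1 = ρ z.1.2 from z.2).symm⟩
  have e1inj : Function.Injective f1 := fun a b hab => Subtype.ext (congrArg (fun z : M => z.1.2) hab)
  -- the comparison
  let μ : Ah ⊗[A] M →ₐ[Ah] B := Algebra.TensorProduct.lift (Algebra.ofId Ah B) ((AlgHom.snd A C B).comp M.val) (fun _ _ => mul_comm _ _)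
  let i1 : Ah ⊗[A] T1 →ₗ[A] T1 := (LinearMap.liftBaseChange Ah (LinearMap.id : T1 →ₗ[A] T1)).restrictScalars A
  let i2 : Ah ⊗[A] M →ₗ[A] B := μ.toLinearMap.restrictScalars A
  let i3 : Ah ⊗[A] C →ₗ[A] C' := ((Algebra.IsPushout.equiv A Ah C C').toLinearMap).restrictScalars A
  let i4 : Ah ⊗[A] T2 →ₗ[A] T2 := (LinearMap.liftBaseChange Ah (LinearMap.id : T2 →ₗ[A] T2)).restrictScalars A
  have c1 : ∀ z, μ (f1.lTensor Ah z) = (i1 z : B) := fun z => by
    induction z using TensorProduct.induction_on with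
    | zero => simp
    | add a b ha hb => rw [map_add, map_add, map_add, ha, hb]; rfl
    | tmul r x => simp [μ, i1, f1, Algebra.smul_def, Algebra.ofId_apply]
  have c2 : ∀ z, i3 (f2.lTensor Ah z) = ρ (μ z) := fun z => by
    induction z using TensorProduct.induction_on with
    | zero => simp
    | add a b ha hb => rw [map_add, map_add, map_add, map_add, ha, hb]
    | tmul r x =>
      show Algebra.IsPushout.equiv A Ah C C' (r ⊗ₜ[A] x.1.1) = ρ (μ (r ⊗ₜ x))
      rw [Algebra.IsPushout.equiv_tmul, show algebraMap C C' x.1.1 = ρ x.1.2 from x.2]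
      simp [μ, Algebra.ofId_apply]
  have c3 : ∀ z, i4 (f3.lTensor Ah z) = Submodule.Quotient.mk (i3 z) := fun z => by
    induction z using TensorProduct.induction_on with
    | zero => simp
    | add a b ha hb => rw [map_add, map_add, map_add, ha, hb]; rfl
    | tmul r x =>
      show r • (Submodule.Quotient.mk (algebraMap C C' x) : T2) = Submodule.Quotient.mk (Algebra.IsPushout.equiv A Ah C C' (r ⊗ₜ[A] x))
      rw [Algebra.IsPushout.equiv_tmul, ← Algebra.smul_def, Submodule.Quotient.mk_smul]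
  have hbij : Function.Bijective μ := by
    constructor
    · rw [injective_iff_map_eq_zero]
      intro z hz
      have h2 : f2.lTensor Ah z = 0 := (Algebra.IsPushout.equiv A Ah C C').injective (by
        show i3 (f2.lTensor Ah z) = Algebra.IsPushout.equiv A Ah C C' 0
        rw [c2, hz, map_zero, map_zero])
      obtain ⟨t, rfl⟩ := (Module.Flat.lTensor_exact Ah e12 z).1 h2
      have h3 : i1 t = 0 := Subtype.ext ((c1 t).symm.trans hz)
      rw [(bijective_of_torsion m h1 hT1).1 (h3.trans (map_zero i1).symm), map_zero]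
    · intro b
      obtain ⟨w, hw⟩ := (Algebra.IsPushout.equiv A Ah C C').surjective (ρ b)
      have h4 : f3.lTensor Ah w = 0 := (bijective_of_torsion m h1 hT2).1 (by
        show i4 (f3.lTensor Ah w) = i4 0
        rw [c3, map_zero, show i3 w = ρ b from hw]
        exact (Submodule.Quotient.mk_eq_zero _).2 ⟨b, rfl⟩)
      obtain ⟨z, rfl⟩ := (Module.Flat.lTensor_exact Ah e23 w).1 h4
      have hk : b - μ z ∈ T1 := by
        show ρ (b - μ z) = 0
        rw [map_sub, ← c2, show i3 (f2.lTensor Ah z) = ρ b from hw, sub_self]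
      obtain ⟨t, ht⟩ := (bijective_of_torsion (K := T1) m h1 hT1).2 ⟨b - μ z, hk⟩
      refine ⟨z + f1.lTensor Ah t, ?_⟩
      rw [map_add, c1, show i1 t = ⟨_, hk⟩ from ht]
      simp
  let e := AlgEquiv.ofBijective μ hbij
  haveI : Module.Finite Ah (Ah ⊗[A] M) := Module.Finite.equiv e.symm.toLinearEquiv
  haveI : Algebra.Etale Ah (Ah ⊗[A] M) := Algebra.Etale.of_equiv e.symm
  refine ⟨M, inferInstance, inferInstance, (AlgHom.fst A C B).comp M.val,
    Module.Finite.of_finite_tensorProduct_of_faithfullyFlat Ah,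
    Algebra.Etale.of_etale_tensorProduct_of_faithfullyFlat Ah, fun h hh => ⟨fun c => ?_, fun x hx => ?_⟩⟩
  · obtain ⟨n, b, hb⟩ := hsurj h hh (algebraMap C C' c)
    refine ⟨n, ⟨(h ^ n • c, b), ?_⟩, rfl⟩
    show algebraMap C C' (h ^ n • c) = ρ b
    rw [hb]; exact map_smul (IsScalarTower.toAlgHom A C C') _ _
  · obtain ⟨n, hn⟩ := hinj h hh x.1.2 (by
      rw [← show algebraMap C C' x.1.1 = ρ x.1.2 from x.2, show x.1.1 = 0 from hx, map_zero])
    refine ⟨n, Subtype.ext (Prod.ext ?_ hn)⟩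
    show h ^ n • x.1.1 = 0
    rw [show x.1.1 = 0 from hx, smul_zero]

end Groth.L13.Purity.ComplAlg
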