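import Groth.Agent.L23.EtaleLift
import Mathlib.RingTheory.Localization.Away.Basic

/-! The lifting lemma of the purity theorem. -/

set_option autoImplicit false
set_option linter.style.haveILetI false

universe u

namespace Groth.L13.Purity

variable {B : Type u} [CommRing B]

theorem mem_span_pow_of_mul_mem {X s : B} (hX : ∀ b, X * b = 0 → b = 0)
    (hs : ∀ b, s * b ∈ Ideal.span {X} → b ∈ Ideal.span {X}) :
    ∀ (M : ℕ) (b : B), s * b ∈ Ideal.span {X ^ M} → b ∈ Ideal.span {X ^ M}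
  | 0, b, _ => by simp
  | M + 1, b, h => by
    obtain ⟨a, ha⟩ := Ideal.mem_span_singleton'.1 h
    obtain ⟨b', hb'⟩ := Ideal.mem_span_singleton'.1 (hs b (Ideal.mem_span_singleton'.2
      ⟨a * X ^ M, by rw [← ha]; ring⟩))
    have h1 : s * b' = a * X ^ M := by
      have := hX (s * b' - a * X ^ M) (by rw [← sub_eq_zero] at ha; linear_combination s * hb' - ha)
      exact sub_eq_zero.1 this
    obtain ⟨c, hc⟩ := Ideal.mem_span_singleton'.1 (mem_span_pow_of_mul_mem hX hs M b'
      (Ideal.mem_span_singleton'.2 ⟨a, h1.symm⟩))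
    exact Ideal.mem_span_singleton'.2 ⟨c, by rw [← hb', ← hc]; ring⟩

section

variable {P C : Type u} [CommRing P] [CommRing C] [Algebra P B] [Algebra P C] (ι : B →ₐ[P] C) (x s : P) (M : ℕ)

/-- the quotient by a power of the parameter, localised -/
abbrev Q : Type u := Localization.Away (Ideal.Quotient.mk (Ideal.span {algebraMap P B x ^ M}) (algebraMap P B s))

variable {ι x s M}

/-- the map to the localisation of the target -/
noncomputable def piQ (hx : (ι (algebraMap P B x)) ^ M = 0) : Q (B := B) x s M →ₐ[P] Localization.Away (algebraMap P C s) :=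
  IsLocalization.liftAlgHom (M := Submonoid.powers (Ideal.Quotient.mk (Ideal.span {algebraMap P B x ^ M}) (algebraMap P B s)))
    (f := (IsScalarTower.toAlgHom P C (Localization.Away (algebraMap P C s))).comp
      (Ideal.Quotient.liftₐ (Ideal.span {algebraMap P B x ^ M}) ι fun a ha => by
        obtain ⟨b, rfl⟩ := Ideal.mem_span_singleton'.1 ha
        rw [map_mul, map_pow, hx, mul_zero]))
    (fun ⟨y, n, hy⟩ => by
      subst hy
      rw [map_pow]
      refine IsUnit.pow _ ?_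
      show IsUnit (algebraMap C (Localization.Away (algebraMap P C s)) (ι (algebraMap P B s)))
      rw [AlgHom.commutes]
      exact IsLocalization.Away.algebraMap_isUnit (S := Localization.Away (algebraMap P C s)) (algebraMap P C s))

theorem piQ_mk (hx : (ι (algebraMap P B x)) ^ M = 0) (b : B) :
    piQ (s := s) hx (algebraMap _ _ (Ideal.Quotient.mk (Ideal.span {algebraMap P B x ^ M}) b)) =
      algebraMap C (Localization.Away (algebraMap P C s)) (ι b) :=
  IsLocalization.lift_eq _ _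

theorem piQ_surjective (hx : (ι (algebraMap P B x)) ^ M = 0)
    (hs : ∀ c : C, ∃ (k : ℕ) (b : B), ι b = algebraMap P C s ^ k * c) : Function.Surjective (piQ (s := s) hx) := by
  intro y
  obtain ⟨n, c, hc⟩ := IsLocalization.Away.surj (algebraMap P C s) y
  obtain ⟨k, b, hb⟩ := hs c
  let ŝ := Ideal.Quotient.mk (Ideal.span {algebraMap P B x ^ M}) (algebraMap P B s)
  have hu := IsLocalization.Away.algebraMap_isUnit (S := Q (B := B) x s M) ŝ
  refine ⟨algebraMap _ _ (Ideal.Quotient.mk (Ideal.span {algebraMap P B x ^ M}) b) * ↑(hu.pow (k + n)).unit⁻¹, ?_⟩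
  have hu' : IsUnit (algebraMap C (Localization.Away (algebraMap P C s)) (algebraMap P C s)) :=
    IsLocalization.Away.algebraMap_isUnit (algebraMap P C s)
  rw [← (hu'.pow (k + n)).mul_left_inj]
  have h1 : piQ (s := s) hx (↑(hu.pow (k + n)).unit⁻¹) *
      algebraMap C (Localization.Away (algebraMap P C s)) (algebraMap P C s) ^ (k + n) = 1 := by
    have h0 : piQ (s := s) hx (algebraMap _ (Q (B := B) x s M) ŝ) =
        algebraMap C (Localization.Away (algebraMap P C s)) (algebraMap P C s) :=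
      (piQ_mk hx (algebraMap P B s)).trans (congrArg _ (AlgHom.commutes ι s))
    rw [← h0, ← map_pow (piQ (s := s) hx), ← map_mul (piQ (s := s) hx), IsUnit.val_inv_mul, map_one]
  rw [map_mul, piQ_mk, mul_assoc, h1, mul_one, hb, map_mul, map_pow, ← hc]
  ring

theorem piQ_ker (hx : (ι (algebraMap P B x)) ^ M = 0) (hι : RingHom.ker ι = Ideal.span {algebraMap P B x}) :
    IsNilpotent (RingHom.ker (piQ (s := s) hx : Q (B := B) x s M →+* Localization.Away (algebraMap P C s))) := by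
  let ŝ := Ideal.Quotient.mk (Ideal.span {algebraMap P B x ^ M}) (algebraMap P B s)
  let J : Ideal (Q (B := B) x s M) :=
    Ideal.span {algebraMap _ _ (Ideal.Quotient.mk (Ideal.span {algebraMap P B x ^ M}) (algebraMap P B x))}
  refine ⟨M, le_bot_iff.1 ((Ideal.pow_right_mono (J := J) (fun y hy => ?_) M).trans ?_)⟩
  · obtain ⟨n, a, ha⟩ := IsLocalization.Away.surj ŝ y
    obtain ⟨b, rfl⟩ := Ideal.Quotient.mk_surjective a
    have hu := IsLocalization.Away.algebraMap_isUnit (S := Q (B := B) x s M) ŝ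
    have hb : algebraMap C (Localization.Away (algebraMap P C s)) (ι b) = 0 := by
      rw [← piQ_mk hx, ← ha, map_mul]
      rw [show piQ (s := s) hx y = 0 from hy, zero_mul]
    obtain ⟨⟨_, j, rfl⟩, hj⟩ := (IsLocalization.map_eq_zero_iff (Submonoid.powers (algebraMap P C s)) _ _).1 hb
    have h1 : algebraMap P B s ^ j * b ∈ Ideal.span {algebraMap P B x} := by
      rw [← hι, RingHom.mem_ker, map_mul, map_pow, AlgHom.commutes]
      exact hj
    have h2 : algebraMap _ (Q (B := B) x s M) (Ideal.Quotient.mk (Ideal.span {algebraMap P B x ^ M}) b) ∈ J := by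
      obtain ⟨r, hr⟩ := Ideal.mem_span_singleton'.1 h1
      have h3 : algebraMap _ (Q (B := B) x s M) (Ideal.Quotient.mk (Ideal.span {algebraMap P B x ^ M}) (algebraMap P B s ^ j * b)) ∈ J := by
        rw [← hr, map_mul, map_mul]
        exact Ideal.mul_mem_left _ _ (Ideal.mem_span_singleton_self _)
      rw [map_mul, map_mul, map_pow, map_pow] at h3
      exact (Ideal.unit_mul_mem_iff_mem _ (hu.pow j)).1 h3
    rw [← ha] at h2
    exact (Ideal.mul_unit_mem_iff_mem _ (hu.pow n)).1 h2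
  · have h0 : Ideal.Quotient.mk (Ideal.span {algebraMap P B x ^ M}) (algebraMap P B x ^ M) = 0 :=
      Ideal.Quotient.eq_zero_iff_mem.2 (Ideal.mem_span_singleton_self _)
    rw [map_pow] at h0
    rw [Ideal.span_singleton_pow, Ideal.span_le, Set.singleton_subset_iff, ← map_pow (algebraMap (B ⧸ Ideal.span {algebraMap P B x ^ M}) (Q (B := B) x s M)), h0, map_zero]
    exact zero_mem _

end

variable {P P₀ C : Type u} [CommRing P] [CommRing P₀] [CommRing C] [Algebra P B] [Algebra P P₀] [Algebra P C]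
  [Algebra P₀ C] [IsScalarTower P P₀ C] [Algebra.Etale P₀ C]

set_option maxHeartbeats 1000000 in
/-- a map to an etale algebra over the quotient is surjective when it is so off two parameters -/
theorem surjective_of_lift (hP₀ : Function.Surjective (algebraMap P P₀)) (x x₂ x₃ : P) (ι : B →ₐ[P] C)
    (hι : RingHom.ker ι = Ideal.span {algebraMap P B x})
    (h2 : ∀ c : C, ∃ (k : ℕ) (b : B), ι b = algebraMap P C x₂ ^ k * c)
    (h3 : ∀ c : C, ∃ (k : ℕ) (b : B), ι b = algebraMap P C x₃ ^ k * c)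
    (hC2 : ∀ c : C, algebraMap P C x₂ * c = 0 → c = 0)
    (hX : ∀ b, algebraMap P B x * b = 0 → b = 0)
    (hB2 : ∀ b, algebraMap P B x₂ * b ∈ Ideal.span {algebraMap P B x} → b ∈ Ideal.span {algebraMap P B x})
    (hB3 : ∀ b, algebraMap P B x₃ * b ∈ Ideal.span {algebraMap P B x} → b ∈ Ideal.span {algebraMap P B x})
    (hB23 : ∀ (k : ℕ) (b : B), algebraMap P B x₃ ^ k * b ∈ Ideal.span {algebraMap P B x₂ ^ k} →
      b ∈ Ideal.span {algebraMap P B x₂ ^ k})
    (hT : ∃ N : ℕ, ∀ (m k : ℕ) (z u v : B),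
      algebraMap P B x ^ m * z = algebraMap P B x₂ ^ k * u + algebraMap P B x₃ ^ k * v →
        ∃ u' v' : B, algebraMap P B x ^ N * z = algebraMap P B x₂ ^ k * u' + algebraMap P B x₃ ^ k * v') :
    Function.Surjective ι := by
  obtain ⟨N, hN⟩ := hT
  obtain ⟨C', _, _, ψ, hC', hψ, -⟩ := Groth.L23.exists_etale_lift (B := P₀) (C := C) hP₀
  haveI := hC'
  intro c
  obtain ⟨c', rfl⟩ := hψ c
  let X := algebraMap P B x
  let X₂ := algebraMap P B x₂
  let X₃ := algebraMap P B x₃
  let M := N + 1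
  have hx0 : ι X = 0 := by
    rw [← RingHom.mem_ker, hι]; exact Ideal.mem_span_singleton_self _
  have hx : (ι (algebraMap P B x)) ^ M = 0 := by rw [hx0, zero_pow (Nat.succ_ne_zero N)]
  let J := Ideal.span {X ^ M}
  have h23 : ∀ d : C, ∃ (k : ℕ) (b : B), ι b = algebraMap P C (x₂ * x₃) ^ k * d := fun d => by
    obtain ⟨k, b, hb⟩ := h2 d
    refine ⟨k, X₃ ^ k * b, ?_⟩
    rw [map_mul, map_pow, AlgHom.commutes, hb, map_mul (algebraMap P C), mul_pow]
    ring
  let g₂ := Algebra.FormallySmooth.liftOfSurjective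
    ((IsScalarTower.toAlgHom P C (Localization.Away (algebraMap P C x₂))).comp ψ) (piQ (s := x₂) hx)
    (piQ_surjective hx h2) (piQ_ker hx hι)
  let g₃ := Algebra.FormallySmooth.liftOfSurjective
    ((IsScalarTower.toAlgHom P C (Localization.Away (algebraMap P C x₃))).comp ψ) (piQ (s := x₃) hx)
    (piQ_surjective hx h3) (piQ_ker hx hι)
  let s₂ := Ideal.Quotient.mk J X₂
  let s₃ := Ideal.Quotient.mk J X₃
  let s₂₃ := Ideal.Quotient.mk J (algebraMap P B (x₂ * x₃))
  have hs : s₂₃ = s₂ * s₃ := by simp [s₂₃, s₂, s₃, X₂, X₃]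
  have hu : IsUnit (algebraMap (B ⧸ J) (Q (B := B) x (x₂ * x₃) M) s₂) ∧
      IsUnit (algebraMap (B ⧸ J) (Q (B := B) x (x₂ * x₃) M) s₃) := by
    rw [← IsUnit.mul_iff, ← map_mul, ← hs]
    exact IsLocalization.Away.algebraMap_isUnit s₂₃
  let j₂ : Q (B := B) x x₂ M →ₐ[P] Q (B := B) x (x₂ * x₃) M :=
    IsLocalization.liftAlgHom (M := Submonoid.powers s₂)
      (f := IsScalarTower.toAlgHom P (B ⧸ J) (Q (B := B) x (x₂ * x₃) M))
      (fun ⟨y, n, hy⟩ => by subst hy; rw [map_pow]; exact hu.1.pow n)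
  let j₃ : Q (B := B) x x₃ M →ₐ[P] Q (B := B) x (x₂ * x₃) M :=
    IsLocalization.liftAlgHom (M := Submonoid.powers s₃)
      (f := IsScalarTower.toAlgHom P (B ⧸ J) (Q (B := B) x (x₂ * x₃) M))
      (fun ⟨y, n, hy⟩ => by subst hy; rw [map_pow]; exact hu.2.pow n)
  have hj₂ : ∀ a, j₂ (algebraMap _ _ a) = algebraMap (B ⧸ J) (Q (B := B) x (x₂ * x₃) M) a :=
    fun a => IsLocalization.lift_eq _ a
  have hj₃ : ∀ a, j₃ (algebraMap _ _ a) = algebraMap (B ⧸ J) (Q (B := B) x (x₂ * x₃) M) a :=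
    fun a => IsLocalization.lift_eq _ a
  let C₂₃ := Localization.Away (algebraMap P C (x₂ * x₃))
  let π := piQ (s := x₂ * x₃) hx
  have huC : IsUnit (algebraMap C C₂₃ (algebraMap P C x₂)) ∧ IsUnit (algebraMap C C₂₃ (algebraMap P C x₃)) := by
    rw [← IsUnit.mul_iff, ← map_mul, ← map_mul]
    exact IsLocalization.Away.algebraMap_isUnit (algebraMap P C (x₂ * x₃))
  let t₂ : Localization.Away (algebraMap P C x₂) →ₐ[P] C₂₃ :=
    IsLocalization.liftAlgHom (M := Submonoid.powers (algebraMap P C x₂)) (f := IsScalarTower.toAlgHom P C C₂₃)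
      (fun ⟨y, n, hy⟩ => by subst hy; rw [map_pow]; exact huC.1.pow n)
  let t₃ : Localization.Away (algebraMap P C x₃) →ₐ[P] C₂₃ :=
    IsLocalization.liftAlgHom (M := Submonoid.powers (algebraMap P C x₃)) (f := IsScalarTower.toAlgHom P C C₂₃)
      (fun ⟨y, n, hy⟩ => by subst hy; rw [map_pow]; exact huC.2.pow n)
  have hcomm₂ : π.comp j₂ = t₂.comp (piQ (s := x₂) hx) := by
    refine AlgHom.coe_ringHom_injective (IsLocalization.ringHom_ext (Submonoid.powers s₂) (RingHom.ext fun a => ?_))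
    obtain ⟨b, rfl⟩ := Ideal.Quotient.mk_surjective a
    show π (j₂ (algebraMap _ _ (Ideal.Quotient.mk J b))) = t₂ (piQ (s := x₂) hx (algebraMap _ _ (Ideal.Quotient.mk J b)))
    rw [hj₂, piQ_mk, piQ_mk]
    exact (IsLocalization.lift_eq _ _).symm
  have hcomm₃ : π.comp j₃ = t₃.comp (piQ (s := x₃) hx) := by
    refine AlgHom.coe_ringHom_injective (IsLocalization.ringHom_ext (Submonoid.powers s₃) (RingHom.ext fun a => ?_))
    obtain ⟨b, rfl⟩ := Ideal.Quotient.mk_surjective a
    show π (j₃ (algebraMap _ _ (Ideal.Quotient.mk J b))) = t₃ (piQ (s := x₃) hx (algebraMap _ _ (Ideal.Quotient.mk J b)))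
    rw [hj₃, piQ_mk, piQ_mk]
    exact (IsLocalization.lift_eq _ _).symm
  have hg : j₂.comp g₂ = j₃.comp g₃ := by
    refine Algebra.FormallyUnramified.lift_unique' π (piQ_ker hx hι) _ _ (AlgHom.ext fun y => ?_)
    show π (j₂ (g₂ y)) = π (j₃ (g₃ y))
    rw [← AlgHom.comp_apply π j₂, hcomm₂, ← AlgHom.comp_apply π j₃, hcomm₃, AlgHom.comp_apply, AlgHom.comp_apply]
    erw [Algebra.FormallySmooth.liftOfSurjective_apply, Algebra.FormallySmooth.liftOfSurjective_apply]
    exact (IsLocalization.lift_eq _ (ψ y)).trans (IsLocalization.lift_eq _ (ψ y)).symm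
  obtain ⟨n₂, a, ha⟩ := IsLocalization.Away.surj s₂ (g₂ c')
  obtain ⟨n₃, b, hb⟩ := IsLocalization.Away.surj s₃ (g₃ c')
  obtain ⟨a, rfl⟩ := Ideal.Quotient.mk_surjective a
  obtain ⟨b, rfl⟩ := Ideal.Quotient.mk_surjective b
  let k := n₂ + n₃
  -- common exponent
  have ha' : g₂ c' * algebraMap _ _ (Ideal.Quotient.mk J (X₂ ^ k)) = algebraMap _ _ (Ideal.Quotient.mk J (a * X₂ ^ n₃)) := by
    simp only [k, map_mul, map_pow, pow_add]
    rw [← ha]; ring
  have hb' : g₃ c' * algebraMap _ _ (Ideal.Quotient.mk J (X₃ ^ k)) = algebraMap _ _ (Ideal.Quotient.mk J (b * X₃ ^ n₂)) := by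
    simp only [k, map_mul, map_pow, pow_add]
    rw [← hb]; ring
  have e₂ := congrArg j₂ ha'
  have e₃ := congrArg j₃ hb'
  rw [map_mul, hj₂, hj₂] at e₂
  rw [map_mul, hj₃, hj₃, ← AlgHom.comp_apply j₃, ← hg, AlgHom.comp_apply] at e₃
  have e₄ : algebraMap (B ⧸ J) (Q (B := B) x (x₂ * x₃) M) (Ideal.Quotient.mk J (a * X₂ ^ n₃ * X₃ ^ k)) =
      algebraMap (B ⧸ J) (Q (B := B) x (x₂ * x₃) M) (Ideal.Quotient.mk J (b * X₃ ^ n₂ * X₂ ^ k)) := by
    simp only [map_mul] at e₂ e₃ ⊢
    rw [← e₂, ← e₃]; ring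
  obtain ⟨⟨_, q, rfl⟩, hq⟩ := (IsLocalization.eq_iff_exists (Submonoid.powers s₂₃) _).1 e₄
  have h4 : (X₂ * X₃) ^ q * (a * X₂ ^ n₃ * X₃ ^ k - b * X₃ ^ n₂ * X₂ ^ k) ∈ J := by
    rw [← Ideal.Quotient.eq_zero_iff_mem, map_mul, map_pow, map_sub, mul_sub, sub_eq_zero]
    simpa [s₂₃, X₂, X₃] using hq
  have h5 : a * X₂ ^ n₃ * X₃ ^ k - b * X₃ ^ n₂ * X₂ ^ k ∈ J := by
    refine mem_span_pow_of_mul_mem hX ?_ M _ h4
    clear h4 hq
    induction q with
    | zero => intro y hy; simpa using hy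
    | succ q ih =>
      intro y hy
      refine hB2 _ (hB3 _ (ih _ ?_))
      convert hy using 1
      ring
  obtain ⟨z, hz⟩ := Ideal.mem_span_singleton'.1 h5
  obtain ⟨u, v, huv⟩ := hN M k z (-(b * X₃ ^ n₂)) (a * X₂ ^ n₃) (by
    show X ^ M * z = X₂ ^ k * -(b * X₃ ^ n₂) + X₃ ^ k * (a * X₂ ^ n₃)
    linear_combination hz)
  have h6 : X₃ ^ k * (a * X₂ ^ n₃ - X * v) = X₂ ^ k * (b * X₃ ^ n₂ + X * u) := by
    have : X ^ N * z = X₂ ^ k * u + X₃ ^ k * v := huv
    rw [show X ^ M = X * X ^ N by rw [← pow_succ']] at hz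
    linear_combination X * this - hz
  obtain ⟨e, he⟩ := Ideal.mem_span_singleton'.1 (hB23 k _
    (Ideal.mem_span_singleton'.2 ⟨b * X₃ ^ n₂ + X * u, (mul_comm _ _).trans h6.symm⟩))
  refine ⟨e, ?_⟩
  -- compare after localisation
  have h7 : algebraMap C (Localization.Away (algebraMap P C x₂)) (algebraMap P C x₂ ^ k * ι e) =
      algebraMap C (Localization.Away (algebraMap P C x₂)) (algebraMap P C x₂ ^ k * ψ c') := by
    have := congrArg (piQ (s := x₂) hx) ha'
    rw [map_mul, piQ_mk, piQ_mk] at this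
    erw [Algebra.FormallySmooth.liftOfSurjective_apply] at this
    have h8 : ι (a * X₂ ^ n₃) = algebraMap P C x₂ ^ k * ι e := by
      have h9 := congrArg ι he
      rw [map_mul, map_sub, map_mul ι X v, hx0, zero_mul, sub_zero, map_pow, AlgHom.commutes] at h9
      rw [← h9, mul_comm]
    rw [h8, map_pow, AlgHom.commutes] at this
    rw [← this, map_mul, mul_comm]
    rfl
  obtain ⟨⟨_, r, rfl⟩, hr⟩ := (IsLocalization.eq_iff_exists (Submonoid.powers (algebraMap P C x₂)) _).1 h7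
  have key : ∀ (r : ℕ) (d : C), algebraMap P C x₂ ^ r * d = 0 → d = 0 := by
    intro r
    induction r with
    | zero => intro d hd; simpa using hd
    | succ r ih => intro d hd; exact hC2 _ (ih _ (by rw [← hd]; ring))
  refine sub_eq_zero.1 (key (r + k) _ ?_)
  simp only at hr
  rw [pow_add]
  linear_combination hr

end Groth.L13.Purity
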