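import Groth.Agent.L13.Purity.Main
import Mathlib.RingTheory.LocalProperties.IntegrallyClosed
import Mathlib.RingTheory.Etale.Pi

/-! Purity over a regular domain for an algebra given on a big open. -/

set_option autoImplicit false
set_option linter.style.haveILetI false
set_option backward.isDefEq.respectTransparency false

universe u

open TensorProduct

namespace Groth.L13.Purity

variable {R : Type u} [CommRing R] [IsDomain R]

theorem isIntegrallyClosed_of_regular
    (hreg : ∀ (p : Ideal R) [p.IsPrime], IsRegularLocalRing (Localization.AtPrime p)) : IsIntegrallyClosed R :=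
  IsIntegrallyClosed.of_localization_maximal fun p hp hpm => by
    haveI := hreg p
    exact Groth.L03.RegularNormal.isIntegrallyClosed _

variable [IsNoetherianRing R]

/-- the normalisation in a separable extension unramified in codimension one is etale -/
theorem etale_of_unramifiedCodimOne (hreg : ∀ (p : Ideal R) [p.IsPrime], IsRegularLocalRing (Localization.AtPrime p))
    (K L B : Type u) [Field K] [Field L] [CommRing B] [Algebra R K] [IsFractionRing R K] [Algebra K L]
    [Algebra R L] [IsScalarTower R K L] [FiniteDimensional K L] [Algebra.IsSeparable K L] [Algebra R B]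
    [Algebra B L] [IsScalarTower R B L] [IsIntegralClosure B R L] (hB : UnramifiedCodimOne R B) :
    Algebra.Etale R B ∧ Module.Finite R B := by
  haveI := isIntegrallyClosed_of_regular hreg
  haveI hfin : Module.Finite R B := IsIntegralClosure.finite R K L B
  haveI : Algebra.FinitePresentation R B := Algebra.FinitePresentation.of_finiteType.1 inferInstance
  refine ⟨Algebra.etaleLocus_eq_univ_iff_etale.1 (Set.eq_univ_iff_forall.2 fun P => ?_), hfin⟩
  haveI : (P.asIdeal.comap (algebraMap R B)).IsPrime := Ideal.comap_isPrime _ _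
  haveI := hreg (P.asIdeal.comap (algebraMap R B))
  exact isEtaleAt_of_pure R K L B P.asIdeal _ rfl (pure_of_regular _) hB

attribute [local instance] Algebra.TensorProduct.rightAlgebra in
/-- unramifiedness over a basic open passes to quotient algebras -/
theorem isUnramifiedAt_of_surjective {B B' : Type u} [CommRing B] [CommRing B'] [Algebra R B] [Algebra R B'] (f : R)
    [Algebra.FormallyUnramified (Localization.Away f) (Localization.Away f ⊗[R] B)] (π : B →ₐ[R] B')
    (hπ : Function.Surjective π) (P : Ideal B') [P.IsPrime] (hf : algebraMap R B' f ∉ P) :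
    Algebra.IsUnramifiedAt R P := by
  let θ := Algebra.TensorProduct.map (AlgHom.id R (Localization.Away f)) π
  have hθ : Function.Surjective θ := LinearMap.lTensor_surjective (Localization.Away f) hπ
  haveI : Algebra.FormallyUnramified R (Localization.Away f ⊗[R] B) :=
    Algebra.FormallyUnramified.comp R (Localization.Away f) _
  haveI : Algebra.FormallyUnramified R (Localization.Away f ⊗[R] B') :=
    Algebra.FormallyUnramified.of_surjective θ hθ
  haveI : IsLocalization.Away (algebraMap R B' f) (Localization.Away f ⊗[R] B') := by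
    have h1 : Submonoid.powers (algebraMap R B' f) = Algebra.algebraMapSubmonoid B' (Submonoid.powers f) := by
      simp [Algebra.algebraMapSubmonoid, Submonoid.map_powers]
    show IsLocalization (Submonoid.powers (algebraMap R B' f)) _
    rw [h1]
    infer_instance
  haveI : Algebra.FormallyUnramified R (Localization.Away (algebraMap R B' f)) :=
    Algebra.FormallyUnramified.of_equiv
      ((IsLocalization.algEquiv (Submonoid.powers (algebraMap R B' f)) (Localization.Away f ⊗[R] B')
        (Localization.Away (algebraMap R B' f))).restrictScalars R)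
  exact (Algebra.basicOpen_subset_unramifiedLocus_iff.2 inferInstance) (show ⟨P, inferInstance⟩ ∈ _ from hf)

variable {T : Type u} [CommRing T] [Algebra R T] [Module.IsTorsionFree R T] {f : R}

theorem tmul_left_injective {M : Submonoid R} (hM : M ≤ nonZeroDivisors R) (A : Type u) [CommRing A] [Algebra R A]
    [IsLocalization M A] : Function.Injective (TensorProduct.mk R A T 1) := by
  haveI : IsLocalizedModule M (TensorProduct.mk R A T 1) :=
    (isLocalizedModule_iff_isBaseChange M A _).2 (TensorProduct.isBaseChange R T A)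
  rw [injective_iff_map_eq_zero]
  intro t ht
  obtain ⟨m, hm⟩ := (IsLocalizedModule.eq_zero_iff M (TensorProduct.mk R A T 1)).1 ht
  exact (smul_eq_zero.1 hm).resolve_left (nonZeroDivisors.ne_zero (hM m.2))

/-- the integral closure agrees with the finite algebra after inverting `f` -/
theorem bijective_map_val (hf : f ≠ 0) [Module.Finite (Localization.Away f) (Localization.Away f ⊗[R] T)] :
    Function.Bijective (Algebra.TensorProduct.map (AlgHom.id (Localization.Away f) (Localization.Away f))
      (integralClosure R T).val) := by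
  let Rf := Localization.Away f
  refine ⟨Module.Flat.lTensor_preserves_injective_linearMap (R := R) (M := Rf) (integralClosure R T).val.toLinearMap
    Subtype.val_injective, fun s => ?_⟩
  have hM : Submonoid.powers f ≤ nonZeroDivisors R := powers_le_nonZeroDivisors_of_noZeroDivisors hf
  haveI : IsLocalizedModule (Submonoid.powers f) (TensorProduct.mk R Rf T 1) :=
    (isLocalizedModule_iff_isBaseChange (Submonoid.powers f) Rf _).2 (TensorProduct.isBaseChange R T Rf)
  haveI : Algebra.IsIntegral Rf (Rf ⊗[R] T) := Algebra.IsIntegral.of_finite Rf _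
  obtain ⟨m, hm⟩ := IsIntegral.exists_multiple_integral_of_isLocalization (Submonoid.powers f) s
    (Algebra.IsIntegral.isIntegral (R := Rf) s)
  obtain ⟨⟨t, k⟩, hk⟩ := IsLocalizedModule.surj (Submonoid.powers f) (TensorProduct.mk R Rf T 1) (m • s)
  have ht : IsIntegral R t := by
    have h1 : IsIntegral R ((Algebra.TensorProduct.includeRight : T →ₐ[R] Rf ⊗[R] T) t) := by
      rw [show (Algebra.TensorProduct.includeRight : T →ₐ[R] Rf ⊗[R] T) t = k • m • s from hk.symm]
      exact hm.smul (k : R)
    exact (isIntegral_algHom_iff _ (tmul_left_injective hM Rf)).1 h1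
  obtain ⟨v, hv⟩ := IsLocalization.map_units Rf (k * m)
  refine ⟨(↑v⁻¹ : Rf) ⊗ₜ ⟨t, ht⟩, ?_⟩
  rw [Algebra.TensorProduct.map_tmul]
  show (↑v⁻¹ : Rf) ⊗ₜ[R] t = s
  have h2 : (1 : Rf) ⊗ₜ[R] t = (↑(k * m) : R) • s := by
    rw [Submonoid.coe_mul, mul_smul]; exact hk.symm
  have h3 : (↑v⁻¹ : Rf) ⊗ₜ[R] t = (↑v⁻¹ : Rf) • ((1 : Rf) ⊗ₜ[R] t) := by
    rw [TensorProduct.smul_tmul', smul_eq_mul, mul_one]
  rw [h3, h2, ← algebraMap_smul Rf (↑(k * m) : R) s, ← hv, smul_smul, Units.inv_mul, one_smul]

set_option maxHeartbeats 1000000 in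
/-- integral elements of the generic fibre lie in the algebra over a basic open -/
theorem exists_pow_smul_eq [IsIntegrallyClosed R] (hf : f ≠ 0) (K : Type u) [Field K] [Algebra R K]
    [IsFractionRing R K] [Algebra.Etale (Localization.Away f) (Localization.Away f ⊗[R] T)] {e : K ⊗[R] T}
    (he : IsIntegral R e) : ∃ (n : ℕ) (t : T), f ^ n • e = (1 : K) ⊗ₜ[R] t := by
  let Rf := Localization.Away f
  let S := Rf ⊗[R] T
  have hu : IsUnit (algebraMap R K f) := isUnit_iff_ne_zero.2 ((map_ne_zero_iff _ (IsFractionRing.injective R K)).2 hf)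
  letI : Algebra Rf K := (IsLocalization.Away.lift f hu : Rf →+* K).toAlgebra
  haveI : IsScalarTower R Rf K := IsScalarTower.of_algebraMap_eq fun r => (IsLocalization.Away.lift_eq f hu r).symm
  have hM : Submonoid.powers f ≤ nonZeroDivisors R := powers_le_nonZeroDivisors_of_noZeroDivisors hf
  haveI : IsDomain Rf := IsLocalization.isDomain_localization hM
  haveI : IsIntegrallyClosed Rf := isIntegrallyClosed_of_isLocalization Rf (Submonoid.powers f) hM
  haveI : IsFractionRing Rf K := IsFractionRing.isFractionRing_of_isDomain_of_isLocalization (Submonoid.powers f) Rf K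
  let c := Algebra.TensorProduct.cancelBaseChange R Rf Rf K T
  let e' : S ⊗[Rf] K := Algebra.TensorProduct.comm Rf K S (c.symm e)
  have he' : IsIntegral R e' :=
    (he.map (c.symm.restrictScalars R).toAlgHom).map ((Algebra.TensorProduct.comm Rf K S).restrictScalars R).toAlgHom
  obtain ⟨w, hw⟩ := (TensorProduct.toIntegralClosure_bijective_of_smooth (R := Rf) (S := S) (B := K)).2
    ⟨e', he'.tower_top⟩
  have hw' : ∃ s : S, e' = s ⊗ₜ[Rf] (1 : K) := by
    have h1 : (Algebra.TensorProduct.map (AlgHom.id S S) (integralClosure Rf K).val) w = e' :=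
      congrArg Subtype.val hw
    clear hw
    rw [← h1]
    clear h1
    induction w with
    | zero => exact ⟨0, by simp⟩
    | add a b ha hb =>
      obtain ⟨s, hs⟩ := ha
      obtain ⟨t, ht⟩ := hb
      exact ⟨s + t, by rw [map_add, hs, ht, add_tmul]⟩
    | tmul a v =>
      obtain ⟨v, hv⟩ := v
      rw [IsIntegrallyClosed.integralClosure_eq_bot Rf K, Algebra.mem_bot] at hv
      obtain ⟨r, rfl⟩ := hv
      refine ⟨r • a, ?_⟩
      simp [smul_tmul, Algebra.algebraMap_eq_smul_one]
  obtain ⟨s, hs⟩ := hw'
  haveI : IsLocalizedModule (Submonoid.powers f) (TensorProduct.mk R Rf T 1) :=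
    (isLocalizedModule_iff_isBaseChange (Submonoid.powers f) Rf _).2 (TensorProduct.isBaseChange R T Rf)
  obtain ⟨⟨t, ⟨_, n, rfl⟩⟩, hn⟩ := IsLocalizedModule.surj (Submonoid.powers f) (TensorProduct.mk R Rf T 1) s
  refine ⟨n, t, ?_⟩
  have h1 : e = c ((1 : K) ⊗ₜ[Rf] s) := by
    have h2 : c.symm e = (1 : K) ⊗ₜ[Rf] s := (Algebra.TensorProduct.comm Rf K S).injective hs
    rw [← h2, AlgEquiv.apply_symm_apply]
  rw [h1]
  refine ((map_smul (c.restrictScalars R) (f ^ n) _).symm.trans ?_)
  rw [← TensorProduct.tmul_smul]
  erw [hn]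
  show c ((1 : K) ⊗ₜ[Rf] ((1 : Rf) ⊗ₜ[R] t)) = _
  rw [Algebra.TensorProduct.cancelBaseChange_tmul, one_smul]

set_option maxHeartbeats 2000000 in
/-- purity: an algebra on an open containing all points of codimension at most one extends -/
theorem purity_global (hreg : ∀ (p : Ideal R) [p.IsPrime], IsRegularLocalRing (Localization.AtPrime p))
    {σ : Type*} [Finite σ] (f : σ → R) (hne : ∀ i, f i ≠ 0)
    (hcov : ∀ (p : Ideal R) [p.IsPrime], p.height ≤ 1 → ∃ i, f i ∉ p)
    (het : ∀ i, Algebra.Etale (Localization.Away (f i)) (Localization.Away (f i) ⊗[R] T))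
    (hfin : ∀ i, Module.Finite (Localization.Away (f i)) (Localization.Away (f i) ⊗[R] T))
    (hglue : ∀ (n : ℕ) (t : σ → T), (∀ i j, f j ^ n • t i = f i ^ n • t j) → ∃ s, ∀ i, f i ^ n • s = t i) :
    Algebra.Etale R (integralClosure R T) ∧ Module.Finite R (integralClosure R T) := by
  classical
  cases nonempty_fintype σ
  haveI := isIntegrallyClosed_of_regular hreg
  let K := FractionRing R
  obtain ⟨i₀, hi₀⟩ := hcov ⊥ (by rw [Ideal.height_bot]; exact bot_le)
  have hu : IsUnit (algebraMap R K (f i₀)) :=
    isUnit_iff_ne_zero.2 ((map_ne_zero_iff _ (IsFractionRing.injective R K)).2 (hne i₀))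
  letI : Algebra (Localization.Away (f i₀)) K := (IsLocalization.Away.lift (f i₀) hu : Localization.Away (f i₀) →+* K).toAlgebra
  haveI : IsScalarTower R (Localization.Away (f i₀)) K := IsScalarTower.of_algebraMap_eq fun r =>
    (IsLocalization.Away.lift_eq (f i₀) hu r).symm
  haveI := het i₀
  haveI : Algebra.Etale K (K ⊗[R] T) :=
    Algebra.Etale.of_equiv (Algebra.TensorProduct.cancelBaseChange R (Localization.Away (f i₀)) K K T)
  obtain ⟨ι', hfinι, F, _, _, e, hF⟩ := (Algebra.Etale.iff_exists_algEquiv_prod (K := K) (A := K ⊗[R] T)).1 inferInstance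
  haveI := hfinι
  letI algR : ∀ j, Algebra R (F j) := fun j => ((algebraMap K (F j)).comp (algebraMap R K)).toAlgebra
  haveI towR : ∀ j, IsScalarTower R K (F j) := fun j => IsScalarTower.of_algebraMap_eq fun r => rfl
  let g : T →ₐ[R] (∀ j, F j) :=
    (e.restrictScalars R).toAlgHom.comp (Algebra.TensorProduct.includeRight : T →ₐ[R] K ⊗[R] T)
  have hg : Function.Injective g := e.injective.comp (tmul_left_injective le_rfl K)
  let B := integralClosure R T
  let C : ι' → Type u := fun j => integralClosure R (F j)
  have hgint : ∀ (b : B) j, g b j ∈ integralClosure R (F j) := fun b j =>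
    b.2.map ((Pi.evalAlgHom R F j).comp g)
  let Φ : B →ₐ[R] (∀ j, integralClosure R (F j)) :=
    { toFun := fun b j => ⟨g b j, hgint b j⟩
      map_one' := by funext j; exact Subtype.ext (by simp)
      map_mul' := fun a b => by funext j; exact Subtype.ext (by simp)
      map_zero' := by funext j; exact Subtype.ext (by simp)
      map_add' := fun a b => by funext j; exact Subtype.ext (by simp)
      commutes' := fun r => by funext j; exact Subtype.ext (by simp) }
  have hΦ : Function.Bijective Φ := by
    refine ⟨fun a b h => Subtype.ext (hg ?_), fun c => ?_⟩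
    · funext j
      exact congrArg Subtype.val (congrFun h j)
    let c₀ : ∀ j, F j := fun j => (c j).1
    have h1 : IsIntegral R c₀ := by
      cases nonempty_fintype ι'
      rw [show c₀ = ∑ j, Pi.single j (c j).1 from (Finset.univ_sum_single c₀).symm]
      refine IsIntegral.sum _ fun i _ => ?_
      obtain ⟨p, hp, hp'⟩ := (c i).2
      refine ⟨Polynomial.X * p, Polynomial.monic_X.mul hp, ?_⟩
      rw [← Polynomial.aeval_def]
      funext j
      rw [← Pi.evalAlgHom_apply R F j (Polynomial.aeval _ _), ← Polynomial.aeval_algHom_apply]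
      rcases eq_or_ne j i with rfl | hne
      · rw [Pi.evalAlgHom_apply, Pi.single_eq_same, map_mul]
        rw [show Polynomial.aeval (c j).1 p = 0 from (Polynomial.aeval_def _ _).trans hp', mul_zero]
        rfl
      · rw [Pi.evalAlgHom_apply, Pi.single_eq_of_ne hne, map_mul, Polynomial.aeval_X, zero_mul]
        rfl
    have h2 : IsIntegral R (e.symm c₀) := h1.map (e.symm.restrictScalars R).toAlgHom
    choose n t ht using fun i => haveI := het i; exists_pow_smul_eq (hne i) K h2
    let N := ∑ i, n i
    let t' : σ → T := fun i => f i ^ (N - n i) • t i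
    have ht' : ∀ i, f i ^ N • e.symm c₀ = (1 : K) ⊗ₜ[R] t' i := fun i => by
      have hle : n i ≤ N := Finset.single_le_sum (fun _ _ => Nat.zero_le _) (Finset.mem_univ i)
      rw [show t' i = f i ^ (N - n i) • t i from rfl, tmul_smul, ← ht i, smul_smul, ← pow_add, Nat.sub_add_cancel hle]
    obtain ⟨s, hs⟩ := hglue N t' fun i j => by
      refine (tmul_left_injective (T := T) (M := nonZeroDivisors R) le_rfl K) ?_
      rw [TensorProduct.mk_apply, TensorProduct.mk_apply]
      refine (tmul_smul _ _ _).trans (Eq.trans ?_ (tmul_smul _ _ _).symm)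
      rw [← ht' i, ← ht' j, smul_comm]
    have h3 : (1 : K) ⊗ₜ[R] s = e.symm c₀ := by
      refine (IsUnit.smul_left_cancel (a := algebraMap R K (f i₀ ^ N)) ?_).1 ?_
      · rw [map_pow]; exact hu.pow N
      · rw [algebraMap_smul, algebraMap_smul, ht' i₀]
        exact (tmul_smul _ _ _).symm.trans (congrArg _ (hs i₀))
    have h4 : g s = c₀ := (congrArg e h3).trans (e.apply_symm_apply c₀)
    refine ⟨⟨s, (isIntegral_algHom_iff g hg).1 (h4 ▸ h1)⟩, ?_⟩
    funext j
    exact Subtype.ext (congrFun h4 j)
  have hC : ∀ j, Algebra.Etale R (integralClosure R (F j)) ∧ Module.Finite R (integralClosure R (F j)) := by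
    intro j
    haveI := (hF j).1
    haveI := (hF j).2
    refine etale_of_unramifiedCodimOne hreg K (F j) (integralClosure R (F j)) fun P hP hP1 => ?_
    haveI : (P.comap (algebraMap R (integralClosure R (F j)))).IsPrime := Ideal.comap_isPrime _ _
    obtain ⟨i, hi⟩ := hcov _ hP1.le
    haveI := het i
    haveI := hfin i
    haveI : Algebra.Etale (Localization.Away (f i)) (Localization.Away (f i) ⊗[R] B) :=
      Algebra.Etale.of_equiv (AlgEquiv.ofBijective _ (bijective_map_val (T := T) (hne i))).symm
    exact isUnramifiedAt_of_surjective (f i) ((Pi.evalAlgHom R (fun j => integralClosure R (F j)) j).comp Φ)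
      ((Function.surjective_eval j).comp hΦ.2) P hi
  haveI := fun j => (hC j).1
  haveI := fun j => (hC j).2
  let E := AlgEquiv.ofBijective Φ hΦ
  exact ⟨Algebra.Etale.of_equiv E.symm, Module.Finite.equiv E.symm.toLinearEquiv⟩

end Groth.L13.Purity
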