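import Mathlib.RingTheory.Invariant.Basic
import Mathlib.RingTheory.Unramified.Locus
import Mathlib.RingTheory.Kaehler.Basic
import Mathlib.LinearAlgebra.TensorProduct.Finiteness

/-! Trivial inertia gives unramifiedness for invariant rings. -/

set_option autoImplicit false
set_option linter.style.haveILetI false

universe u v w

open TensorProduct
open scoped Pointwise

namespace Groth.L13.Purity

section Trivial

variable {R : Type u} [CommRing R] {B : Type v} [CommRing B] [Algebra R B]
  {G : Type w} [Group G] [Finite G] [MulSemiringAction G B] [SMulCommClass G R B]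

/-- a separating element makes the invariant extension unramified -/
theorem isUnramifiedAt_of_separated (hfix : ∀ b : B, (∀ g : G, g • b = b) → b ∈ Set.range (algebraMap R B))
    (Q : Ideal B) [Q.IsPrime] (hsep : ∀ σ : G, σ ≠ 1 → ∃ a : B, σ • a - a ∉ Q) : Algebra.IsUnramifiedAt R Q := by
  classical
  cases nonempty_fintype G
  let ev : G → B ⊗[R] B →ₐ[R] B := fun σ =>
    Algebra.TensorProduct.lift (AlgHom.id R B) (MulSemiringAction.toAlgHom R B σ) fun _ _ => Commute.all _ _
  have hev : ∀ σ x y, ev σ (x ⊗ₜ[R] y) = x * σ • y := fun σ x y => by simp [ev]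
  have hsep' : ∀ σ : G, ∃ e : B ⊗[R] B, (σ ≠ 1 → ev σ e = 0) ∧ ev 1 e ∉ Q := by
    intro σ
    by_cases h1 : σ = 1
    · exact ⟨1, fun h => absurd h1 h, by rw [map_one]; exact fun h => ‹Q.IsPrime›.ne_top ((Ideal.eq_top_iff_one Q).2 h)⟩
    obtain ⟨a, ha⟩ := hsep σ h1
    refine ⟨(σ • a) ⊗ₜ 1 - 1 ⊗ₜ a, fun _ => ?_, ?_⟩
    · rw [map_sub, hev, hev, smul_one, mul_one, one_mul, sub_self]
    · rw [map_sub, hev, hev, smul_one, mul_one, one_mul, one_smul]; exact ha
  choose e he0 he1 using hsep'
  let E := ∏ σ, e σ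
  let c := ev 1 E
  have hc : c ∉ Q := fun h => by
    obtain ⟨σ, -, hσ⟩ := ‹Q.IsPrime›.prod_mem_iff.1 (show (∏ σ, ev 1 (e σ)) ∈ Q by rwa [← map_prod])
    exact he1 σ hσ
  have hE : ∀ σ, σ ≠ 1 → ev σ E = 0 := fun σ hσ => by
    rw [map_prod]; exact Finset.prod_eq_zero (Finset.mem_univ σ) (he0 σ hσ)
  obtain ⟨S, hS⟩ := TensorProduct.exists_finset E
  have hsum : ∀ σ, (∑ i ∈ S, i.1 * σ • i.2) = ev σ E := fun σ => by
    rw [hS, map_sum]; exact Finset.sum_congr rfl fun i _ => (hev σ _ _).symm
  have htr : ∀ a : B, ∃ r : R, algebraMap R B r = ∑ σ : G, σ • a := fun a =>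
    hfix _ fun g => by
      rw [Finset.smul_sum]
      exact Fintype.sum_equiv (Equiv.mulLeft g) _ _ fun h => by rw [← mul_smul]; rfl
  choose tr htr using htr
  have h1 : ∀ a : B, ∑ i ∈ S, i.1 * algebraMap R B (tr (i.2 * a)) = c * a := by
    intro a
    simp only [htr, Finset.mul_sum, smul_mul', ← mul_assoc]
    rw [Finset.sum_comm]
    simp only [← Finset.sum_mul, hsum]
    rw [Finset.sum_eq_single (1 : G) (fun σ _ hσ => by rw [hE σ hσ, zero_mul]) (fun h => absurd (Finset.mem_univ _) h),
      one_smul]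
  have h2 : ∀ a : B, ∑ i ∈ S, algebraMap R B (tr (a * i.1)) * i.2 = c * a := by
    intro a
    simp only [htr, Finset.sum_mul]
    rw [Finset.sum_comm]
    have h3 : ∀ σ : G, ∑ i ∈ S, σ • (a * i.1) * i.2 = σ • a * σ • ev σ⁻¹ E := by
      intro σ
      rw [← hsum, Finset.smul_sum, Finset.mul_sum]
      refine Finset.sum_congr rfl fun i _ => ?_
      simp [smul_mul', smul_inv_smul, mul_assoc]
    simp only [h3]
    rw [Finset.sum_eq_single (1 : G) (fun σ _ hσ => by rw [hE σ⁻¹ (inv_ne_one.2 hσ), smul_zero, mul_zero])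
      (fun h => absurd (Finset.mem_univ _) h), one_smul, inv_one, one_smul, mul_comm]
  let D := KaehlerDifferential.D R B
  have h4 : ∀ b : B, c • D (c * b) = 0 := by
    intro b
    have h5 : ∑ i ∈ S, (c * (b * i.1)) • D i.2 = ∑ i ∈ S, i.1 • D (c * (b * i.2)) := by
      calc ∑ i ∈ S, (c * (b * i.1)) • D i.2
          = ∑ i ∈ S, ∑ j ∈ S, (j.1 * algebraMap R B (tr (j.2 * (b * i.1)))) • D i.2 := by
            refine Finset.sum_congr rfl fun i _ => ?_
            rw [← Finset.sum_smul, h1]
        _ = ∑ j ∈ S, j.1 • D (∑ i ∈ S, algebraMap R B (tr ((b * j.2) * i.1)) * i.2) := by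
            rw [Finset.sum_comm]
            refine Finset.sum_congr rfl fun j _ => ?_
            rw [map_sum, Finset.smul_sum]
            refine Finset.sum_congr rfl fun i _ => ?_
            rw [← Algebra.smul_def, D.map_smul, ← algebraMap_smul B (tr (b * j.2 * i.1)) (D i.2), smul_smul]
            congr 3
            ring
        _ = ∑ j ∈ S, j.1 • D (c * (b * j.2)) := Finset.sum_congr rfl fun j _ => by rw [h2]
    have h6 : ∀ i : B × B, i.1 • D (c * (b * i.2)) = (c * (b * i.1)) • D i.2 + (i.1 * i.2) • D (c * b) := by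
      intro i
      rw [show c * (b * i.2) = (c * b) * i.2 by ring, D.leibniz, smul_add, smul_smul, smul_smul]
      congr 2
      ring
    simp only [h6, Finset.sum_add_distrib, left_eq_add] at h5
    rw [← Finset.sum_smul] at h5
    rwa [show (∑ i ∈ S, i.1 * i.2) = c by
      rw [show c = ev 1 E from rfl, ← hsum]; simp] at h5
  have h7 : ∀ b : B, (c * c) • D b = 0 := by
    intro b
    have h8 := h4 1
    rw [mul_one] at h8
    have h9 := h4 b
    rw [D.leibniz, smul_add, smul_comm c b, h8, smul_zero, add_zero, smul_smul] at h9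
    exact h9
  have hQ : (⟨Q, inferInstance⟩ : PrimeSpectrum B) ∈ Algebra.unramifiedLocus R B := by
    rw [Algebra.unramifiedLocus_eq_compl_support, Set.mem_compl_iff, Module.notMem_support_iff']
    intro m
    refine ⟨c * c, fun h => hc ((‹Q.IsPrime›.mem_or_mem h).elim id id), ?_⟩
    have hm : m ∈ Submodule.span B (Set.range (KaehlerDifferential.D R B)) := by
      rw [KaehlerDifferential.span_range_derivation]; trivial
    induction hm using Submodule.span_induction with
    | mem m hm => obtain ⟨b, rfl⟩ := hm; exact h7 b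
    | zero => rw [smul_zero]
    | add a b _ _ ha hb => rw [smul_add, ha, hb, add_zero]
    | smul r a _ ha => rw [smul_comm, ha, smul_zero]
  exact hQ

end Trivial

section Quotient

variable {R : Type u} [CommRing R] {A : Type v} [CommRing A] [Algebra R A]
  {H : Type w} [Group H] [Finite H] [MulSemiringAction H A] [SMulCommClass H R A]

/-- outside a subgroup containing the inertia, an element moves the fixed ring modulo the prime -/
theorem exists_smul_sub_notMem (N : Subgroup H) (B : Subalgebra R A)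
    (hB : ∀ a, a ∈ B ↔ ∀ n ∈ N, n • a = a) (P : Ideal A) [P.IsPrime] (hI : P.inertia H ≤ N) {g : H} (hg : g ∉ N)
    (hgB : ∀ b ∈ B, g • b ∈ B) : ∃ b ∈ B, g • b - b ∉ P := by
  by_contra! hall
  haveI : SMulCommClass N B A := ⟨fun n b a => by
    show (n : H) • ((b : A) * a) = (b : A) * ((n : H) • a)
    rw [smul_mul', (hB _).1 b.2 _ n.2]⟩
  haveI : Algebra.IsInvariant B A N := ⟨fun a ha => ⟨⟨a, (hB a).2 fun n hn => ha ⟨n, hn⟩⟩, rfl⟩⟩
  have hfin : Finite N := inferInstance
  -- move `g` into the stabiliser of `P`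
  have hover : (g • P).under B = P.under B := by
    ext b
    show (b : A) ∈ g • P ↔ (b : A) ∈ P
    rw [Ideal.mem_pointwise_smul_iff_inv_smul_mem]
    have h1 := hall (g⁻¹ • (b : A))
    constructor
    · intro hb
      have hb' : g⁻¹ • (b : A) ∈ B := by
        have : ∀ k : ℕ, g ^ k • (b : A) ∈ B := by
          intro k
          induction k with
          | zero => simp
          | succ k ih => rw [pow_succ', mul_smul]; exact hgB _ ih
        obtain ⟨k, hk⟩ := (mem_powers_iff_mem_zpowers (x := g) (y := g⁻¹)).2 (inv_mem (Subgroup.mem_zpowers g))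
        exact hk ▸ this k
      have h2 := h1 hb'
      rw [smul_inv_smul] at h2
      exact (sub_add_cancel (b : A) (g⁻¹ • (b : A))) ▸ P.add_mem h2 hb
    · intro hb
      have hb' : g⁻¹ • (b : A) ∈ B := by
        have : ∀ k : ℕ, g ^ k • (b : A) ∈ B := by
          intro k
          induction k with
          | zero => simp
          | succ k ih => rw [pow_succ', mul_smul]; exact hgB _ ih
        obtain ⟨k, hk⟩ := (mem_powers_iff_mem_zpowers (x := g) (y := g⁻¹)).2 (inv_mem (Subgroup.mem_zpowers g))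
        exact hk ▸ this k
      have h2 := h1 hb'
      rw [smul_inv_smul] at h2
      exact (sub_sub_cancel (b : A) (g⁻¹ • (b : A))) ▸ P.sub_mem hb h2
  obtain ⟨n, hn⟩ := Algebra.IsInvariant.exists_smul_of_under_eq B A N (g • P) P hover
  have hn' : ((n : H) * g) • P = P := (mul_smul _ _ _).trans hn.symm
  set g₁ := (n : H) * g with hg₁
  have hg₁B : ∀ b ∈ B, g₁ • b = g • b := fun b hb => by
    rw [hg₁, mul_smul]; exact (hB _).1 (hgB b hb) _ n.2
  -- the automorphism of the residue extension
  let p := P.under B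
  let σ : A →ₐ[B] A :=
    { toRingHom := RingHom.id A
      commutes' := fun _ => rfl }
  have hmap : P.map (MulSemiringAction.toRingEquiv H A g₁ : A →+* A) = P := hn'
  let e : (A ⧸ P) ≃+* (A ⧸ P) := Ideal.quotientEquiv P P (MulSemiringAction.toRingEquiv H A g₁) hmap.symm
  let e' : (A ⧸ P) ≃ₐ[B ⧸ p] (A ⧸ P) := AlgEquiv.ofRingEquiv (f := e) fun x => by
    obtain ⟨b, rfl⟩ := Ideal.Quotient.mk_surjective x
    show Ideal.Quotient.mk P (g₁ • (b : A)) = Ideal.Quotient.mk P (b : A)
    rw [Ideal.Quotient.eq, hg₁B _ b.2]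
    exact hall _ b.2
  obtain ⟨⟨m, hm⟩, hm'⟩ := Ideal.Quotient.stabilizerHom_surjective N p P e'
  have hmem : (m : H)⁻¹ * g₁ ∈ P.inertia H := by
    intro a
    show ((m : H)⁻¹ * g₁) • a - a ∈ P
    have h1 := AlgEquiv.congr_fun hm' (Ideal.Quotient.mk P a)
    rw [Ideal.Quotient.stabilizerHom_apply] at h1
    have h2 : (m : H) • a - g₁ • a ∈ P := Ideal.Quotient.eq.1 h1
    have hmP : (m : H) • P = P := hm
    rw [← hmP, Ideal.mem_pointwise_smul_iff_inv_smul_mem] at h2
    rw [smul_sub, inv_smul_smul] at h2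
    rw [mul_smul, ← neg_sub]
    exact P.neg_mem h2
  refine hg ?_
  have h3 := N.mul_mem m.2 (hI hmem)
  rw [mul_inv_cancel_left, hg₁] at h3
  exact (N.mul_mem_cancel_left n.2).1 h3

end Quotient

end Groth.L13.Purity
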