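import Mathlib.RingTheory.DedekindDomain.IntegralClosure
import Mathlib.FieldTheory.Minpoly.IsIntegrallyClosed
import Mathlib.RingTheory.Polynomial.ScaleRoots

/-! Regular pairs on the normalisation in a separable extension. -/

set_option autoImplicit false
set_option linter.style.haveILetI false

universe u

open Polynomial

namespace Groth.L13.Purity

theorem dvd_of_dvd_pow_mul {R : Type u} [CommRing R] [IsDomain R] {a b : R} (ha : a ≠ 0)
    (h : ∀ r, a ∣ b * r → a ∣ r) (i j : ℕ) {r : R} (hr : a ^ i ∣ b ^ j * r) : a ^ i ∣ r := by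
  have h1 : ∀ (j : ℕ) (r : R), a ∣ b ^ j * r → a ∣ r := by
    intro j
    induction j with
    | zero => intro r hr; simpa using hr
    | succ j ih => intro r hr; exact h r (ih _ (by rwa [← mul_assoc, ← pow_succ]))
  induction i generalizing r with
  | zero => simp
  | succ i ih =>
    obtain ⟨r', rfl⟩ := h1 j r ((dvd_pow_self a (Nat.succ_ne_zero i)).trans hr)
    rw [pow_succ'] at hr ⊢
    rw [mul_left_comm, mul_dvd_mul_iff_left ha] at hr
    exact mul_dvd_mul_left a (ih hr)

theorem minpoly_smul {K L : Type u} [Field K] [Field L] [Algebra K L] [FiniteDimensional K L] {a : K} (ha : a ≠ 0)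
    (y : L) : minpoly K (algebraMap K L a * y) = (minpoly K y).scaleRoots a := by
  have hy : IsIntegral K y := IsIntegral.of_finite K y
  have hw : IsIntegral K (algebraMap K L a * y) := IsIntegral.of_finite K _
  have hdvd : minpoly K (algebraMap K L a * y) ∣ (minpoly K y).scaleRoots a :=
    minpoly.dvd K _ (scaleRoots_aeval_eq_zero (minpoly.aeval K y))
  have hdvd' : minpoly K y ∣ (minpoly K (algebraMap K L a * y)).scaleRoots a⁻¹ := by
    refine minpoly.dvd K _ ?_
    have := scaleRoots_aeval_eq_zero (r := a⁻¹) (minpoly.aeval K (algebraMap K L a * y))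
    rwa [← mul_assoc, ← map_mul, inv_mul_cancel₀ ha, map_one, one_mul] at this
  refine (eq_of_monic_of_dvd_of_natDegree_le (minpoly.monic hw) ((monic_scaleRoots_iff _).2 (minpoly.monic hy))
    hdvd ?_).symm
  rw [natDegree_scaleRoots]
  have := natDegree_le_of_dvd hdvd' ((monic_scaleRoots_iff _).2 (minpoly.monic hw)).ne_zero
  rwa [natDegree_scaleRoots] at this

variable {R : Type u} [CommRing R] [IsDomain R] [IsIntegrallyClosed R] (K L : Type u) [Field K] [Field L]
  [Algebra R K] [IsFractionRing R K] [Algebra K L] [Algebra R L] [IsScalarTower R K L] [FiniteDimensional K L]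
  (B : Type u) [CommRing B] [Algebra R B] [Algebra B L] [IsScalarTower R B L] [IsIntegralClosure B R L]

include K L in
/-- a regular pair of the base is regular on the normalisation -/
theorem mem_span_of_mul_mem {a b : R} (ha : a ≠ 0) (hb : b ≠ 0) (h : ∀ r, a ∣ b * r → a ∣ r) {z : B}
    (hz : algebraMap R B b * z ∈ Ideal.span {algebraMap R B a}) : z ∈ Ideal.span {algebraMap R B a} := by
  obtain ⟨w, hw⟩ := Ideal.mem_span_singleton'.1 hz
  have hinj : Function.Injective (algebraMap R K) := IsFractionRing.injective R K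
  let aK := algebraMap R K a
  let bK := algebraMap R K b
  have ha' : aK ≠ 0 := (map_ne_zero_iff _ hinj).2 ha
  have hb' : bK ≠ 0 := (map_ne_zero_iff _ hinj).2 hb
  have haL : ∀ r : R, algebraMap K L (algebraMap R K r) = algebraMap B L (algebraMap R B r) := fun r => by
    rw [← IsScalarTower.algebraMap_apply, ← IsScalarTower.algebraMap_apply]
  let y : L := algebraMap B L z / algebraMap K L aK
  have hne : algebraMap K L aK ≠ 0 := (map_ne_zero_iff _ (algebraMap K L).injective).2 ha'
  have hay : algebraMap K L aK * y = algebraMap B L z := mul_div_cancel₀ _ hne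
  have hby : algebraMap K L bK * y = algebraMap B L w := by
    refine mul_left_cancel₀ hne ?_
    rw [mul_left_comm, hay, haL, haL, ← map_mul, ← map_mul, ← hw, mul_comm]
  have hint : ∀ v : B, IsIntegral R (algebraMap B L v) := fun v =>
    (IsIntegralClosure.isIntegral R L v).algebraMap
  have hyK : IsIntegral K y := IsIntegral.of_finite K y
  let p := minpoly K y
  have hc : ∀ (c : K), c ≠ 0 → ∀ (v : B), algebraMap K L c * y = algebraMap B L v →
      ∀ i, ∃ r : R, algebraMap R K r = p.coeff i * c ^ (p.natDegree - i) := by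
    intro c hc v hv i
    have h1 := minpoly.isIntegrallyClosed_eq_field_fractions' (R := R) K (hint v)
    rw [← hv, minpoly_smul hc] at h1
    exact ⟨_, by rw [← coeff_scaleRoots, h1, coeff_map]⟩
  have hlift : p ∈ Polynomial.lifts (algebraMap R K) := by
    rw [lifts_iff_coeff_lifts]
    intro i
    obtain ⟨r, hr⟩ := hc aK ha' z hay i
    obtain ⟨s, hs⟩ := hc bK hb' w hby i
    let j := p.natDegree - i
    have h2 : a ^ j * s = b ^ j * r := hinj (by
      rw [map_mul, map_mul, map_pow, map_pow, hr, hs]; ring)
    obtain ⟨t, rfl⟩ := dvd_of_dvd_pow_mul ha h j j ⟨s, h2.symm⟩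
    refine ⟨t, mul_right_cancel₀ (pow_ne_zero j ha') ?_⟩
    rw [← hr, map_mul, map_pow, mul_comm]
  obtain ⟨q, hq, -, hqm⟩ := lifts_and_degree_eq_and_monic hlift (minpoly.monic hyK)
  have hyint : IsIntegral R y := ⟨q, hqm, by
    rw [← aeval_def, ← aeval_map_algebraMap K, hq]
    exact minpoly.aeval K y⟩
  refine Ideal.mem_span_singleton'.2 ⟨IsIntegralClosure.mk' B y hyint, IsIntegralClosure.algebraMap_injective B R L ?_⟩
  rw [map_mul, IsIntegralClosure.algebraMap_mk', ← haL, mul_comm, hay]

end Groth.L13.Purity
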