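import Groth.Agent.L01.Regular

/-! Three parameters of a regular local ring. -/

set_option autoImplicit false
set_option linter.style.haveILetI false

universe u

open IsLocalRing

namespace Groth.L13.Purity

theorem exists_mem_notMem_sq (R : Type u) [CommRing R] [IsRegularLocalRing R] (h : 1 ≤ ringKrullDim R) :
    ∃ x ∈ maximalIdeal R, x ∉ maximalIdeal R ^ 2 := by
  by_contra! hc
  have h1 : maximalIdeal R ≤ maximalIdeal R • (maximalIdeal R : Submodule R R) := by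
    rw [smul_eq_mul, ← pow_two]; exact hc
  have h2 := Submodule.eq_bot_of_le_smul_of_le_jacobson_bot (maximalIdeal R) (maximalIdeal R)
    (Ideal.fg_of_isNoetherianRing _) h1 (maximalIdeal_le_jacobson _)
  have h3 := (isRegularLocalRing_iff R).1 ‹_›
  rw [h2, Submodule.spanFinrank_bot] at h3
  rw [← h3] at h
  exact absurd h (by decide)

theorem prime_of_notMem_sq {R : Type u} [CommRing R] [IsRegularLocalRing R] {x : R} (hx : x ∈ maximalIdeal R)
    (hx2 : x ∉ maximalIdeal R ^ 2) : Prime x := by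
  haveI := (Groth.L01.regular_quotient_of_notMem_sq hx hx2).1
  haveI := Groth.L01.isDomain_of_regular (R ⧸ Ideal.span {x})
  haveI := Groth.L01.isDomain_of_regular R
  exact (Ideal.span_singleton_prime (Groth.L01.ne_zero_of_notMem_sq hx2)).1 ((Ideal.Quotient.isDomain_iff_prime _).1 ‹_›)

theorem notMem_span_swap {R : Type u} [CommRing R] [IsLocalRing R] {a b : R} (ha : a ∈ maximalIdeal R)
    (hb : b ∉ maximalIdeal R ^ 2) (h : a ∉ Ideal.span {b}) : b ∉ Ideal.span {a} := by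
  intro hc
  obtain ⟨r, hr⟩ := Ideal.mem_span_singleton'.1 hc
  by_cases hu : IsUnit r
  · refine h (Ideal.mem_span_singleton'.2 ⟨↑hu.unit⁻¹, ?_⟩)
    rw [← hr, ← mul_assoc, IsUnit.val_inv_mul, one_mul]
  · exact hb (hr ▸ pow_two (maximalIdeal R) ▸ Ideal.mul_mem_mul ((mem_maximalIdeal r).2 hu) ha)

theorem exists_params (R : Type u) [CommRing R] [IsRegularLocalRing R] (h : 3 ≤ ringKrullDim R) :
    ∃ x x₂ x₃ : R, x ∈ maximalIdeal R ∧ x₂ ∈ maximalIdeal R ∧ x₃ ∈ maximalIdeal R ∧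
      x ∉ maximalIdeal R ^ 2 ∧ Prime x ∧ Prime x₂ ∧ Prime x₃ ∧ ¬ x ∣ x₂ ∧ ¬ x ∣ x₃ ∧ ¬ x₂ ∣ x₃ ∧ ¬ x₃ ∣ x₂ ∧
      (Ideal.span {x₂, x₃}).IsPrime ∧ x ∉ Ideal.span {x₂, x₃} := by
  obtain ⟨d, hd⟩ := Groth.L01.exists_dim_eq_nat (R := R)
  rw [hd] at h
  have hd3 : 3 ≤ d := by exact_mod_cast h
  obtain ⟨x₂, hx₂, hx₂'⟩ := exists_mem_notMem_sq R (by rw [hd]; exact_mod_cast (by omega : 1 ≤ d))
  obtain ⟨hR₁, hdim₁⟩ := Groth.L01.regular_quotient_of_notMem_sq hx₂ hx₂'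
  haveI := hR₁
  obtain ⟨d₁, hd₁⟩ := Groth.L01.exists_dim_eq_nat (R := R ⧸ Ideal.span {x₂})
  have e₁ : d₁ + 1 = d := by rw [hd₁, hd] at hdim₁; exact_mod_cast hdim₁
  let π₁ := Ideal.Quotient.mk (Ideal.span {x₂})
  have hm₁ : maximalIdeal (R ⧸ Ideal.span {x₂}) = (maximalIdeal R).map π₁ := Groth.L01.maximalIdeal_quotient_eq_map
  obtain ⟨y₃, hy₃, hy₃'⟩ := exists_mem_notMem_sq (R ⧸ Ideal.span {x₂}) (by
    rw [hd₁]; exact_mod_cast (by omega : 1 ≤ d₁))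
  rw [hm₁] at hy₃
  obtain ⟨x₃, hx₃, rfl⟩ := (Ideal.mem_map_iff_of_surjective π₁ Ideal.Quotient.mk_surjective).1 hy₃
  have hy₃m : π₁ x₃ ∈ maximalIdeal (R ⧸ Ideal.span {x₂}) := by rw [hm₁]; exact hy₃
  obtain ⟨hR₂, hdim₂⟩ := Groth.L01.regular_quotient_of_notMem_sq hy₃m hy₃'
  haveI := hR₂
  haveI := Groth.L01.isDomain_of_regular ((R ⧸ Ideal.span {x₂}) ⧸ Ideal.span {π₁ x₃})
  obtain ⟨d₂, hd₂⟩ := Groth.L01.exists_dim_eq_nat (R := (R ⧸ Ideal.span {x₂}) ⧸ Ideal.span {π₁ x₃})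
  have e₂ : d₂ + 1 = d₁ := by rw [hd₂, hd₁] at hdim₂; exact_mod_cast hdim₂
  let π₂ := (Ideal.Quotient.mk (Ideal.span {π₁ x₃})).comp π₁
  have hπ₂ : Function.Surjective π₂ := Ideal.Quotient.mk_surjective.comp Ideal.Quotient.mk_surjective
  have hm₂ : maximalIdeal ((R ⧸ Ideal.span {x₂}) ⧸ Ideal.span {π₁ x₃}) = (maximalIdeal R).map π₂ := by
    rw [Groth.L01.maximalIdeal_quotient_eq_map, hm₁, Ideal.map_map]
  obtain ⟨y, hy, hy'⟩ := exists_mem_notMem_sq ((R ⧸ Ideal.span {x₂}) ⧸ Ideal.span {π₁ x₃}) (by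
    rw [hd₂]; exact_mod_cast (by omega : 1 ≤ d₂))
  rw [hm₂] at hy hy'
  obtain ⟨x, hx, rfl⟩ := (Ideal.mem_map_iff_of_surjective π₂ hπ₂).1 hy
  have hker : RingHom.ker π₂ = Ideal.span {x₂, x₃} := by
    rw [← RingHom.comap_ker, Ideal.mk_ker]
    rw [show Ideal.span {π₁ x₃} = (Ideal.span {x₃}).map π₁ by rw [Ideal.map_span, Set.image_singleton],
      Ideal.comap_map_of_surjective π₁ Ideal.Quotient.mk_surjective, ← RingHom.ker_eq_comap_bot, Ideal.mk_ker,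
      Ideal.span_insert, sup_comm]
  have hP : (Ideal.span {x₂, x₃}).IsPrime := hker ▸ RingHom.ker_isPrime π₂
  have hxnot : x ∉ Ideal.span {x₂, x₃} := by
    rw [← hker, RingHom.mem_ker]
    intro h0
    exact hy' (h0 ▸ zero_mem _)
  have hxsq : x ∉ maximalIdeal R ^ 2 := fun h' => hy' (Ideal.map_pow π₂ (maximalIdeal R) 2 ▸ Ideal.mem_map_of_mem π₂ h')
  have hx₃sq : x₃ ∉ maximalIdeal R ^ 2 := fun h' =>
    hy₃' (hm₁ ▸ Ideal.map_pow π₁ (maximalIdeal R) 2 ▸ Ideal.mem_map_of_mem π₁ h')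
  have h23 : ¬ x₂ ∣ x₃ := fun h' =>
    hy₃' (by rw [Ideal.Quotient.eq_zero_iff_mem.2 (Ideal.mem_span_singleton.2 h')]; exact zero_mem _)
  refine ⟨x, x₂, x₃, hx, hx₂, hx₃, hxsq, prime_of_notMem_sq hx hxsq, prime_of_notMem_sq hx₂ hx₂',
    prime_of_notMem_sq hx₃ hx₃sq, ?_, ?_, h23, ?_, hP, hxnot⟩
  · intro h'
    exact notMem_span_swap hx hx₂' (fun hc => hxnot (Ideal.span_mono (by simp) hc)) (Ideal.mem_span_singleton.2 h')
  · intro h'
    exact notMem_span_swap hx hx₃sq (fun hc => hxnot (Ideal.span_mono (by simp) hc)) (Ideal.mem_span_singleton.2 h')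
  · intro h'
    exact notMem_span_swap hx₃ hx₂' (fun hc => h23 (Ideal.mem_span_singleton.1 hc)) (Ideal.mem_span_singleton.2 h')

/-- the third parameter is regular modulo powers of the other two -/
theorem mem_of_mul_mem_pow {R : Type u} [CommRing R] {x a b : R} (ha : Prime a) (hb : Prime b)
    (hab : ¬ a ∣ b) (hba : ¬ b ∣ a) (hP : (Ideal.span {a, b}).IsPrime) (hx : x ∉ Ideal.span {a, b}) [IsDomain R] :
    ∀ (i j : ℕ) (z : R), x * z ∈ Ideal.span {a ^ i, b ^ j} → z ∈ Ideal.span {a ^ i, b ^ j} := by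
  -- first the case `i = 1`
  have h1 : ∀ (j : ℕ) (z : R), x * z ∈ Ideal.span {a, b ^ j} → z ∈ Ideal.span {a, b ^ j} := by
    intro j
    induction j with
    | zero => intro z _; rw [pow_zero, Ideal.span_insert, Ideal.span_singleton_one, sup_top_eq]; trivial
    | succ j ih =>
      intro z hz
      obtain ⟨c, e, hce⟩ := Ideal.mem_span_pair.1 hz
      obtain ⟨u, v, huv⟩ := Ideal.mem_span_pair.1 (ih z (Ideal.mem_span_pair.2 ⟨c, e * b, by rw [← hce]; ring⟩))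
      have h2 : a ∣ b ^ j * (x * v - e * b) := ⟨c - x * u, by rw [← huv] at hce; linear_combination -hce⟩
      rcases ha.dvd_or_dvd h2 with h3 | h3
      · exact absurd (ha.dvd_of_dvd_pow h3) hab
      · obtain ⟨w, hw⟩ := h3
        have hv := (hP.mem_or_mem (Ideal.mem_span_pair.2 ⟨w, e, by linear_combination -hw⟩ : x * v ∈ Ideal.span {a, b})).resolve_left hx
        obtain ⟨p, q, hpq⟩ := Ideal.mem_span_pair.1 hv
        exact Ideal.mem_span_pair.2 ⟨u + p * b ^ j, q, by rw [← huv, ← hpq]; ring⟩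
  intro i
  induction i with
  | zero => intro j z _; rw [pow_zero, Ideal.span_insert, Ideal.span_singleton_one, top_sup_eq]; trivial
  | succ i ih =>
    intro j z hz
    obtain ⟨c, e, hce⟩ := Ideal.mem_span_pair.1 hz
    obtain ⟨u, v, huv⟩ := Ideal.mem_span_pair.1 (ih j z (Ideal.mem_span_pair.2 ⟨c * a, e, by rw [← hce]; ring⟩))
    have h2 : b ^ j ∣ a ^ i * (x * u - c * a) := ⟨e - x * v, by rw [← huv] at hce; linear_combination -hce⟩
    obtain ⟨w, hw⟩ : b ^ j ∣ x * u - c * a := by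
      refine hb.pow_dvd_of_dvd_mul_left j (fun h3 => hba (hb.dvd_of_dvd_pow h3)) h2
    obtain ⟨p, q, hpq⟩ := Ideal.mem_span_pair.1 (h1 j u (Ideal.mem_span_pair.2 ⟨c, w, by linear_combination -hw⟩))
    exact Ideal.mem_span_pair.2 ⟨p, v + q * a ^ i, by rw [← huv, ← hpq]; ring⟩

end Groth.L13.Purity
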