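import Mathlib.RingTheory.Etale.Locus
import Mathlib.RingTheory.Smooth.Flat
import Mathlib.RingTheory.Localization.BaseChange
import Mathlib.RingTheory.Flat.EquationalCriterion
import Mathlib.Algebra.Module.FinitePresentation

/-! Algebras etale away from an element. -/

set_option autoImplicit false
set_option linter.style.haveILetI false

universe u

open TensorProduct

namespace Groth.L13.Purity

variable {R B : Type u} [CommRing R] [CommRing B] [Algebra R B]

attribute [local instance] Algebra.TensorProduct.rightAlgebra in
theorem etale_away [Algebra.FinitePresentation R B] (f : R)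
    (h : ∀ (P : Ideal B) [P.IsPrime], algebraMap R B f ∉ P → Algebra.IsEtaleAt R P) :
    Algebra.Etale (Localization.Away f) (Localization.Away f ⊗[R] B) := by
  haveI : Algebra.Etale R (Localization.Away (algebraMap R B f)) :=
    (Algebra.basicOpen_subset_etaleLocus_iff_etale).1 fun P hP => h P.asIdeal hP
  haveI : IsLocalization.Away (algebraMap R B f) (Localization.Away f ⊗[R] B) := by
    have h1 : Submonoid.powers (algebraMap R B f) = Algebra.algebraMapSubmonoid B (Submonoid.powers f) := by
      simp [Algebra.algebraMapSubmonoid, Submonoid.map_powers]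
    show IsLocalization (Submonoid.powers (algebraMap R B f)) _
    rw [h1]
    infer_instance
  let e : Localization.Away (algebraMap R B f) ≃ₐ[B] Localization.Away f ⊗[R] B :=
    IsLocalization.algEquiv (Submonoid.powers (algebraMap R B f)) _ _
  haveI : Algebra.Etale R (Localization.Away f ⊗[R] B) := Algebra.Etale.of_equiv (e.restrictScalars R)
  haveI : Algebra.Etale R (Localization.Away f) := Algebra.Etale.of_isLocalizationAway f
  exact Algebra.Etale.of_restrictScalars R _ _

/-- a power of `f` factors through a free module -/
theorem exists_power_split [IsNoetherianRing R] [Module.Finite R B] (f : R)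
    [Algebra.Etale (Localization.Away f) (Localization.Away f ⊗[R] B)] :
    ∃ (N n : ℕ) (i : B →ₗ[R] (Fin n → R)) (p : (Fin n → R) →ₗ[R] B), ∀ z, p (i z) = f ^ N • z := by
  obtain ⟨n, π, hπ⟩ := Module.Finite.exists_fin' R B
  let Rf := Localization.Away f
  haveI : Module.FinitePresentation R B := Module.finitePresentation_of_finite R B
  haveI : Module.Projective Rf (Rf ⊗[R] B) := Module.Flat.projective_of_finitePresentation
  obtain ⟨σ, hσ⟩ := Module.projective_lifting_property (π.baseChange Rf) LinearMap.id
    (LinearMap.lTensor_surjective Rf hπ)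
  let gF : (Fin n → R) →ₗ[R] Rf ⊗[R] (Fin n → R) := TensorProduct.mk R Rf (Fin n → R) 1
  let gB : B →ₗ[R] Rf ⊗[R] B := TensorProduct.mk R Rf B 1
  haveI : IsLocalizedModule (Submonoid.powers f) gF :=
    (isLocalizedModule_iff_isBaseChange (Submonoid.powers f) Rf _).2 (TensorProduct.isBaseChange R (Fin n → R) Rf)
  haveI : IsLocalizedModule (Submonoid.powers f) gB :=
    (isLocalizedModule_iff_isBaseChange (Submonoid.powers f) Rf _).2 (TensorProduct.isBaseChange R B Rf)
  obtain ⟨h, ⟨_, a, rfl⟩, hh⟩ := Module.FinitePresentation.exists_lift_of_isLocalizedModule (Submonoid.powers f) gF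
    ((σ.restrictScalars R).comp gB)
  obtain ⟨⟨_, b, rfl⟩, hb⟩ := Module.Finite.exists_smul_of_comp_eq_of_isLocalizedModule (Submonoid.powers f) gB
    (π.comp h) (f ^ a • LinearMap.id) (by
      ext z
      have h1 : gF (h z) = f ^ a • σ (gB z) := LinearMap.congr_fun hh z
      have h2 := LinearMap.congr_fun hσ (gB z)
      show gB (π (h z)) = gB (f ^ a • z)
      rw [map_smul, show gB (π (h z)) = π.baseChange Rf (gF (h z)) from (LinearMap.baseChange_tmul π 1 (h z)).symm,
        h1, ← LinearMap.coe_restrictScalars R, map_smul, LinearMap.coe_restrictScalars]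
      exact congrArg (f ^ a • ·) h2)
  refine ⟨b + a, n, h, f ^ b • π, fun z => ?_⟩
  rw [LinearMap.smul_apply, pow_add, mul_smul]
  exact LinearMap.congr_fun hb z

end Groth.L13.Purity
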