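import Groth.Agent.L13.Purity.Global
import Mathlib.AlgebraicGeometry.Noetherian
import Mathlib.AlgebraicGeometry.Morphisms.Etale
import Mathlib.AlgebraicGeometry.Morphisms.Finite
import Mathlib.AlgebraicGeometry.Normalization
import Mathlib.AlgebraicGeometry.Properties

/-! Normalisation of finite etale covers of big opens of regular schemes. -/

set_option autoImplicit false
set_option linter.style.haveILetI false
set_option backward.isDefEq.respectTransparency.types false

universe u

open TensorProduct CategoryTheory CategoryTheory.Limits AlgebraicGeometry Opposite TopologicalSpace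

namespace Groth.L13.Purity

theorem hyps_of_isLocalization {R T A C : Type u} [CommRing R] [CommRing T] [CommRing A] [CommRing C]
    [Algebra R T] [Algebra R A] [Algebra A C] [Algebra R C] [Algebra T C] [IsScalarTower R A C] [IsScalarTower R T C]
    (f : R) [IsLocalization.Away f A] [IsLocalization.Away (algebraMap R T f) C] [Algebra.Etale A C] [Module.Finite A C] :
    Algebra.Etale (Localization.Away f) (Localization.Away f ⊗[R] T) ∧
      Module.Finite (Localization.Away f) (Localization.Away f ⊗[R] T) := by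
  let Rf := Localization.Away f
  letI : Algebra T (Rf ⊗[R] T) := Algebra.TensorProduct.rightAlgebra
  haveI : IsLocalization.Away (algebraMap R T f) (Rf ⊗[R] T) := by
    have h1 : Submonoid.powers (algebraMap R T f) = Algebra.algebraMapSubmonoid T (Submonoid.powers f) := by
      simp [Algebra.algebraMapSubmonoid, Submonoid.map_powers]
    show IsLocalization (Submonoid.powers (algebraMap R T f)) _
    rw [h1]
    infer_instance
  let e : C ≃ₐ[R] Rf ⊗[R] T :=
    (IsLocalization.algEquiv (Submonoid.powers (algebraMap R T f)) C (Rf ⊗[R] T)).restrictScalars R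
  haveI : Algebra.Etale R A := Algebra.Etale.of_isLocalizationAway f
  haveI : Algebra.Etale R C := Algebra.Etale.comp R A C
  haveI : Algebra.Etale R (Rf ⊗[R] T) := Algebra.Etale.of_equiv e
  haveI : Algebra.Etale R Rf := Algebra.Etale.of_isLocalizationAway f
  refine ⟨Algebra.Etale.of_restrictScalars R _ _, ?_⟩
  let a : Rf ≃ₐ[R] A := IsLocalization.algEquiv (Submonoid.powers f) Rf A
  letI : Algebra Rf A := a.toAlgHom.toRingHom.toAlgebra
  letI : Algebra Rf C := ((algebraMap A C).comp a.toAlgHom.toRingHom).toAlgebra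
  haveI : IsScalarTower Rf A C := IsScalarTower.of_algebraMap_eq fun r => rfl
  haveI : Module.Finite Rf A := Module.Finite.of_surjective (Algebra.linearMap Rf A) a.surjective
  haveI : Module.Finite Rf C := Module.Finite.trans A C
  haveI : IsScalarTower R Rf C := IsScalarTower.of_algebraMap_eq fun r => by
    show _ = algebraMap A C (a (algebraMap R Rf r))
    rw [AlgEquiv.commutes, ← IsScalarTower.algebraMap_apply]
  exact Module.Finite.equiv
    (LinearEquiv.extendScalarsOfIsLocalization (Submonoid.powers f) Rf e.toLinearEquiv)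

/-- every point has an affine neighbourhood with integral coordinate ring -/
theorem exists_isDomain_nhd {X : Scheme.{u}} [IsLocallyNoetherian X] (x : X) [IsDomain (X.presheaf.stalk x)] :
    ∃ D : X.Opens, IsAffineOpen D ∧ x ∈ D ∧ IsDomain Γ(X, D) := by
  obtain ⟨_, ⟨(D : X.Opens), hD, rfl⟩, hxD, -⟩ :=
    X.isBasis_affineOpens.exists_subset_of_mem_open (Set.mem_univ x) isOpen_univ
  haveI : IsNoetherianRing Γ(X, D) := IsLocallyNoetherian.component_noetherian ⟨D, hD⟩
  letI : Algebra Γ(X, D) (X.presheaf.stalk x) := TopCat.Presheaf.algebra_section_stalk X.presheaf ⟨x, hxD⟩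
  haveI := hD.isLocalization_stalk ⟨x, hxD⟩
  let p := (hD.primeIdealOf ⟨x, hxD⟩).asIdeal
  obtain ⟨s, hs, hker⟩ : ∃ s ∉ p, ∀ a ∈ RingHom.ker (algebraMap Γ(X, D) (X.presheaf.stalk x)), s * a = 0 := by
    obtain ⟨G, hG⟩ := Ideal.fg_of_isNoetherianRing (RingHom.ker (algebraMap Γ(X, D) (X.presheaf.stalk x)))
    have h1 : ∀ a : G, ∃ s : p.primeCompl, (s : Γ(X, D)) * a = 0 := fun a =>
      (IsLocalization.map_eq_zero_iff p.primeCompl (X.presheaf.stalk x) _).1
        (RingHom.mem_ker.1 (hG ▸ Ideal.subset_span a.2))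
    choose s hs using h1
    refine ⟨_, (∏ a, s a).2, fun a ha => ?_⟩
    rw [← hG] at ha
    induction ha using Submodule.span_induction with
    | mem a ha =>
      obtain ⟨c, hc⟩ := Finset.dvd_prod_of_mem s (Finset.mem_univ (⟨a, ha⟩ : G))
      rw [hc, Submonoid.coe_mul, mul_right_comm, hs ⟨a, ha⟩, zero_mul]
    | zero => rw [mul_zero]
    | add a b _ _ ha hb => rw [mul_add, ha, hb, add_zero]
    | smul r a _ ha => rw [smul_eq_mul, mul_left_comm, ha, mul_zero]
  have hxs : x ∈ X.basicOpen s := (X.mem_basicOpen s x hxD).2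
    (IsLocalization.map_units (X.presheaf.stalk x) (⟨s, hs⟩ : p.primeCompl))
  refine ⟨X.basicOpen s, hD.basicOpen s, hxs, ?_⟩
  haveI : IsLocalization.Away s Γ(X, X.basicOpen s) := hD.isLocalization_basicOpen s
  have hcomp : ∀ a, (X.presheaf.germ (X.basicOpen s) x hxs).hom (algebraMap Γ(X, D) Γ(X, X.basicOpen s) a) =
      algebraMap Γ(X, D) (X.presheaf.stalk x) a := fun a =>
    X.presheaf.germ_res_apply (homOfLE (X.basicOpen_le s)) x hxs a
  have hinj : Function.Injective (X.presheaf.germ (X.basicOpen s) x hxs).hom := by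
    rw [injective_iff_map_eq_zero]
    intro y hy
    obtain ⟨⟨a, t⟩, hat⟩ := IsLocalization.surj (Submonoid.powers s) y
    have h1 := congrArg (X.presheaf.germ (X.basicOpen s) x hxs).hom hat
    rw [map_mul, hy, zero_mul, hcomp] at h1
    have h2 : algebraMap Γ(X, D) Γ(X, X.basicOpen s) a = 0 :=
      (IsLocalization.map_eq_zero_iff (Submonoid.powers s) _ _).2 ⟨⟨s, 1, pow_one s⟩, hker a h1.symm⟩
    rw [h2] at hat
    exact (IsLocalization.map_units _ t).mul_left_eq_zero.1 hat
  exact hinj.isDomain _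

variable {X : Scheme.{u}} [IsNoetherian X]

omit [AlgebraicGeometry.IsNoetherian X] in
theorem morphismRestrict_appTop_of {Y : Scheme.{u}} (P : ∀ {R S : Type u} [CommRing R] [CommRing S], (R →+* S) → Prop)
    (f : Y ⟶ X) (U : X.Opens) (h : P (f.app U).hom) : P (f ∣_ U).appTop.hom := by
  rw [Scheme.Hom.appTop, morphismRestrict_app']
  refine (f.appLE_congr _ (Scheme.Opens.ι_image_top U).symm ?_ (fun {R S} φ => P φ.hom)).1
    (show P (f.appLE U (f ⁻¹ᵁ U) le_rfl).hom by rwa [← Scheme.Hom.app_eq_appLE])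
  simp

theorem isLocalizationAway_preimage {V : Scheme.{u}} [IsNoetherian V] {O W : V.Opens} (s : Γ(V, O))
    (hW : W = V.basicOpen s) (hWO : W ≤ O) :
    letI := (V.presheaf.map (homOfLE hWO).op).hom.toAlgebra
    IsLocalization.Away s Γ(V, W) := by
  subst hW
  exact isLocalization_basicOpen_of_qcqs (IsNoetherian.noetherianSpace.isCompact _)
    ((isQuasiSeparated_univ_iff.2 inferInstance).of_subset (Set.subset_univ _)) s

set_option maxHeartbeats 2000000 in
/-- the normalisation of `X` in a finite etale cover of a big open is finite etale over a regular affine chart -/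
theorem finite_etale_integralClosure (hreg : ∀ x : X, IsRegularLocalRing (X.presheaf.stalk x)) (U : X.Opens)
    (hU : ∀ x : X, x ∉ U → (2 : WithBot ℕ∞) ≤ ringKrullDim (X.presheaf.stalk x))
    {V : Scheme.{u}} (h : V ⟶ U) [IsFinite h] [Etale h] {D : X.Opens} (hD : IsAffineOpen D) [IsDomain Γ(X, D)] :
    letI := ((h ≫ U.ι).app D).hom.toAlgebra
    Algebra.Etale Γ(X, D) (integralClosure Γ(X, D) Γ(V, (h ≫ U.ι) ⁻¹ᵁ D)) ∧
      Module.Finite Γ(X, D) (integralClosure Γ(X, D) Γ(V, (h ≫ U.ι) ⁻¹ᵁ D)) := by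
  let g := h ≫ U.ι
  letI := (g.app D).hom.toAlgebra
  haveI : CompactSpace U := isCompact_iff_compactSpace.1 (NoetherianSpace.isCompact (U : Set X))
  haveI : IsNoetherian (U : Scheme.{u}) := {}
  haveI : IsLocallyNoetherian V := LocallyOfFiniteType.isLocallyNoetherian h
  haveI : CompactSpace V := QuasiCompact.compactSpace_of_compactSpace h
  haveI : IsNoetherian V := {}
  haveI : IsNoetherianRing Γ(X, D) := IsLocallyNoetherian.component_noetherian ⟨D, hD⟩
  let R := Γ(X, D)
  let T := Γ(V, g ⁻¹ᵁ D)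
  -- a finite cover of the big open
  obtain ⟨σ₀, hσ₀fin, hσ₀le, hσ₀cov⟩ : ∃ σ₀ : Set R, σ₀.Finite ∧ (∀ f ∈ σ₀, X.basicOpen f ≤ U ∧ f ≠ 0) ∧
      ((D ⊓ U : X.Opens) : Set X) ⊆ ⋃ f ∈ σ₀, (X.basicOpen f : Set X) := by
    have hc : IsCompact ((D ⊓ U : X.Opens) : Set X) := NoetherianSpace.isCompact _
    obtain ⟨b, hb, hbfin, hbcov⟩ := hc.elim_finite_subcover_image (b := {f : R | X.basicOpen f ≤ U ∧ f ≠ 0})
      (c := fun f => (X.basicOpen f : Set X)) (fun f _ => (X.basicOpen f).2) fun x hx => by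
        obtain ⟨f, hf, hxf⟩ := hD.exists_basicOpen_le ⟨x, hx.2⟩ hx.1
        refine Set.mem_iUnion₂.2 ⟨f, ⟨hf, ?_⟩, hxf⟩
        rintro rfl
        rw [Scheme.basicOpen_zero] at hxf
        exact hxf
    exact ⟨b, hbfin, hb, hbcov⟩
  haveI : Finite σ₀ := hσ₀fin.to_subtype
  let f : σ₀ → R := Subtype.val
  have hle : ∀ i, X.basicOpen (f i) ≤ U := fun i => (hσ₀le _ i.2).1
  have hne : ∀ i, f i ≠ 0 := fun i => (hσ₀le _ i.2).2
  -- local data
  let W : σ₀ → V.Opens := fun i => g ⁻¹ᵁ X.basicOpen (f i)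
  have hWO : ∀ i, W i ≤ g ⁻¹ᵁ D := fun i => g.preimage_mono (X.basicOpen_le _)
  have hWcov : g ⁻¹ᵁ D ≤ iSup W := fun v hv => by
    obtain ⟨a, ha, hav⟩ := Set.mem_iUnion₂.1 (hσ₀cov (show g v ∈ ((D ⊓ U : X.Opens) : Set X) from ⟨hv, (h v).2⟩))
    exact Opens.mem_iSup.2 ⟨⟨a, ha⟩, hav⟩
  have hWeq : ∀ i, W i = V.basicOpen (g.app D (f i)) := fun i => g.preimage_basicOpen (f i)
  let ρ : ∀ i, T →+* Γ(V, W i) := fun i => (V.presheaf.map (homOfLE (hWO i)).op).hom
  have hrf : ∀ i, IsUnit (ρ i (algebraMap R T (f i))) := by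
    intro i
    letI := (ρ i).toAlgebra
    haveI : IsLocalization.Away (algebraMap R T (f i)) Γ(V, W i) :=
      isLocalizationAway_preimage _ (hWeq i) (hWO i)
    exact IsLocalization.Away.algebraMap_isUnit (algebraMap R T (f i))
  have key : ∀ i, (Algebra.Etale (Localization.Away (f i)) (Localization.Away (f i) ⊗[R] T) ∧
      Module.Finite (Localization.Away (f i)) (Localization.Away (f i) ⊗[R] T)) ∧
      ∀ r : R, r ≠ 0 → ∀ y : Γ(V, W i), ρ i (algebraMap R T r) * y = 0 → y = 0 := by
    intro i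
    let A := Γ(X, X.basicOpen (f i))
    let C := Γ(V, W i)
    let φ : A ⟶ C := g.app (X.basicOpen (f i))
    haveI : IsLocalization.Away (f i) A := hD.isLocalization_basicOpen (f i)
    letI : Algebra A C := φ.hom.toAlgebra
    letI : Algebra T C := (ρ i).toAlgebra
    letI : Algebra R C := ((ρ i).comp (algebraMap R T)).toAlgebra
    haveI : IsScalarTower R T C := IsScalarTower.of_algebraMap_eq fun r => rfl
    haveI : IsScalarTower R A C := IsScalarTower.of_algebraMap_eq fun r =>
      (ConcreteCategory.congr_hom (g.naturality (homOfLE (X.basicOpen_le (f i))).op) r).symm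
    haveI : IsLocalization.Away (algebraMap R T (f i)) C := isLocalizationAway_preimage _ (hWeq i) (hWO i)
    haveI : IsIso (U.ι.app (X.basicOpen (f i))) := U.ι.isIso_app _ (by simpa using hle i)
    have haff : IsAffineOpen (U.ι ⁻¹ᵁ X.basicOpen (f i)) :=
      (hD.basicOpen (f i)).preimage_of_isOpenImmersion U.ι (by simpa using hle i)
    have hφ : φ = U.ι.app (X.basicOpen (f i)) ≫ h.app (U.ι ⁻¹ᵁ X.basicOpen (f i)) := Scheme.Hom.comp_app h U.ι _
    have hbij := (ConcreteCategory.isIso_iff_bijective (U.ι.app (X.basicOpen (f i)))).1 inferInstance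
    haveI : Algebra.Etale A C := by
      rw [← RingHom.etale_algebraMap]
      show φ.hom.Etale
      rw [hφ]
      erw [CommRingCat.hom_comp]
      refine RingHom.Etale.stableUnderComposition _ _ (RingHom.Etale.of_bijective hbij) ?_
      have := HasRingHomProperty.appLE @Etale h inferInstance ⟨_, haff⟩ ⟨_, haff.preimage h⟩ le_rfl
      rwa [Scheme.Hom.app_eq_appLE]
    haveI : Module.Finite A C := by
      rw [← RingHom.finite_algebraMap]
      show φ.hom.Finite
      rw [hφ]
      erw [CommRingCat.hom_comp]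
      exact RingHom.Finite.comp (h.finite_app _ haff) (RingHom.Finite.of_surjective _ hbij.2)
    refine ⟨hyps_of_isLocalization (C := C) (A := A) (f i), fun r hr y hy => ?_⟩
    haveI : Module.Flat R A := IsLocalization.flat A (Submonoid.powers (f i))
    haveI : Module.Flat R C := Module.Flat.trans R A C
    have h0 : algebraMap R C r * y = 0 := hy
    rw [← Algebra.smul_def] at h0
    exact (Module.Flat.isSMulRegular_of_nonZeroDivisors (mem_nonZeroDivisors_of_ne_zero hr)).right_eq_zero_of_smul h0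
  haveI : Module.IsTorsionFree R T := by
    refine Module.isTorsionFree_iff_smul_eq_zero.2 fun r t hrt => ?_
    by_cases hr : r = 0
    · exact Or.inl hr
    refine Or.inr (TopCat.Sheaf.eq_of_locally_eq' V.sheaf W (g ⁻¹ᵁ D) (fun i => homOfLE (hWO i)) hWcov t 0 fun i => ?_)
    have h0 : ρ i (algebraMap R T r) * ρ i t = 0 := by rw [← map_mul, ← Algebra.smul_def, hrt, map_zero]
    exact ((key i).2 r hr _ h0).trans (map_zero (ρ i)).symm
  refine purity_global (R := R) (T := T) (fun p hp => ?_) f hne (fun p hp hp1 => ?_) (fun i => (key i).1.1)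
    (fun i => (key i).1.2) fun n t ht => ?_
  · let y : PrimeSpectrum R := ⟨p, hp⟩
    have hy : hD.fromSpec y ∈ D := hD.range_fromSpec.subset ⟨y, rfl⟩
    letI := TopCat.Presheaf.algebra_section_stalk X.presheaf ⟨hD.fromSpec y, hy⟩
    haveI : IsLocalization.AtPrime (X.presheaf.stalk (hD.fromSpec y)) p := hD.isLocalization_stalk' y hy
    haveI := hreg (hD.fromSpec y)
    exact IsRegularLocalRing.of_ringEquiv
      (IsLocalization.algEquiv p.primeCompl (X.presheaf.stalk (hD.fromSpec y)) (Localization.AtPrime p)).toRingEquiv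
  · let y : PrimeSpectrum R := ⟨p, hp⟩
    have hy : hD.fromSpec y ∈ D := hD.range_fromSpec.subset ⟨y, rfl⟩
    letI := TopCat.Presheaf.algebra_section_stalk X.presheaf ⟨hD.fromSpec y, hy⟩
    haveI : IsLocalization.AtPrime (X.presheaf.stalk (hD.fromSpec y)) p := hD.isLocalization_stalk' y hy
    have hyU : hD.fromSpec y ∈ U := by
      by_contra hn
      have h2 := hU _ hn
      rw [IsLocalization.AtPrime.ringKrullDim_eq_height p (X.presheaf.stalk (hD.fromSpec y))] at h2
      exact absurd (h2.trans (WithBot.coe_le_coe.2 hp1)) (by decide)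
    obtain ⟨a, ha, hay⟩ := Set.mem_iUnion₂.1 (hσ₀cov (show hD.fromSpec y ∈ ((D ⊓ U : X.Opens) : Set X) from ⟨hy, hyU⟩))
    refine ⟨⟨a, ha⟩, fun hap => ?_⟩
    have hu := (X.mem_basicOpen a _ hy).1 hay
    exact IsLocalization.AtPrime.isUnit_to_map_iff (X.presheaf.stalk (hD.fromSpec y)) p a |>.1 hu hap
  · choose v hv using fun i => (hrf i).pow n
    let s : ∀ i, Γ(V, W i) := fun i => ↑(v i)⁻¹ * ρ i (t i)
    have hcompat : TopCat.Presheaf.IsCompatible V.presheaf W s := by
      intro i j
      let a := (V.presheaf.map (Opens.infLELeft (W i) (W j)).op).hom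
      let b := (V.presheaf.map (Opens.infLERight (W i) (W j)).op).hom
      have hab : ∀ z, a (ρ i z) = b (ρ j z) := fun z =>
        (ConcreteCategory.congr_hom (V.presheaf.map_comp (homOfLE (hWO i)).op (Opens.infLELeft (W i) (W j)).op) z).symm.trans
          (ConcreteCategory.congr_hom (V.presheaf.map_comp (homOfLE (hWO j)).op (Opens.infLERight (W i) (W j)).op) z)
      have h1 : algebraMap R T (f j) ^ n * t i = algebraMap R T (f i) ^ n * t j := by
        rw [← map_pow, ← map_pow, ← Algebra.smul_def, ← Algebra.smul_def, ht i j]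
      show a (↑(v i)⁻¹ * ρ i (t i)) = b (↑(v j)⁻¹ * ρ j (t j))
      have h2 : a (ρ i (algebraMap R T (f i) ^ n)) * a ↑(v i)⁻¹ = 1 := by
        rw [map_pow, ← hv i, ← map_mul, Units.mul_inv, map_one]
      have h3 : b (ρ j (algebraMap R T (f j) ^ n)) * b ↑(v j)⁻¹ = 1 := by
        rw [map_pow, ← hv j, ← map_mul, Units.mul_inv, map_one]
      rw [map_mul, map_mul]
      have h4 := congrArg (fun z => a (ρ i z)) h1
      simp only [map_mul] at h4
      rw [hab (algebraMap R T (f j) ^ n)] at h4
      rw [hab (t j)] at h4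
      linear_combination (a ↑(v i)⁻¹ * b ↑(v j)⁻¹) * h4 + (b ↑(v j)⁻¹ * b (ρ j (t j))) * h2 -
        (a ↑(v i)⁻¹ * a (ρ i (t i))) * h3
    obtain ⟨(s₀ : T), hs₀, -⟩ := TopCat.Sheaf.existsUnique_gluing' V.sheaf W (g ⁻¹ᵁ D) (fun i => homOfLE (hWO i)) hWcov s hcompat
    refine ⟨s₀, fun i => TopCat.Sheaf.eq_of_locally_eq' V.sheaf W (g ⁻¹ᵁ D) (fun j => homOfLE (hWO j)) hWcov _ _ fun j => ?_⟩
    show ρ j (f i ^ n • s₀) = ρ j (t i)
    have hs : ρ j s₀ = ↑(v j)⁻¹ * ρ j (t j) := hs₀ j
    have h2 : ρ j (algebraMap R T (f j) ^ n) * ↑(v j)⁻¹ = 1 := by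
      rw [map_pow, ← hv j, Units.mul_inv]
    have h4 : ρ j (algebraMap R T (f j) ^ n) * ρ j (t i) = ρ j (algebraMap R T (f i) ^ n) * ρ j (t j) := by
      rw [← map_mul, ← map_mul]
      congr 1
      rw [← map_pow, ← map_pow, ← Algebra.smul_def, ← Algebra.smul_def, ht i j]
    rw [Algebra.smul_def, map_mul, map_pow, hs]
    linear_combination -(↑(v j)⁻¹ : Γ(V, W j)) * h4 + ρ j (t i) * h2

/-- the normalisation of a regular scheme in a finite etale cover of a big open is finite etale -/
theorem finite_etale_fromNormalization (hreg : ∀ x : X, IsRegularLocalRing (X.presheaf.stalk x)) (U : X.Opens)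
    (hU : ∀ x : X, x ∉ U → (2 : WithBot ℕ∞) ≤ ringKrullDim (X.presheaf.stalk x))
    {V : Scheme.{u}} (h : V ⟶ U) [IsFinite h] [Etale h] [QuasiCompact (h ≫ U.ι)] :
    IsFinite (h ≫ U.ι).fromNormalization ∧ Etale (h ≫ U.ι).fromNormalization := by
  haveI := fun x : X => (haveI := hreg x; Groth.L01.isDomain_of_regular (X.presheaf.stalk x))
  choose D hD hxD hdom using fun x : X => exists_isDomain_nhd x
  have hcov : ⨆ x, D x = ⊤ := top_le_iff.1 fun x _ => Opens.mem_iSup.2 ⟨x, hxD x⟩
  let g := h ≫ U.ι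
  have happ : ∀ x, (g.fromNormalization.app (D x)).hom.Finite ∧ (g.fromNormalization.app (D x)).hom.Etale := by
    intro x
    haveI := hdom x
    letI := (g.app (D x)).hom.toAlgebra
    obtain ⟨h1, h2⟩ := finite_etale_integralClosure hreg U hU h (hD x)
    have hb := (ConcreteCategory.isIso_iff_bijective (g.normalizationObjIso (hD x)).inv).1 inferInstance
    rw [Scheme.Hom.fromNormalization_app g (hD x), CommRingCat.hom_comp]
    exact ⟨(RingHom.Finite.of_surjective _ hb.2).comp (RingHom.finite_algebraMap.2 h2),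
      RingHom.Etale.stableUnderComposition _ _ (RingHom.etale_algebraMap.2 h1) (RingHom.Etale.of_bijective hb)⟩
  constructor
  · rw [HasAffineProperty.iff_of_iSup_eq_top (P := @IsFinite) (fun x => (⟨D x, hD x⟩ : X.affineOpens)) hcov]
    exact fun x => ⟨(hD x).preimage g.fromNormalization, morphismRestrict_appTop_of RingHom.Finite _ _ (happ x).1⟩
  · rw [IsZariskiLocalAtTarget.iff_of_iSup_eq_top (P := @Etale) D hcov]
    intro x
    haveI : IsAffine (D x : Scheme.{u}) := hD x
    haveI : IsAffine (g.fromNormalization ⁻¹ᵁ D x : Scheme.{u}) := (hD x).preimage g.fromNormalization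
    rw [HasRingHomProperty.iff_of_isAffine (P := @Etale)]
    exact morphismRestrict_appTop_of RingHom.Etale _ _ (happ x).2

end Groth.L13.Purity
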