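import Mathlib.RingTheory.Spectrum.Prime.FreeLocus
import Mathlib.RingTheory.Kaehler.TensorProduct
import Mathlib.RingTheory.Etale.Basic
import Mathlib.RingTheory.Etale.Locus
import Mathlib.RingTheory.Smooth.Flat
import Mathlib.RingTheory.TensorProduct.Free
import Mathlib.RingTheory.Localization.BaseChange
import Mathlib.RingTheory.RingHom.Etale

/-! A finite model near a prime of a finite algebra over the local ring glued with an algebra. -/

set_option autoImplicit false
set_option linter.style.haveILetI false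
set_option backward.isDefEq.respectTransparency.types false

universe u

open TensorProduct

namespace Groth.L13.Purity.SpreadAlg

theorem exists_etale_away {R S : Type u} [CommRing R] [IsNoetherianRing R] [CommRing S] [Algebra R S]
    [Module.Finite R S] (p : Ideal R) [p.IsPrime]
    [Algebra.Etale (Localization.AtPrime p) (Localization.AtPrime p ⊗[R] S)] :
    ∃ g ∉ p, Algebra.Etale (Localization.Away g) (Localization.Away g ⊗[R] S) := by
  let Rp := Localization.AtPrime p
  haveI : Module.FinitePresentation R S := Module.finitePresentation_of_finite R S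
  haveI : Module.Free Rp (Rp ⊗[R] S) := Module.free_of_flat_of_isLocalRing
  have hp : (⟨p, ‹_›⟩ : PrimeSpectrum R) ∈ Module.freeLocus R S :=
    (Module.mem_freeLocus_iff_tensor (⟨p, ‹_›⟩ : PrimeSpectrum R) Rp).2 inferInstance
  obtain ⟨_, ⟨g1, rfl⟩, hg1, hsub⟩ :=
    PrimeSpectrum.isTopologicalBasis_basic_opens.exists_subset_of_mem_open hp Module.isOpen_freeLocus
  haveI hfin : Module.Finite R Ω[S⁄R] := Module.Finite.trans S Ω[S⁄R]
  letI : Algebra S (Rp ⊗[R] S) := Algebra.TensorProduct.rightAlgebra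
  have hsub0 : Subsingleton (Rp ⊗[R] Ω[S⁄R]) :=
    (KaehlerDifferential.tensorKaehlerEquivBase R Rp S (Rp ⊗[R] S)).toEquiv.subsingleton
  have hnot : (⟨p, ‹_›⟩ : PrimeSpectrum R) ∉ Module.support R Ω[S⁄R] := by
    rw [Module.notMem_support_iff]
    exact (IsLocalizedModule.linearEquiv p.primeCompl (TensorProduct.mk R Rp Ω[S⁄R] 1)
      (LocalizedModule.mkLinearMap p.primeCompl Ω[S⁄R])).symm.toEquiv.subsingleton
  rw [Module.notMem_support_iff'] at hnot
  classical
  obtain ⟨G, hG⟩ := hfin.fg_top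
  choose a ha hax using fun m : Ω[S⁄R] => hnot m
  let g2 := ∏ m ∈ G, a m
  refine ⟨g1 * g2, ?_, ?_⟩
  · refine fun h => ((‹p.IsPrime›.mem_or_mem h).elim hg1 fun h => ?_)
    obtain ⟨m, -, hm⟩ := Ideal.IsPrime.prod_mem_iff.1 h
    exact ha m hm
  · let g := g1 * g2
    let Rg := Localization.Away g
    have hg : (PrimeSpectrum.basicOpen g : Set (PrimeSpectrum R)) ⊆ Module.freeLocus R S :=
      fun q hq => hsub (PrimeSpectrum.basicOpen_mul_le_left g1 g2 hq)
    haveI : Module.Flat Rg (Rg ⊗[R] S) := by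
      haveI : Module.Projective Rg (LocalizedModule.Away g S) :=
        Module.basicOpen_subset_freeLocus_iff.1 hg
      haveI : Module.Flat Rg (LocalizedModule.Away g S) := inferInstance
      exact Module.Flat.of_linearEquiv (LocalizedModule.equivTensorProduct (.powers g) S).symm
    haveI : Algebra.FormallyUnramified Rg (Rg ⊗[R] S) := by
      letI : Algebra S (Rg ⊗[R] S) := Algebra.TensorProduct.rightAlgebra
      refine ⟨?_⟩
      haveI : Subsingleton (Rg ⊗[R] Ω[S⁄R]) := by
        have hz : ∀ m : Ω[S⁄R], g2 • m = 0 := fun m => by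
          have hm : m ∈ Submodule.span R (G : Set Ω[S⁄R]) := hG ▸ trivial
          induction hm using Submodule.span_induction with
          | mem x hx =>
            rw [show g2 = (∏ y ∈ G.erase x, a y) * a x from (Finset.prod_erase_mul _ _ hx).symm,
              mul_smul, hax, smul_zero]
          | zero => simp
          | add x y _ _ hx hy => rw [smul_add, hx, hy, add_zero]
          | smul r x _ hx => rw [smul_comm, hx, smul_zero]
        refine subsingleton_of_forall_eq 0 fun z => ?_
        induction z using TensorProduct.induction_on with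
        | zero => rfl
        | tmul r m =>
          obtain ⟨u, hu⟩ := isUnit_of_dvd_unit
            (map_dvd (algebraMap R Rg) (Dvd.intro_left g1 rfl : g2 ∣ g)) (IsLocalization.Away.algebraMap_isUnit g)
          have : r = g2 • (↑u⁻¹ * r : Rg) := by
            rw [Algebra.smul_def, ← hu, ← mul_assoc, Units.mul_inv, one_mul]
          rw [this, TensorProduct.smul_tmul, hz, TensorProduct.tmul_zero]
        | add x y hx hy => rw [hx, hy, add_zero]
      exact (KaehlerDifferential.tensorKaehlerEquivBase R Rg S (Rg ⊗[R] S)).symm.toEquiv.subsingleton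
    haveI : IsNoetherianRing Rg := IsLocalization.isNoetherianRing (.powers g) Rg inferInstance
    haveI : Algebra.FinitePresentation Rg (Rg ⊗[R] S) :=
      (Algebra.FinitePresentation.of_finiteType (R := Rg) (A := Rg ⊗[R] S)).1 inferInstance
    exact Algebra.Etale.of_formallyUnramified_of_flat

theorem exists_model {R C Cp B : Type u} [CommRing R] [IsNoetherianRing R] (p : Ideal R) [p.IsPrime]
    [CommRing C] [Algebra R C] [CommRing Cp] [Algebra R Cp] [Algebra C Cp] [IsScalarTower R C Cp]
    [IsLocalization (Algebra.algebraMapSubmonoid C p.primeCompl) Cp]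
    [CommRing B] [Algebra R B] [Algebra (Localization.AtPrime p) B] [IsScalarTower R (Localization.AtPrime p) B]
    [Module.Finite (Localization.AtPrime p) B] [Algebra.Etale (Localization.AtPrime p) B]
    (ρ : B →ₐ[R] Cp) (s : Finset R)
    (hsurj : ∀ h ∈ s, ∀ c : Cp, ∃ n : ℕ, ∃ b : B, ρ b = h ^ n • c)
    (hinj : ∀ h ∈ s, ∀ b : B, ρ b = 0 → ∃ n : ℕ, h ^ n • b = 0)
    (hC : ∀ h ∈ s, ∃ t : Finset C, ∀ c : C, ∃ n : ℕ, h ^ n • c ∈ Submodule.span R (t : Set C)) :
    ∃ (g : R) (_ : g ∉ p) (S : Type u) (_ : CommRing S) (_ : Algebra R S) (φ : S →ₐ[R] C),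
      Module.Finite R S ∧ Algebra.Etale (Localization.Away g) (Localization.Away g ⊗[R] S) ∧
      ∀ h ∈ s, (∀ c : C, ∃ n : ℕ, ∃ x : S, φ x = (g * h) ^ n • c) ∧
        ∀ x : S, φ x = 0 → ∃ n : ℕ, (g * h) ^ n • x = 0 := by
  classical
  let Rp := Localization.AtPrime p
  let M : Subalgebra R (C × B) := AlgHom.equalizer
    ((IsScalarTower.toAlgHom R C Cp).comp (AlgHom.fst R C B)) (ρ.comp (AlgHom.snd R C B))
  have hM : ∀ z : C × B, z ∈ M ↔ algebraMap C Cp z.1 = ρ z.2 := fun z => Iff.rfl
  have hkill : ∀ z ∈ M, z.2 = 0 → ∃ a ∉ p, a • z = 0 := by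
    intro z hz h0
    obtain ⟨⟨_, a, ha, rfl⟩, h1⟩ := (IsLocalization.map_eq_zero_iff (Algebra.algebraMapSubmonoid C p.primeCompl) Cp z.1).1
      (by rw [(hM z).1 hz, h0, map_zero])
    refine ⟨a, ha, Prod.ext ?_ ?_⟩
    · simpa [Algebra.smul_def] using h1
    · simp [h0]
  have hliftp : ∀ b : B, ∃ a ∉ p, ∃ z ∈ M, z.2 = a • b := by
    intro b
    obtain ⟨⟨c, ⟨_, a, ha, rfl⟩⟩, h1⟩ := IsLocalization.surj (Algebra.algebraMapSubmonoid C p.primeCompl) (ρ b)
    refine ⟨a, ha, (c, a • b), (hM _).2 ?_, rfl⟩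
    change algebraMap C Cp c = ρ (a • b)
    rw [map_smul, Algebra.smul_def, IsScalarTower.algebraMap_apply R C Cp, mul_comm]
    exact h1.symm
  obtain ⟨Bs, hBs⟩ := (Module.Finite.fg_top : (⊤ : Submodule Rp B).FG)
  choose ap hap zp hzp hzp2 using hliftp
  have hlifth : ∀ h ∈ s, ∀ c : C, ∃ n : ℕ, ∃ z ∈ M, z.1 = h ^ n • c := by
    intro h hh c
    obtain ⟨n, b, hb⟩ := hsurj h hh (algebraMap C Cp c)
    refine ⟨n, (h ^ n • c, b), (hM _).2 ?_, rfl⟩
    rw [hb]
    exact map_smul (IsScalarTower.toAlgHom R C Cp) _ _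
  choose nh zh hzh hzh1 using hlifth
  choose t ht using hC
  let G : Finset (C × B) := insert 1 (Bs.image zp ∪ s.attach.biUnion fun h => (t h.1 h.2).image (zh h.1 h.2))
  let N : Submodule R (C × B) := Submodule.span R G
  have hGM : ∀ z ∈ G, z ∈ M := by
    intro z hz
    simp only [G, Finset.mem_insert, Finset.mem_union, Finset.mem_image, Finset.mem_biUnion,
      Finset.mem_attach, true_and, Subtype.exists] at hz
    rcases hz with rfl | ⟨b, -, rfl⟩ | ⟨h, hh, c, -, rfl⟩
    · exact M.one_mem
    · exact hzp b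
    · exact hzh h hh c
  have hNM : N ≤ M.toSubmodule := Submodule.span_le.2 hGM
  have hNp : ∀ b : B, ∃ a ∉ p, ∃ z ∈ N, z.2 = a • b := by
    intro b
    have hb : b ∈ Submodule.span Rp (Bs : Set B) := hBs ▸ trivial
    induction hb using Submodule.span_induction with
    | mem x hx => exact ⟨ap x, hap x, zp x, Submodule.subset_span (by
        simp only [G, Finset.coe_insert, Set.mem_insert_iff, Finset.mem_coe, Finset.mem_union, Finset.mem_image]
        exact Or.inr (Or.inl ⟨x, hx, rfl⟩)), hzp2 x⟩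
    | zero => exact ⟨1, p.primeCompl.one_mem, 0, zero_mem _, by simp⟩
    | add x y _ _ hx hy =>
      obtain ⟨a, ha, z, hz, hz2⟩ := hx
      obtain ⟨a', ha', z', hz', hz2'⟩ := hy
      refine ⟨a * a', p.primeCompl.mul_mem ha ha', a' • z + a • z', add_mem (N.smul_mem _ hz) (N.smul_mem _ hz'), ?_⟩
      rw [Prod.snd_add, Prod.smul_snd, Prod.smul_snd, hz2, hz2', smul_smul, smul_smul, mul_comm a', smul_add]
    | smul r x _ hx =>
      obtain ⟨a, ha, z, hz, hz2⟩ := hx
      obtain ⟨⟨r0, a'⟩, hr⟩ := IsLocalization.surj p.primeCompl r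
      refine ⟨a' * a, p.primeCompl.mul_mem a'.2 ha, r0 • z, N.smul_mem _ hz, ?_⟩
      have h1 : r0 • (a • x) = (r * algebraMap R Rp a') • a • x := by rw [hr, algebraMap_smul]
      rw [Prod.smul_snd, hz2, h1, mul_comm, mul_smul, algebraMap_smul, smul_comm r a x, smul_smul]
  have hNN : ∀ z ∈ M, ∃ a ∉ p, a • z ∈ N := by
    intro z hz
    obtain ⟨a, ha, w, hw, hw2⟩ := hNp z.2
    obtain ⟨a', ha', hk⟩ := hkill (a • z - w) (M.sub_mem (M.toSubmodule.smul_mem a hz) (hNM hw))
      (by rw [Prod.snd_sub, Prod.smul_snd, hw2, sub_self])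
    refine ⟨a' * a, p.primeCompl.mul_mem ha' ha, ?_⟩
    rw [smul_sub, sub_eq_zero, smul_smul] at hk
    rw [hk]
    exact N.smul_mem _ hw
  choose an han hanN using hNN
  let g0 := ∏ z ∈ (G ×ˢ G).attach, an (z.1.1 * z.1.2)
    (M.mul_mem (hGM _ (Finset.mem_product.1 z.2).1) (hGM _ (Finset.mem_product.1 z.2).2))
  have hg0 : g0 ∉ p := prod_mem (S := p.primeCompl) (fun z _ => han _ _)
  have hmul : ∀ x ∈ N, ∀ y ∈ N, g0 • (x * y) ∈ N := by
    intro x hx y hy
    induction hx using Submodule.span_induction with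
    | mem x hx =>
      induction hy using Submodule.span_induction with
      | mem y hy =>
        obtain ⟨r, hr⟩ := Finset.dvd_prod_of_mem
          (fun z : {z // z ∈ G ×ˢ G} => an (z.1.1 * z.1.2)
            (M.mul_mem (hGM _ (Finset.mem_product.1 z.2).1) (hGM _ (Finset.mem_product.1 z.2).2)))
          (Finset.mem_attach _ ⟨(x, y), Finset.mk_mem_product hx hy⟩)
        rw [show g0 = _ from hr, mul_comm, mul_smul]
        exact N.smul_mem _ (hanN _ _)
      | zero => simp
      | add a b _ _ ha hb => rw [mul_add, smul_add]; exact add_mem ha hb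
      | smul r a _ ha => rw [mul_smul_comm, smul_comm]; exact N.smul_mem _ ha
    | zero => simp
    | add a b _ _ ha hb => rw [add_mul, smul_add]; exact add_mem ha hb
    | smul r a _ ha => rw [smul_mul_assoc, smul_comm]; exact N.smul_mem _ ha
  let P : Submodule R (C × B) := Submodule.span R (insert 1 ((fun z => g0 • z) '' (G : Set (C × B))))
  have hPN : P ≤ N := by
    refine Submodule.span_le.2 (Set.insert_subset (Submodule.subset_span (Finset.mem_insert_self _ _)) ?_)
    rintro _ ⟨z, hz, rfl⟩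
    exact N.smul_mem _ (Submodule.subset_span hz)
  have hNP : ∀ x ∈ N, g0 • x ∈ P := by
    intro x hx
    induction hx using Submodule.span_induction with
    | mem x hx => exact Submodule.subset_span (Set.mem_insert_of_mem _ ⟨x, hx, rfl⟩)
    | zero => simp
    | add a b _ _ ha hb => rw [smul_add]; exact add_mem ha hb
    | smul r a _ ha => rw [smul_comm]; exact P.smul_mem _ ha
  have hPP : ∀ x ∈ P, ∀ y ∈ P, x * y ∈ P := by
    intro x hx y hy
    induction hx using Submodule.span_induction with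
    | mem x hx =>
      induction hy using Submodule.span_induction with
      | mem y hy =>
        rcases Set.mem_insert_iff.1 hx with rfl | ⟨a, ha, rfl⟩
        · rw [one_mul]; exact Submodule.subset_span hy
        rcases Set.mem_insert_iff.1 hy with rfl | ⟨b, hb, rfl⟩
        · rw [mul_one]; exact Submodule.subset_span hx
        simp only [smul_mul_assoc, mul_smul_comm]
        exact hNP _ (hmul _ (Submodule.subset_span ha) _ (Submodule.subset_span hb))
      | zero => simp
      | add a b _ _ ha hb => rw [mul_add]; exact add_mem ha hb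
      | smul r a _ ha => rw [mul_smul_comm]; exact P.smul_mem _ ha
    | zero => simp
    | add a b _ _ ha hb => rw [add_mul]; exact add_mem ha hb
    | smul r a _ ha => rw [smul_mul_assoc]; exact P.smul_mem _ ha
  let S0 : Subalgebra R (C × B) := P.toSubalgebra (Submodule.subset_span (Set.mem_insert _ _)) (fun x y hx hy => hPP x hx y hy)
  have hmem : ∀ z, z ∈ S0 ↔ z ∈ P := fun z => Iff.rfl
  haveI : Module.Finite R S0 := by
    haveI : Module.Finite R P := Module.Finite.span_of_finite R ((Finset.finite_toSet G).image _ |>.insert _)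
    exact Module.Finite.equiv (LinearEquiv.ofEq P S0.toSubmodule rfl)
  letI : Algebra S0 B := ((AlgHom.snd R C B).comp S0.val).toRingHom.toAlgebra
  haveI : IsScalarTower R S0 B := IsScalarTower.of_algebraMap_eq' ((AlgHom.snd R C B).comp S0.val).comp_algebraMap.symm
  haveI hlocB : IsLocalization (Algebra.algebraMapSubmonoid S0 p.primeCompl) B := by
    refine { map_units := ?_, surj := ?_, exists_of_eq := ?_ }
    · rintro ⟨_, a, ha, rfl⟩
      change IsUnit (algebraMap S0 B (algebraMap R S0 a))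
      rw [← IsScalarTower.algebraMap_apply R S0 B, IsScalarTower.algebraMap_apply R Rp B]
      exact (IsLocalization.map_units Rp ⟨a, ha⟩).map _
    · intro b
      obtain ⟨a, ha, z, hz, hz2⟩ := hNp b
      refine ⟨(⟨g0 • z, hNP z hz⟩, ⟨_, Algebra.mem_algebraMapSubmonoid_of_mem
        (⟨g0 * a, p.primeCompl.mul_mem hg0 ha⟩ : p.primeCompl)⟩), ?_⟩
      change b * algebraMap S0 B (algebraMap R S0 (g0 * a)) = (g0 • z).2
      rw [← IsScalarTower.algebraMap_apply, Prod.smul_snd, hz2, smul_smul, Algebra.smul_def, mul_comm]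
    · intro x y hxy
      obtain ⟨a, ha, hk⟩ := hkill _ (M.sub_mem (hNM (hPN x.2)) (hNM (hPN y.2))) (sub_eq_zero.2 hxy)
      refine ⟨⟨_, Algebra.mem_algebraMapSubmonoid_of_mem (⟨a, ha⟩ : p.primeCompl)⟩, Subtype.ext ?_⟩
      change algebraMap R (C × B) a * x.1 = algebraMap R (C × B) a * y.1
      rw [← Algebra.smul_def, ← Algebra.smul_def, ← sub_eq_zero, ← smul_sub]
      exact hk
  haveI : Algebra.IsPushout R Rp S0 B :=
    (Algebra.isPushout_of_isLocalization p.primeCompl Rp S0 B).symm
  haveI : Algebra.Etale Rp (Rp ⊗[R] S0) := Algebra.Etale.of_equiv (Algebra.IsPushout.equiv R Rp S0 B).symm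
  obtain ⟨g1, hg1, het⟩ := exists_etale_away (S := S0) p
  refine ⟨g0 * g1, p.primeCompl.mul_mem hg0 hg1, S0, inferInstance, inferInstance,
    (AlgHom.fst R C B).comp S0.val, inferInstance, ?_, fun h hh => ⟨fun c => ?_, fun x hx => ?_⟩⟩
  · letI : Algebra (Localization.Away g1) (Localization.Away (g0 * g1)) :=
      (IsLocalization.Away.lift g1 (S := Localization.Away g1) (g := algebraMap R (Localization.Away (g0 * g1)))
        (isUnit_of_dvd_unit (map_dvd _ (Dvd.intro_left g0 rfl)) (IsLocalization.Away.algebraMap_isUnit (g0 * g1)))).toAlgebra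
    haveI : IsScalarTower R (Localization.Away g1) (Localization.Away (g0 * g1)) :=
      IsScalarTower.of_algebraMap_eq fun r => (IsLocalization.Away.lift_eq g1 _ r).symm
    exact Algebra.Etale.of_equiv (Algebra.TensorProduct.cancelBaseChange R (Localization.Away g1) (Localization.Away (g0 * g1)) (Localization.Away (g0 * g1)) S0)
  · obtain ⟨n, hn⟩ := ht h hh c
    have key : ∀ y ∈ Submodule.span R (t h hh : Set C), ∃ m : ℕ, ∃ z ∈ N, z.1 = h ^ m • y := by
      intro y hy
      induction hy using Submodule.span_induction with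
      | mem x hx => exact ⟨nh h hh x, zh h hh x, Submodule.subset_span (by
          simp only [G, Finset.coe_insert, Set.mem_insert_iff, Finset.mem_coe, Finset.mem_union,
            Finset.mem_biUnion, Finset.mem_image, Finset.mem_attach, true_and, Subtype.exists]
          exact Or.inr (Or.inr ⟨h, hh, x, hx, rfl⟩)), hzh1 h hh x⟩
      | zero => exact ⟨0, 0, zero_mem _, by simp⟩
      | add x y _ _ hx hy =>
        obtain ⟨m, z, hz, hz1⟩ := hx
        obtain ⟨m', z', hz', hz1'⟩ := hy
        refine ⟨m + m', h ^ m' • z + h ^ m • z', add_mem (N.smul_mem _ hz) (N.smul_mem _ hz'), ?_⟩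
        rw [Prod.fst_add, Prod.smul_fst, Prod.smul_fst, hz1, hz1', smul_smul, smul_smul, ← pow_add, ← pow_add, smul_add, add_comm m']
      | smul r x _ hx =>
        obtain ⟨m, z, hz, hz1⟩ := hx
        exact ⟨m, r • z, N.smul_mem _ hz, by rw [Prod.smul_fst, hz1, smul_comm]⟩
    obtain ⟨m, z, hz, hz1⟩ := key _ hn
    refine ⟨m + n + 1, (g0 ^ (m + n) * g1 ^ (m + n + 1) * h) • ⟨g0 • z, hNP z hz⟩, ?_⟩
    rw [map_smul]
    change (g0 ^ (m + n) * g1 ^ (m + n + 1) * h) • (g0 • z).1 = _
    rw [Prod.smul_fst, hz1, smul_smul, smul_smul, smul_smul]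
    congr 1
    ring
  · have hM' : algebraMap C Cp x.1.1 = ρ x.1.2 := (hM _).1 (hNM (hPN x.2))
    obtain ⟨n, hn⟩ := hinj h hh x.1.2 (by rw [← hM', show x.1.1 = 0 from hx, map_zero])
    refine ⟨n, Subtype.ext ?_⟩
    change (g0 * g1 * h) ^ n • x.1 = 0
    refine Prod.ext ?_ ?_
    · rw [Prod.smul_fst, show x.1.1 = 0 from hx, smul_zero]; rfl
    · rw [Prod.smul_snd, mul_pow, mul_smul, hn, smul_zero]; rfl

end Groth.L13.Purity.SpreadAlg
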