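import Groth.Agent.L13.Purity.Core
import Groth.Agent.L13.Purity.Normal
import Groth.Agent.L13.Purity.Punctured
import Groth.Agent.L13.Purity.Params
import Mathlib.RingTheory.Etale.Field
import Mathlib.RingTheory.Smooth.IntegralClosure
import Mathlib.RingTheory.Regular.Free
import Mathlib.RingTheory.TensorProduct.Quotient
import Mathlib.RingTheory.Etale.Pi

/-! The inductive step of purity: dimension at least three. -/

set_option autoImplicit false
set_option linter.style.haveILetI false
set_option backward.isDefEq.respectTransparency false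

universe u

open TensorProduct IsLocalRing Pointwise

namespace Groth.L13.Purity

/-- unramified over all height one primes of the base -/
def UnramifiedCodimOne (R B : Type u) [CommRing R] [CommRing B] [Algebra R B] : Prop :=
  ∀ (P : Ideal B) [P.IsPrime], (P.comap (algebraMap R B)).height = 1 → Algebra.IsUnramifiedAt R P

/-- purity holds for normalisations over the domain `R` -/
def Pure (R : Type u) [CommRing R] : Prop :=
  ∀ (K L B : Type u) [Field K] [Field L] [CommRing B] [Algebra R K] [IsFractionRing R K] [Algebra K L] [Algebra R L]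
    [IsScalarTower R K L] [FiniteDimensional K L] [Algebra.IsSeparable K L] [Algebra R B] [Algebra B L]
    [IsScalarTower R B L] [IsIntegralClosure B R L], UnramifiedCodimOne R B → Algebra.Etale R B

section Quot

variable {R : Type u} [CommRing R] {x : R} (B : Type u) [CommRing B] [Algebra R B]
  (Kb : Type u) [Field Kb] [Algebra (R ⧸ Ideal.span {x}) Kb] [IsFractionRing (R ⧸ Ideal.span {x}) Kb] [Algebra R Kb]
  [IsScalarTower R (R ⧸ Ideal.span {x}) Kb]

/-- the kernel of the passage to the generic point of the divisor -/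
theorem exists_notMem_mul_mem [IsDomain (R ⧸ Ideal.span {x})] {b : B} (hb : (1 : Kb) ⊗ₜ[R] b = 0) :
    ∃ r : R, r ∉ Ideal.span {x} ∧ algebraMap R B r * b ∈ Ideal.span {algebraMap R B x} := by
  let Rb := R ⧸ Ideal.span {x}
  let g : Rb ⊗[R] B →ₗ[Rb] Kb ⊗[Rb] (Rb ⊗[R] B) := TensorProduct.mk Rb Kb (Rb ⊗[R] B) 1
  haveI : IsLocalizedModule (nonZeroDivisors Rb) g :=
    (isLocalizedModule_iff_isBaseChange (nonZeroDivisors Rb) Kb _).2 (TensorProduct.isBaseChange Rb (Rb ⊗[R] B) Kb)
  have h0 : g ((1 : Rb) ⊗ₜ[R] b) = 0 := by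
    apply (TensorProduct.AlgebraTensorModule.cancelBaseChange R Rb Kb Kb B).injective
    rw [map_zero]
    show TensorProduct.AlgebraTensorModule.cancelBaseChange R Rb Kb Kb B ((1 : Kb) ⊗ₜ[Rb] ((1 : Rb) ⊗ₜ[R] b)) = 0
    rw [TensorProduct.AlgebraTensorModule.cancelBaseChange_tmul, one_smul]
    exact hb
  obtain ⟨⟨c, hc⟩, hc0⟩ := (IsLocalizedModule.eq_zero_iff (nonZeroDivisors Rb) g).1 h0
  obtain ⟨r, rfl⟩ := Ideal.Quotient.mk_surjective c
  refine ⟨r, fun h => ?_, ?_⟩
  · exact nonZeroDivisors.ne_zero hc (Ideal.Quotient.eq_zero_iff_mem.2 h)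
  · have h1 := (Groth.L23.ker_includeRight_of_surjective (P := R) (B := Rb) (M := B) Ideal.Quotient.mk_surjective).1
    have h2 : algebraMap R B r * b ∈ RingHom.ker (Algebra.TensorProduct.includeRight : B →ₐ[R] Rb ⊗[R] B) := by
      rw [RingHom.mem_ker, Algebra.TensorProduct.includeRight_apply, ← Algebra.smul_def, tmul_smul, smul_tmul']
      rw [Submonoid.smul_def, smul_tmul', smul_eq_mul, mul_one] at hc0
      rw [Algebra.smul_def, mul_one]
      exact hc0
    rw [h1, Ideal.Quotient.algebraMap_eq, Ideal.mk_ker, Ideal.map_span, Set.image_singleton] at h2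
    exact h2

set_option maxHeartbeats 1000000 in
/-- integral elements over the divisor live on the etale locus -/
theorem exists_pow_mul_eq [IsDomain (R ⧸ Ideal.span {x})] [IsIntegrallyClosed (R ⧸ Ideal.span {x})]
    {f : R} (hf : f ∉ Ideal.span {x}) [Algebra.Etale (Localization.Away f) (Localization.Away f ⊗[R] B)]
    {z : Kb ⊗[R] B} (hz : IsIntegral (R ⧸ Ideal.span {x}) z) :
    ∃ (k : ℕ) (b : B), (1 : Kb) ⊗ₜ[R] b = algebraMap R (Kb ⊗[R] B) f ^ k * z := by
  let Rb := R ⧸ Ideal.span {x}
  let fb : Rb := algebraMap R Rb f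
  let Rbf := Localization.Away fb
  have hfb : fb ≠ 0 := fun h => hf (Ideal.Quotient.eq_zero_iff_mem.1 h)
  have hufK : IsUnit (algebraMap Rb Kb fb) :=
    isUnit_iff_ne_zero.2 ((map_ne_zero_iff _ (IsFractionRing.injective Rb Kb)).2 hfb)
  letI : Algebra Rbf Kb := (IsLocalization.Away.lift fb hufK : Rbf →+* Kb).toAlgebra
  haveI : IsScalarTower Rb Rbf Kb := IsScalarTower.of_algebraMap_eq fun r =>
    (IsLocalization.Away.lift_eq fb hufK r).symm
  haveI : IsScalarTower R Rbf Kb := IsScalarTower.of_algebraMap_eq fun r => by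
    rw [IsScalarTower.algebraMap_apply R Rb Rbf, ← IsScalarTower.algebraMap_apply Rb Rbf Kb,
      ← IsScalarTower.algebraMap_apply]
  have hufR : IsUnit (algebraMap R Rbf f) := by
    rw [IsScalarTower.algebraMap_apply R Rb Rbf]
    exact IsLocalization.Away.algebraMap_isUnit fb
  letI : Algebra (Localization.Away f) Rbf := (IsLocalization.Away.lift f hufR : Localization.Away f →+* Rbf).toAlgebra
  haveI : IsScalarTower R (Localization.Away f) Rbf := IsScalarTower.of_algebraMap_eq fun r =>
    (IsLocalization.Away.lift_eq f hufR r).symm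
  let S := Rbf ⊗[R] B
  haveI : Algebra.Etale Rbf S :=
    Algebra.Etale.of_equiv (Algebra.TensorProduct.cancelBaseChange R (Localization.Away f) Rbf Rbf B)
  haveI : Algebra.Etale Rb Rbf := Algebra.Etale.of_isLocalizationAway fb
  haveI : Algebra.Etale Rb S := Algebra.Etale.comp Rb Rbf S
  haveI : IsScalarTower R Rb S := inferInstance
  haveI : IsScalarTower R Rb (S ⊗[Rb] Kb) := IsScalarTower.of_algebraMap_eq (R := R) (S := Rb) (A := S ⊗[Rb] Kb) fun r =>
    congrArg (fun v : S => v ⊗ₜ[Rb] (1 : Kb)) (IsScalarTower.algebraMap_apply R Rb S r)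
  let φ :=
    Algebra.TensorProduct.productMap (R := R) (S := S ⊗[Rb] Kb)
      ((Algebra.TensorProduct.includeRight : Kb →ₐ[Rb] S ⊗[Rb] Kb).restrictScalars R)
      (((Algebra.TensorProduct.includeLeft : S →ₐ[Rb] S ⊗[Rb] Kb).restrictScalars R).comp
        (Algebra.TensorProduct.includeRight : B →ₐ[R] S))
  let μ : S →ₐ[R] Kb ⊗[R] B := Algebra.TensorProduct.map (IsScalarTower.toAlgHom R Rbf Kb) (AlgHom.id R B)
  have hμRb : ∀ r : Rb, μ (algebraMap Rb S r) = algebraMap Rb (Kb ⊗[R] B) r := fun r => by
    obtain ⟨r, rfl⟩ := Ideal.Quotient.mk_surjective r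
    rw [← Ideal.Quotient.algebraMap_eq, ← IsScalarTower.algebraMap_apply, ← IsScalarTower.algebraMap_apply,
      AlgHom.commutes]
  let μ' : S →ₐ[Rb] Kb ⊗[R] B := { μ with commutes' := hμRb }
  let ψ :=
    Algebra.TensorProduct.productMap (R := Rb) (S := Kb ⊗[R] B) μ' (Algebra.TensorProduct.includeLeft : Kb →ₐ[Rb] Kb ⊗[R] B)
  have hψφ : ∀ w, ψ (φ w) = w := by
    intro w
    induction w with
    | zero => simp
    | add a b ha hb => simp [ha, hb]
    | tmul a b =>
      simp [φ, ψ, μ', μ]
      erw [Algebra.TensorProduct.includeRight_apply, Algebra.TensorProduct.map_tmul]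
      simp
  haveI : Algebra.IsIntegral R Rb := ⟨fun y => by
    obtain ⟨r, rfl⟩ := Ideal.Quotient.mk_surjective y
    exact isIntegral_algebraMap⟩
  have hφz : IsIntegral R (φ z) := (isIntegral_trans z hz).map φ
  obtain ⟨w, hw⟩ := (TensorProduct.toIntegralClosure_bijective_of_smooth (R := Rb) (S := S) (B := Kb)).2
    ⟨φ z, hφz.tower_top⟩
  have hw' : ∃ s : S, φ z = s ⊗ₜ[Rb] (1 : Kb) := by
    have h1 : (Algebra.TensorProduct.map (AlgHom.id S S) (integralClosure Rb Kb).val) w = φ z :=
      congrArg Subtype.val hw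
    clear hw
    rw [← h1]
    clear h1
    induction w with
    | zero => exact ⟨0, by simp⟩
    | add a b ha hb =>
      obtain ⟨s, hs⟩ := ha
      obtain ⟨t, ht⟩ := hb
      exact ⟨s + t, by rw [map_add, hs, ht, add_tmul]⟩
    | tmul a v =>
      obtain ⟨v, hv⟩ := v
      rw [IsIntegrallyClosed.integralClosure_eq_bot Rb Kb, Algebra.mem_bot] at hv
      obtain ⟨r, rfl⟩ := hv
      refine ⟨r • a, ?_⟩
      simp [smul_tmul, Algebra.algebraMap_eq_smul_one]
  obtain ⟨s, hs⟩ := hw'
  have hzs : z = μ s := by
    rw [← hψφ z, hs]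
    show μ s * ((1 : Kb) ⊗ₜ[R] (1 : B)) = μ s
    exact mul_one _
  have hnorm : ∀ s : Rbf ⊗[R] B, ∃ (k : ℕ) (b : B),
      algebraMap R (Rbf ⊗[R] B) f ^ k * s = (Algebra.TensorProduct.includeRight : B →ₐ[R] Rbf ⊗[R] B) b := by
    intro s
    induction s with
    | zero => exact ⟨0, 0, by simp⟩
    | add a b ha hb =>
      obtain ⟨k, a', ha'⟩ := ha
      obtain ⟨l, b', hb'⟩ := hb
      refine ⟨k + l, algebraMap R B f ^ l * a' + algebraMap R B f ^ k * b', ?_⟩
      simp only [map_add, map_mul, map_pow, AlgHom.commutes, ← ha', ← hb', pow_add]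
      ring
    | tmul a b =>
      obtain ⟨n, r, hr⟩ := IsLocalization.Away.surj fb a
      obtain ⟨r, rfl⟩ := Ideal.Quotient.mk_surjective r
      refine ⟨n, algebraMap R B r * b, ?_⟩
      rw [map_mul, AlgHom.commutes, Algebra.TensorProduct.algebraMap_apply, Algebra.TensorProduct.algebraMap_apply,
        Algebra.TensorProduct.includeRight_apply, Algebra.TensorProduct.tmul_pow, Algebra.TensorProduct.tmul_mul_tmul,
        Algebra.TensorProduct.tmul_mul_tmul, one_pow, one_mul, mul_one]
      congr 1
      rw [IsScalarTower.algebraMap_apply R Rb Rbf r, Ideal.Quotient.algebraMap_eq, ← hr, mul_comm,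
        IsScalarTower.algebraMap_apply R Rb Rbf f]
  obtain ⟨k, b, hkb⟩ := hnorm s
  refine ⟨k, b, ?_⟩
  rw [hzs, ← AlgHom.commutes μ, ← map_pow, ← map_mul, hkb]
  simp [μ]
  erw [Algebra.TensorProduct.map_tmul]
  simp

end Quot

set_option maxHeartbeats 2000000 in
/-- the normalisation is free in dimension at least three -/
theorem free_step {R : Type u} [CommRing R] [IsRegularLocalRing R] [IsDomain R] [IsIntegrallyClosed R]
    (hd : 3 ≤ ringKrullDim R) (K L B : Type u) [Field K] [Field L] [CommRing B] [Algebra R K] [IsFractionRing R K]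
    [Algebra K L] [Algebra R L] [IsScalarTower R K L] [FiniteDimensional K L] [Algebra R B] [Algebra B L]
    [IsScalarTower R B L] [IsIntegralClosure B R L] [Module.Finite R B]
    (het : ∀ f ∈ maximalIdeal R, Algebra.Etale (Localization.Away f) (Localization.Away f ⊗[R] B))
    (hih : ∀ y ∈ maximalIdeal R, y ∉ maximalIdeal R ^ 2 → Pure (R ⧸ Ideal.span {y}))
    (hint : ∀ y ∈ maximalIdeal R, y ∉ maximalIdeal R ^ 2 → IsIntegrallyClosed (R ⧸ Ideal.span {y})) :
    Module.Free R B := by
  classical
  obtain ⟨x, x₂, x₃, hxm, hx₂m, hx₃m, hxsq, hpx, hp₂, hp₃, hx2, hx3, h23, h32, hP, hxP⟩ := exists_params R hd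
  obtain ⟨hreg, hdim⟩ := Groth.L01.regular_quotient_of_notMem_sq hxm hxsq
  haveI := hreg
  let Rb := R ⧸ Ideal.span {x}
  haveI : IsDomain Rb := Groth.L01.isDomain_of_regular Rb
  haveI : IsIntegrallyClosed Rb := hint x hxm hxsq
  let Kb := FractionRing Rb
  have hx2' : x₂ ∉ Ideal.span {x} := fun h => hx2 (Ideal.mem_span_singleton.1 h)
  have hx3' : x₃ ∉ Ideal.span {x} := fun h => hx3 (Ideal.mem_span_singleton.1 h)
  -- the generic point of the divisor
  have hu : IsUnit (algebraMap R Kb x₂) := by
    rw [IsScalarTower.algebraMap_apply R Rb Kb, isUnit_iff_ne_zero]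
    exact (map_ne_zero_iff _ (IsFractionRing.injective Rb Kb)).2 fun h => hx2' (Ideal.Quotient.eq_zero_iff_mem.1 h)
  letI : Algebra (Localization.Away x₂) Kb := (IsLocalization.Away.lift x₂ hu : Localization.Away x₂ →+* Kb).toAlgebra
  haveI : IsScalarTower R (Localization.Away x₂) Kb := IsScalarTower.of_algebraMap_eq fun r =>
    (IsLocalization.Away.lift_eq x₂ hu r).symm
  haveI := het x₂ hx₂m
  haveI : Algebra.Etale Kb (Kb ⊗[R] B) :=
    Algebra.Etale.of_equiv (Algebra.TensorProduct.cancelBaseChange R (Localization.Away x₂) Kb Kb B)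
  obtain ⟨ι', hfin, F, _, _, e, hF⟩ := (Algebra.Etale.iff_exists_algEquiv_prod (K := Kb) (A := Kb ⊗[R] B)).1 inferInstance
  haveI := hfin
  letI algRb : ∀ i, Algebra Rb (F i) := fun i => ((algebraMap Kb (F i)).comp (algebraMap Rb Kb)).toAlgebra
  haveI towRb : ∀ i, IsScalarTower Rb Kb (F i) := fun i => IsScalarTower.of_algebraMap_eq fun r => rfl
  letI algR : ∀ i, Algebra R (F i) := fun i => ((algebraMap Rb (F i)).comp (algebraMap R Rb)).toAlgebra
  haveI towR : ∀ i, IsScalarTower R Rb (F i) := fun i => IsScalarTower.of_algebraMap_eq fun r => rfl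
  haveI towRK : ∀ i, IsScalarTower R Kb (F i) := fun i => IsScalarTower.of_algebraMap_eq fun r => by
    rw [IsScalarTower.algebraMap_apply R Rb Kb, ← IsScalarTower.algebraMap_apply Rb Kb (F i)]
    rfl
  let C : ι' → Type u := fun i => integralClosure Rb (F i)
  haveI hint' : Algebra.IsIntegral R B := Algebra.IsIntegral.of_finite R B
  let g : B →ₐ[R] (∀ i, F i) :=
    ((e.restrictScalars R).toAlgHom).comp (Algebra.TensorProduct.includeRight : B →ₐ[R] Kb ⊗[R] B)
  have hgint : ∀ b i, g b i ∈ integralClosure Rb (F i) := fun b i =>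
    ((Algebra.IsIntegral.isIntegral (R := R) b).map ((Pi.evalAlgHom R F i).comp g)).tower_top
  let ι : B →ₐ[R] (∀ i, integralClosure Rb (F i)) :=
    { toFun := fun b i => ⟨g b i, hgint b i⟩
      map_one' := by funext i; exact Subtype.ext (by simp)
      map_mul' := fun a b => by funext i; exact Subtype.ext (by simp)
      map_zero' := by funext i; exact Subtype.ext (by simp)
      map_add' := fun a b => by funext i; exact Subtype.ext (by simp)
      commutes' := fun r => by funext i; exact Subtype.ext (by simp) }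
  -- regular pairs
  have hreg : ∀ {a b : R}, Prime a → ¬ a ∣ b → ∀ z : B,
      algebraMap R B b * z ∈ Ideal.span {algebraMap R B a} → z ∈ Ideal.span {algebraMap R B a} :=
    fun {a b} ha hab z hz => mem_span_of_mul_mem K L B ha.ne_zero (by rintro rfl; exact hab (dvd_zero a))
      (fun r hr => (ha.dvd_or_dvd hr).resolve_left hab) hz
  have hker : RingHom.ker ι = Ideal.span {algebraMap R B x} := by
    refine le_antisymm (fun b hb => ?_) ((Ideal.span_singleton_le_iff_mem _).2 ?_)
    · have h1 : (1 : Kb) ⊗ₜ[R] b = 0 := e.injective (by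
        rw [map_zero]
        funext i
        exact congrArg Subtype.val (congrFun hb i))
      obtain ⟨r, hr, hrb⟩ := exists_notMem_mul_mem (x := x) B Kb h1
      exact hreg hpx (fun h => hr (Ideal.mem_span_singleton.2 h)) b hrb
    · rw [RingHom.mem_ker, AlgHom.commutes, IsScalarTower.algebraMap_apply R Rb (∀ i, integralClosure Rb (F i)),
        Ideal.Quotient.algebraMap_eq, Ideal.Quotient.eq_zero_iff_mem.2 (Ideal.mem_span_singleton_self _), map_zero]
  have hloc : ∀ f ∈ maximalIdeal R, f ∉ Ideal.span {x} → ∀ c, ∃ (k : ℕ) (b : B),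
      ι b = algebraMap R (∀ i, integralClosure Rb (F i)) f ^ k * c := by
    intro f hfm hf c
    haveI := het f hfm
    let c₀ : ∀ i, F i := fun i => (c i).1
    have h1 : IsIntegral Rb c₀ := by
      cases nonempty_fintype ι'
      rw [show c₀ = ∑ i, Pi.single i (c i).1 from (Finset.univ_sum_single c₀).symm]
      refine IsIntegral.sum _ fun i _ => ?_
      obtain ⟨p, hp, hp'⟩ := (c i).2
      refine ⟨Polynomial.X * p, Polynomial.monic_X.mul hp, ?_⟩
      rw [← Polynomial.aeval_def]
      funext j
      rw [← Pi.evalAlgHom_apply Rb F j (Polynomial.aeval _ _), ← Polynomial.aeval_algHom_apply]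
      rcases eq_or_ne j i with rfl | hne
      · rw [Pi.evalAlgHom_apply, Pi.single_eq_same, map_mul]
        rw [show Polynomial.aeval (c j).1 p = 0 from (Polynomial.aeval_def _ _).trans hp', mul_zero]
        rfl
      · rw [Pi.evalAlgHom_apply, Pi.single_eq_of_ne hne, map_mul, Polynomial.aeval_X, zero_mul]
        rfl
    obtain ⟨k, b, hb⟩ := exists_pow_mul_eq B Kb hf (h1.map ((e.symm.restrictScalars Rb).toAlgHom))
    refine ⟨k, b, ?_⟩
    funext i
    refine Subtype.ext ?_
    show g b i = _
    have h2 := congrFun (congrArg (e.restrictScalars R) hb) i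
    refine h2.trans ?_
    rw [map_mul, map_pow, AlgEquiv.commutes]
    show algebraMap R (∀ i, F i) f i ^ k * e (e.symm c₀) i = _
    rw [e.apply_symm_apply]
    simp [c₀]
  -- the normalisation of the divisor is etale
  haveI hC : ∀ i, Algebra.Etale Rb (integralClosure Rb (F i)) := by
    intro i
    haveI := (hF i).1
    haveI := (hF i).2
    refine hih x hxm hxsq Kb (F i) (integralClosure Rb (F i)) fun Q hQ hQ1 => ?_
    let q := Q.comap (algebraMap Rb (integralClosure Rb (F i)))
    haveI : q.IsPrime := Ideal.comap_isPrime _ _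
    have hne : ¬ maximalIdeal Rb ≤ q := by
      intro hle
      have h0 : q = maximalIdeal Rb := le_antisymm (le_maximalIdeal Ideal.IsPrime.ne_top') hle
      have h1 := IsLocalRing.maximalIdeal_height_eq_ringKrullDim (R := Rb)
      rw [show q.height = (maximalIdeal Rb).height by rw [h0]] at hQ1
      rw [hQ1] at h1
      rw [← h1] at hdim
      rw [← hdim] at hd
      exact absurd hd (by decide)
    obtain ⟨fb, hfb, hfq⟩ := SetLike.not_le_iff_exists.1 hne
    obtain ⟨f, rfl⟩ := Ideal.Quotient.mk_surjective fb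
    have hfm : f ∈ maximalIdeal R := by
      by_contra hu
      exact (mem_maximalIdeal _).1 hfb ((notMem_maximalIdeal.1 hu).map _)
    have hfx : f ∉ Ideal.span {x} := fun h => hfq (by
      rw [Ideal.Quotient.eq_zero_iff_mem.2 h]; exact zero_mem q)
    haveI := het f hfm
    let Ci := integralClosure Rb (F i)
    let fc : Ci := algebraMap R Ci f
    let Cf := Localization.Away fc
    let Rf := Localization.Away f
    have huf : IsUnit (algebraMap R Cf f) := by
      rw [IsScalarTower.algebraMap_apply R Ci Cf]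
      exact IsLocalization.Away.algebraMap_isUnit fc
    let η : Rf →ₐ[R] Cf := IsLocalization.liftAlgHom (M := Submonoid.powers f) (f := Algebra.ofId R Cf)
      (fun ⟨y, n, hy⟩ => by subst hy; rw [map_pow]; exact huf.pow n)
    let θ : Rf ⊗[R] B →ₐ[R] Cf := Algebra.TensorProduct.lift η
      ((IsScalarTower.toAlgHom R Ci Cf).comp ((Pi.evalAlgHom R (fun i => integralClosure Rb (F i)) i).comp ι))
      (fun _ _ => Commute.all _ _)
    have hθ : Function.Surjective θ := by
      intro y
      obtain ⟨n, a, ha⟩ := IsLocalization.Away.surj fc y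
      obtain ⟨k, b, hb⟩ := hloc f hfm hfx (Pi.single i a)
      obtain ⟨v, hv⟩ := (IsLocalization.Away.algebraMap_isUnit (S := Rf) f).pow (k + n)
      refine ⟨(↑v⁻¹ : Rf) ⊗ₜ b, ?_⟩
      have hb' : ι b i = algebraMap R Ci f ^ k * a := by
        rw [hb]
        show (algebraMap R (∀ i, integralClosure Rb (F i)) f ^ k * Pi.single i a : ∀ i, integralClosure Rb (F i)) i = _
        simp [Ci]
      rw [← (huf.pow (k + n)).mul_right_inj]
      have h2 : algebraMap R Cf f ^ (k + n) * η (↑v⁻¹ : Rf) = 1 := by
        rw [← AlgHom.commutes η, ← map_pow, ← map_mul, ← hv, Units.mul_inv, map_one]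
      show algebraMap R Cf f ^ (k + n) * (η (↑v⁻¹ : Rf) * algebraMap Ci Cf (ι b i)) = _
      rw [← mul_assoc, h2, one_mul, hb', map_mul, map_pow, ← IsScalarTower.algebraMap_apply R Ci Cf, ← ha,
        show algebraMap Ci Cf fc = algebraMap R Cf f from (IsScalarTower.algebraMap_apply R Ci Cf f).symm, pow_add]
      ring
    haveI : Algebra.FormallyUnramified R Rf := inferInstance
    haveI : Algebra.FormallyUnramified R (Rf ⊗[R] B) := Algebra.FormallyUnramified.comp R Rf (Rf ⊗[R] B)
    haveI : Algebra.FormallyUnramified R Cf := Algebra.FormallyUnramified.of_surjective θ hθ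
    haveI : Algebra.FormallyUnramified Rb Cf := Algebra.FormallyUnramified.of_restrictScalars R Rb Cf
    have hfQ : IsUnit (algebraMap Ci (Localization.AtPrime Q) fc) :=
      IsLocalization.map_units (Localization.AtPrime Q) (⟨fc, fun h => hfq h⟩ : Q.primeCompl)
    letI : Algebra Cf (Localization.AtPrime Q) := (IsLocalization.Away.lift fc hfQ : Cf →+* Localization.AtPrime Q).toAlgebra
    haveI : IsScalarTower Ci Cf (Localization.AtPrime Q) := IsScalarTower.of_algebraMap_eq fun r =>
      (IsLocalization.Away.lift_eq fc hfQ r).symm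
    haveI : IsScalarTower Rb Cf (Localization.AtPrime Q) := IsScalarTower.of_algebraMap_eq fun r => by
      rw [IsScalarTower.algebraMap_apply Rb Ci Cf, ← IsScalarTower.algebraMap_apply Ci Cf (Localization.AtPrime Q),
        ← IsScalarTower.algebraMap_apply]
    haveI : Algebra.FormallyUnramified Cf (Localization.AtPrime Q) :=
      Algebra.FormallyUnramified.of_restrictScalars Ci Cf (Localization.AtPrime Q)
    exact Algebra.FormallyUnramified.comp Rb Cf (Localization.AtPrime Q)
  haveI : Algebra.Etale Rb (∀ i, integralClosure Rb (F i)) := inferInstance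
  -- lifting
  have hsurj : Function.Surjective ι := by
    refine surjective_of_lift (P₀ := Rb) Ideal.Quotient.mk_surjective x x₂ x₃ ι hker (hloc x₂ hx₂m hx2')
      (hloc x₃ hx₃m hx3') (fun c hc => ?_) (fun b hb => ?_) (hreg hpx hx2) (hreg hpx hx3) (fun k b hb => ?_) ?_
    · funext i
      refine Subtype.ext ?_
      have h1 : algebraMap R (F i) x₂ * (c i).1 = 0 := by
        have h2 := congrArg Subtype.val (congrFun hc i)
        simpa using h2
      refine (mul_eq_zero.1 h1).resolve_left ?_
      rw [IsScalarTower.algebraMap_apply R Kb (F i)]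
      exact (map_ne_zero_iff _ (algebraMap Kb (F i)).injective).2 hu.ne_zero
    · haveI : IsDomain B := (IsIntegralClosure.algebraMap_injective B R L).isDomain (algebraMap B L)
      refine (mul_eq_zero.1 hb).resolve_left fun h0 => hpx.ne_zero ?_
      have h2 := congrArg (algebraMap B L) h0
      rw [← IsScalarTower.algebraMap_apply, map_zero, IsScalarTower.algebraMap_apply R K L] at h2
      exact (map_eq_zero_iff _ (IsFractionRing.injective R K)).1 ((map_eq_zero_iff _ (algebraMap K L).injective).1 h2)
    · rw [← map_pow, ← map_pow] at hb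
      rw [← map_pow]
      refine mem_span_of_mul_mem K L B (pow_ne_zero k hp₂.ne_zero) (pow_ne_zero k hp₃.ne_zero) (fun r hr => ?_) hb
      exact hp₂.pow_dvd_of_dvd_mul_left k (fun h => h23 (hp₂.dvd_of_dvd_pow h)) hr
    · haveI := het x hxm
      obtain ⟨N, n, i₀, p₀, hip⟩ := exists_power_split (B := B) x
      refine ⟨N, fun m k z u v huv => ?_⟩
      have hmem : ∀ (m : ℕ) (r : R), x ^ m * r ∈ Ideal.span {x₂ ^ k, x₃ ^ k} → r ∈ Ideal.span {x₂ ^ k, x₃ ^ k} := by
        intro m
        induction m with
        | zero => intro r hr; simpa using hr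
        | succ m ih =>
          intro r hr
          exact ih r (mem_of_mul_mem_pow hp₂ hp₃ h23 h32 hP hxP k k _ (by rwa [← mul_assoc, ← pow_succ']))
      simp only [← map_pow, ← Algebra.smul_def] at huv ⊢
      have h2 := congrArg i₀ huv
      rw [map_add, map_smul, map_smul, map_smul] at h2
      have h3 : ∀ j, ∃ a b : R, a * x₂ ^ k + b * x₃ ^ k = i₀ z j := fun j => Ideal.mem_span_pair.1 (hmem m _ (by
        have h4 := congrFun h2 j
        simp only [Pi.smul_apply, Pi.add_apply, smul_eq_mul] at h4
        exact Ideal.mem_span_pair.2 ⟨i₀ u j, i₀ v j, by rw [h4]; ring⟩))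
      choose a b hab using h3
      refine ⟨p₀ a, p₀ b, ?_⟩
      rw [← hip z, ← map_smul, ← map_smul, ← map_add]
      congr 1
      funext j
      rw [← hab j]
      simp [mul_comm]
  -- freeness
  haveI : IsNoetherianRing Rb := inferInstance
  have hfinC : Module.Finite Rb (∀ i, integralClosure Rb (F i)) := by
    haveI : Module.Finite R (∀ i, integralClosure Rb (F i)) := Module.Finite.of_surjective ι.toLinearMap hsurj
    exact Module.Finite.of_restrictScalars_finite R Rb _
  haveI := hfinC
  haveI : Module.Flat Rb (∀ i, integralClosure Rb (F i)) := inferInstance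
  haveI : Module.Free Rb (∀ i, integralClosure Rb (F i)) := Module.free_of_flat_of_isLocalRing
  have hkerl : LinearMap.ker ι.toLinearMap = x • (⊤ : Submodule R B) := by
    ext b
    rw [LinearMap.mem_ker, AlgHom.toLinearMap_apply, ← RingHom.mem_ker, hker, Ideal.mem_span_singleton,
      Submodule.mem_smul_pointwise_iff_exists]
    simp [dvd_def, Algebra.smul_def, eq_comm]
  let eQ : QuotSMulTop x B ≃ₗ[R] (∀ i, integralClosure Rb (F i)) :=
    (Submodule.quotEquivOfEq _ _ hkerl.symm).trans (LinearMap.quotKerEquivOfSurjective ι.toLinearMap hsurj)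
  haveI : Module.Free Rb (QuotSMulTop x B) :=
    Module.Free.of_equiv (LinearEquiv.extendScalarsOfSurjective Ideal.Quotient.mk_surjective eQ.symm)
  haveI : Module.FinitePresentation R B := Module.finitePresentation_of_finite R B
  refine (Module.free_quotSMulTop_iff_free R B (by rw [IsLocalRing.jacobson_eq_maximalIdeal ⊥ bot_ne_top]; exact hxm) ?_).1
    inferInstance
  rw [isSMulRegular_iff_right_eq_zero_of_smul]
  intro b hb
  haveI : IsDomain B := (IsIntegralClosure.algebraMap_injective B R L).isDomain (algebraMap B L)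
  rw [Algebra.smul_def] at hb
  refine (mul_eq_zero.1 hb).resolve_left fun h0 => hpx.ne_zero ?_
  have h2 := congrArg (algebraMap B L) h0
  rw [← IsScalarTower.algebraMap_apply, map_zero, IsScalarTower.algebraMap_apply R K L] at h2
  exact (map_eq_zero_iff _ (IsFractionRing.injective R K)).1 ((map_eq_zero_iff _ (algebraMap K L).injective).1 h2)

end Groth.L13.Purity
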